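import Cfsg.Agent.KM.Mu.A
import Cfsg.Agent.Blocks.PPart
import Cfsg.Agent.S0969
import Cfsg.Agent.S5001

/-!
# S4576, reduction to quasisimple groups: tools for the covers (helper3)
-/

set_option autoImplicit false
set_option linter.style.haveILetI false
set_option linter.unusedSectionVars false

open Cfsg
open scoped commutatorElement

namespace Cfsg.Agent.KM.Mu

open Cfsg.Agent Cfsg.Agent.Characters.Core Cfsg.Agent.Blocks Cfsg.Agent.TID.Red Cfsg.Agent.KM.BK

universe u v

variable {p : ℕ} [Fact p.Prime] {M : Ideal AlgInt} {G : Type u} [Group G] [Finite G]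
  {B : Set (IrrCharacter G)} {D W : Subgroup G}

omit [Finite G] in
theorem card_ker_mul {H : Type v} [Group H] (f : G →* H) (A : Subgroup G) :
    Nat.card (A ⊓ f.ker : Subgroup G) * Nat.card (A.map f) = Nat.card A := by
  rw [← Subgroup.relIndex_ker]
  exact card_inf_mul A f.ker

theorem card_comap' {H : Type v} [Group H] {f : G →* H} (hf : Function.Surjective f) (A : Subgroup H) :
    Nat.card f.ker * Nat.card A = Nat.card (A.comap f) := by
  have h1 := card_ker_mul f (A.comap f)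
  rwa [Subgroup.map_comap_eq_self_of_surjective hf, inf_eq_right.2 (A.ker_le_comap f)] at h1

theorem eq_one_of_coprime {c : G} {k m : ℕ} (h1 : c ^ p ^ k = 1) (h2 : c ^ m = 1) (hm : ¬ p ∣ m) : c = 1 := by
  have h3 := pow_gcd_eq_one.2 ⟨h1, h2⟩
  rwa [Nat.Coprime.pow_left k ((Nat.Prime.coprime_iff_not_dvd Fact.out).2 hm), pow_one] at h3

/-- a `p`-element and a `p`-regular element commuting modulo the centre commute -/
theorem comm_of_reg {r x : G} {k : ℕ} (hr : r ^ p ^ k = 1) (hx : ¬ p ∣ orderOf x)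
    (h : r * x * r⁻¹ * x⁻¹ ∈ Subgroup.center G) : r * x = x * r := by
  set c := r * x * r⁻¹ * x⁻¹ with hc
  have hcc : ∀ g, Commute c g := fun g => (Subgroup.mem_center_iff.1 h g).symm
  have h1 : c ^ orderOf x = 1 := by
    have h2 : c * x = r * x * r⁻¹ := by rw [hc]; group
    have h3 := (hcc x).mul_pow (orderOf x)
    rw [h2, conj_pow, pow_orderOf_eq_one, mul_one, mul_one, mul_inv_cancel] at h3
    exact h3.symm
  have h4 : c ^ p ^ k = 1 := by
    have h2 : c * r⁻¹ = x * r⁻¹ * x⁻¹ := by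
      rw [(hcc r⁻¹).eq, hc]
      group
    have h3 := (hcc r⁻¹).mul_pow (p ^ k)
    rw [h2, conj_pow, inv_pow, hr, inv_one, mul_one, mul_one, mul_inv_cancel] at h3
    exact h3.symm
  have h5 := eq_one_of_coprime h4 h1 hx
  rw [hc, mul_inv_eq_one, mul_inv_eq_iff_eq_mul] at h5
  exact h5

theorem exists_reg_lift {H : Type v} [Group H] {f : G →* H} (hf : Function.Surjective f) {g : H}
    (hg : ¬ p ∣ orderOf g) : ∃ x, f x = g ∧ ¬ p ∣ orderOf x := by
  have hp : p.Prime := Fact.out
  obtain ⟨x, rfl⟩ := hf g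
  obtain ⟨a, y, rfl, h1, ⟨k, hk⟩, h2⟩ := PPart.exists_isPPart p x
  refine ⟨y, ?_, h2⟩
  have : Finite H := Finite.of_surjective f hf
  have h3 : f a = f (a * y) * (f y)⁻¹ := by rw [map_mul, mul_inv_cancel_right]
  have h4 : Commute (f (a * y)) (f y)⁻¹ := (((h1.mul_left (Commute.refl y))).map f).inv_right
  have h5 : f a = 1 := by
    refine eq_one_of_coprime (p := p) (k := k) (m := orderOf (f (a * y)) * orderOf y) ?_ ?_ ?_
    · rw [← map_pow, ← hk, pow_orderOf_eq_one, map_one]
    · rw [h3, h4.mul_pow, pow_mul, pow_orderOf_eq_one, one_pow, one_mul, inv_pow, ← map_pow, mul_comm, pow_mul,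
        pow_orderOf_eq_one, one_pow, map_one, inv_one]
    · exact fun h => (hp.dvd_mul.1 h).elim hg h2
  rw [map_mul, h5, one_mul]

theorem fac_cent_conj {x y : G} (h : IsConj x y) :
    Nat.card (Subgroup.centralizer ({x} : Set G)) = Nat.card (Subgroup.centralizer ({y} : Set G)) := by
  have h1 := Subgroup.card_mul_index (Subgroup.centralizer ({x} : Set G))
  rw [Basic.index_centralizer_isConj h, ← Subgroup.card_mul_index (Subgroup.centralizer ({y} : Set G))] at h1
  exact Nat.eq_of_mul_eq_mul_right (Nat.pos_of_ne_zero Subgroup.index_ne_zero_of_finite) h1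

theorem fac_sylow {x : G} (h : Basic.IsSylowCentralizer p x D) :
    (Nat.card D).factorization p = (Nat.card (Subgroup.centralizer ({x} : Set G))).factorization p := by
  rw [H658.KKL.FongTwo.card_isSylowCentralizer h, (Fact.out : p.Prime).factorization_pow, Finsupp.single_eq_same]

theorem sylow_of_fac {x : G} (hD : IsPGroup p D) (h1 : D ≤ Subgroup.centralizer ({x} : Set G))
    (h2 : (Nat.card (Subgroup.centralizer ({x} : Set G))).factorization p ≤ (Nat.card D).factorization p) :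
    Basic.IsSylowCentralizer p x D := by
  obtain ⟨P, hP, h3⟩ := Basic.exists_isSylowCentralizer hD h1
  rwa [H592.Defect.eq_of_le_of_factorization p hD (Basic.isPGroup_of_isSylowCentralizer hP) h3
    ((fac_sylow hP).trans_le h2)]

theorem exists_cent (hM : IsPModular p M) (hB : IsPBlock M B) (hD : IsDefectGroup p M B D) {χ : IrrCharacter G}
    (hχ : χ ∈ B) {x : G} (hx : ¬ MemLocalIdeal M (centralChar (χ : G → ℂ) x)) :
    ∃ y, IsConj x y ∧ D ≤ Subgroup.centralizer ({y} : Set G) := by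
  obtain ⟨y, h1, h2, -⟩ := S0929.result p M hM B hB D hD x ⟨χ, hχ, hx⟩
  exact ⟨y, h1, fun d hd => Subgroup.mem_centralizer_singleton_iff.2 (Subgroup.mem_centralizer_iff.1 h2 d hd)⟩

theorem fac_le_cent (hM : IsPModular p M) (hB : IsPBlock M B) (hD : IsDefectGroup p M B D) {χ : IrrCharacter G}
    (hχ : χ ∈ B) {x : G} (hx : ¬ MemLocalIdeal M (centralChar (χ : G → ℂ) x)) :
    (Nat.card D).factorization p ≤ (Nat.card (Subgroup.centralizer ({x} : Set G))).factorization p := by
  obtain ⟨y, h1, h2⟩ := exists_cent hM hB hD hχ hx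
  rw [fac_cent_conj h1]
  exact fac_mono h2

theorem height_zero (hM : IsPModular p M) (hB : IsPBlock M B) (hD : IsDefectGroup p M B D) {χ : IrrCharacter G}
    (h : (Nat.card D).factorization p ≤ df p χ) : blockHeight p B (χ : G → ℂ) = 0 := by
  have := Local.isPrime_of_isPModular hM
  refine Nat.sub_eq_zero_iff_le.2 (le_csInf ((Basic.isPBlock_nonempty hB).image _) ?_)
  rintro _ ⟨ψ, hψ, rfl⟩
  have h1 := df_le hM hB hD hψ
  have h2 := df_add (p := p) χ
  have h3 := df_add (p := p) ψ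
  change nu p χ ≤ nu p ψ
  omega

theorem defect_of_unit (hM : IsPModular p M) (hB : IsPBlock M B) {χ : IrrCharacter G} (hχ : χ ∈ B) {x : G}
    (hx : ¬ MemLocalIdeal M (centralChar (χ : G → ℂ) x)) {R : Subgroup G} (hR : Basic.IsSylowCentralizer p x R)
    (h : (Nat.card R).factorization p ≤ df p χ) : IsDefectGroup p M B R := by
  obtain ⟨D, hD⟩ := H592.Defect.exists_defectGroup p hM hB
  obtain ⟨y, h1, h2⟩ := exists_cent hM hB hD hχ hx
  have h3 := sylow_of_fac (H592.Defect.isPGroup_of_isDefectGroup hD) h2 (by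
    rw [← fac_cent_conj h1, ← fac_sylow hR]
    exact h.trans (df_le hM hB hD hχ))
  obtain ⟨c, -, rfl⟩ := Basic.isSylowCentralizer_conj_of_isConj h3 hR h1.symm
  exact Basic.isDefectGroup_conj hD c

/-- central commutators of the defect group lie in the kernel of the characters of height zero -/
theorem comm_triv (hM : IsPModular p M) (hB : IsPBlock M B) (hD : IsDefectGroup p M B D) {χ : IrrCharacter G}
    (hχ : χ ∈ B) (h0 : blockHeight p B (χ : G → ℂ) = 0) {a b : G} (ha : a ∈ D) (hb : b ∈ D)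
    (hc : ⁅a, b⁆ ∈ Subgroup.center G) : (χ : G → ℂ) ⁅a, b⁆ = (χ : G → ℂ) 1 := by
  have h1 := isIrr_apply_one_ne_zero χ.2
  let f : (D ⊓ Subgroup.center G : Subgroup G) →* ℂ :=
    { toFun := fun z => (χ : G → ℂ) z / (χ : G → ℂ) 1
      map_one' := div_self h1
      map_mul' := fun a b => by
        rw [Subgroup.coe_mul, apply_mul_central χ b.2.2]
        ring }
  have h2 : ∀ z : (D ⊓ Subgroup.center G : Subgroup G), (χ : G → ℂ) z = (χ : G → ℂ) 1 * (f.toHomUnits z : ℂ) :=
    fun z => (mul_div_cancel₀ _ h1).symm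
  obtain ⟨μ, hμ⟩ := S5001.result p M hM B hB D hD (D ⊓ Subgroup.center G) inf_le_right
    ((H592.Defect.isPGroup_of_isDefectGroup hD).to_le inf_le_left) inf_le_left f.toHomUnits χ hχ h2 h0
  have h3 : ⁅a, b⁆ ∈ D := D.mul_mem (D.mul_mem (D.mul_mem ha hb) (D.inv_mem ha)) (D.inv_mem hb)
  have h4 := h2 ⟨_, h3, hc⟩
  rw [← hμ] at h4
  have h5 : (⟨⁅a, b⁆, h3⟩ : D) = ⁅(⟨a, ha⟩ : D), (⟨b, hb⟩ : D)⁆ := rfl
  have h6 : μ ⟨⁅a, b⁆, h3⟩ = 1 := by
    rw [h5, map_commutatorElement, commutatorElement_eq_one_iff_mul_comm]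
    exact mul_comm _ _
  change (χ : G → ℂ) ⁅a, b⁆ = _ * ((μ ⟨⁅a, b⁆, h3⟩ : ℂˣ) : ℂ) at h4
  rwa [h6, Units.val_one, mul_one] at h4

theorem exists_unit [M.IsPrime] [Fintype G] {χ : G → ℂ} (hχ : IsClassFunction G χ) {f : G → ℂ}
    (hf : IsClassFunction G f) (hfR : ∀ g, MemLocalRing M (f g))
    (h : ¬ MemLocalIdeal M (∑ g : G, f g * (χ g / χ 1))) : ∃ t, f t ≠ 0 ∧ ¬ MemLocalIdeal M (centralChar χ t) := by
  obtain ⟨T, hT⟩ := ClassSum.exists_reps (G := G)
  rw [hT f _ hf] at h
  obtain ⟨t, -, ht⟩ := Local.exists_not_memLocalIdeal_of_sum h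
  rw [ClassSum.finsum_conj_div hχ] at ht
  refine ⟨t, fun h1 => ht ?_, fun h1 => ht (Local.memLocalIdeal_mul_left (hfR t) h1)⟩
  rw [h1, zero_mul]
  exact Local.memLocalIdeal_zero

open Classical in
theorem sum_reg [Fintype G] {Q : Subgroup G} (hQ : IsPGroup p Q) (hc : Q ≤ Subgroup.center G) (F : G → ℂ)
    (h1 : ∀ q ∈ Q, ∀ w, F (q * w) = F w) (h2 : ∀ w a, IsPPart p w a → a ∉ Q → F w = 0) :
    ∑ w, F w = Nat.card Q * ∑ w, if ¬ p ∣ orderOf w then F w else 0 := by
  letI := Fintype.ofFinite Q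
  have hpart : ∀ (q : Q) (w : G), ¬ p ∣ orderOf ((q : G)⁻¹ * w) → IsPPart p w q := by
    intro q w h
    obtain ⟨k, hk⟩ := IsPGroup.iff_orderOf.1 hQ q
    exact ⟨_, mul_inv_cancel_left _ _, (Subgroup.mem_center_iff.1 (hc q.2) _).symm,
      ⟨k, by rw [Subgroup.orderOf_coe, hk]⟩, h⟩
  have h3 : ∀ w, F w = ∑ q : Q, if ¬ p ∣ orderOf ((q : G)⁻¹ * w) then F ((q : G)⁻¹ * w) else 0 := by
    intro w
    obtain ⟨a, ha⟩ := PPart.exists_isPPart p w
    by_cases h : a ∈ Q
    · rw [Finset.sum_eq_single (⟨a, h⟩ : Q)]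
      · obtain ⟨y, rfl, -, -, hy⟩ := ha
        rw [inv_mul_cancel_left, if_pos hy, h1 a h]
      · intro q _ hq
        exact if_neg fun h4 => hq (Subtype.ext (PPart.isPPart_unique (hpart q w h4) ha))
      · intro h4
        exact absurd (Finset.mem_univ _) h4
    · rw [h2 w a ha h]
      exact (Finset.sum_eq_zero fun q _ =>
        if_neg fun h4 => h (PPart.isPPart_unique (hpart q w h4) ha ▸ q.2)).symm
  have h4 : ∀ q : Q, (∑ w, if ¬ p ∣ orderOf ((q : G)⁻¹ * w) then F ((q : G)⁻¹ * w) else 0) =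
      ∑ w, if ¬ p ∣ orderOf w then F w else 0 := fun q =>
    Equiv.sum_comp (Equiv.mulLeft (q : G)⁻¹) fun w => if ¬ p ∣ orderOf w then F w else 0
  rw [Finset.sum_congr rfl fun w _ => h3 w, Finset.sum_comm, Finset.sum_congr rfl fun (q : Q) _ => h4 q,
    Finset.sum_const, Finset.card_univ, nsmul_eq_mul, Nat.card_eq_fintype_card]

/-- a Sylow subgroup of the preimage -/
theorem exists_R {E : Type v} [Group E] [Finite E] {f : E →* G} (hf : Function.Surjective f) (hD : IsPGroup p D) :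
    ∃ R : Subgroup E, IsPGroup p R ∧ R.map f = D ∧
      (Nat.card R).factorization p = (Nat.card f.ker).factorization p + (Nat.card D).factorization p := by
  obtain ⟨S⟩ : Nonempty (Sylow p (D.comap f)) := inferInstance
  have h1 : IsPGroup p ((S : Subgroup (D.comap f)).map (D.comap f).subtype) := S.2.map _
  have h2 : (Nat.card ((S : Subgroup (D.comap f)).map (D.comap f).subtype)).factorization p =
      (Nat.card f.ker).factorization p + (Nat.card D).factorization p := by
    rw [Subgroup.card_map_of_injective (D.comap f).subtype_injective, S.card_eq_multiplicity,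
      (Fact.out : p.Prime).factorization_pow, Finsupp.single_eq_same,
      fac_mul (card_comap' hf D) Nat.card_pos.ne']
  refine ⟨_, h1, H592.Defect.eq_of_le_of_factorization p (h1.map f) hD
    (Subgroup.map_le_iff_le_comap.2 (Subgroup.map_subtype_le _)) ?_, h2⟩
  have h3 := fac_mul (p := p) (card_ker_mul f ((S : Subgroup (D.comap f)).map (D.comap f).subtype)) Nat.card_pos.ne'
  have h4 := fac_mono (p := p) (inf_le_right : ((S : Subgroup (D.comap f)).map (D.comap f).subtype) ⊓ f.ker ≤ _)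
  omega

theorem le_cent_of_reg {E : Type v} [Group E] [Finite E] {f : E →* G} (hZ : f.ker ≤ Subgroup.center E)
    {R : Subgroup E} (hR : IsPGroup p R) {x : E} (hx : ¬ p ∣ orderOf x)
    (h : R.map f ≤ Subgroup.centralizer ({f x} : Set G)) : R ≤ Subgroup.centralizer ({x} : Set E) := by
  intro r hr
  obtain ⟨k, hk⟩ := hR ⟨r, hr⟩
  have h1 := Subgroup.mem_centralizer_singleton_iff.1 (h (Subgroup.mem_map_of_mem f hr))
  refine Subgroup.mem_centralizer_singleton_iff.2 (comm_of_reg (congrArg Subtype.val hk) hx (hZ ?_))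
  rw [MonoidHom.mem_ker, map_mul, map_mul, map_mul, map_inv, map_inv, h1]
  group

end Cfsg.Agent.KM.Mu
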