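import Cfsg.Agent.H592.HarStar

/-!
# S4576, reduction to quasisimple groups: the cover of a character triple, faithful on the kernel (helper3)

The proof is the one of `H592.Har.exists_cover`.
-/

set_option autoImplicit false
open Cfsg

namespace Cfsg.Agent.KM.Mu

open Cfsg.Agent Cfsg.Agent.Characters.Core Cfsg.Agent.OddOrderCharacters.IndRes Cfsg.Agent.H592.Har
open scoped ComplexConjugate

universe u

open Cfsg.Agent.CharDeep.TripleCover Cfsg.Agent.CharDeep.ProjExt Module in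
theorem exists_cover0 {G : Type u} [Group G] [Finite G] (p : ℕ) [Fact p.Prime] (N : Subgroup G)
    [hN : N.Normal] (hNp : ¬ p ∣ Nat.card N) (θ : IrrCharacter N)
    (hinv : ∀ (g : G) (n : N), (θ : N → ℂ) ⟨g * n * g⁻¹, hN.conj_mem n n.2 g⟩ = (θ : N → ℂ) n) :
    ∃ (D : Type u) (_ : Group D) (_ : Finite D) (π : D →* G) (s : N →* D) (ψ : D → ℂ),
      Function.Surjective π ∧ π.ker ≤ Subgroup.center D ∧ ¬ p ∣ Nat.card π.ker ∧
      (∀ n, π (s n) = n) ∧ s.range.Normal ∧ IsIrrCharacter D ψ ∧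
      (∀ n, ψ (s n) = (θ : N → ℂ) n) ∧ (∀ z ∈ π.ker, ψ z ≠ 0) ∧ ∀ z ∈ π.ker, ψ z = ψ 1 → z = 1 := by
  classical
  have hp : p.Prime := Fact.out
  obtain ⟨d, ρ, hρ, hρθ⟩ := θ.2
  let V := Fin d → ℂ
  have hinv' : ∀ (g : G) (n : N), ρ.character (MulAut.conjNormal g n) = ρ.character n := by
    intro g n
    rw [hρθ, ← hinv g n]
    congr 1
  have hV : Nontrivial V := ((CharDeep.LinearChar.isIrreducible_iff ρ).1 hρ).1
  set m := Nat.card N with hm
  have hmpos : 0 < m := Nat.card_pos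
  let Dt : (G × (V →ₗ[ℂ] V)ˣ) →* ℂˣ :=
    (Units.map (LinearMap.det : (V →ₗ[ℂ] V) →* ℂ)).comp (MonoidHom.snd G (V →ₗ[ℂ] V)ˣ)
  let Pt : (G × (V →ₗ[ℂ] V)ˣ) →* ℂˣ := (powMonoidHom m).comp Dt
  let Δ : Subgroup (G × (V →ₗ[ℂ] V)ˣ) := intGroup ρ ⊓ Pt.ker
  have hΔ : Δ ≤ intGroup ρ := inf_le_left
  have hker : ∀ x : Δ, x ∈ (proj Δ).ker → ∃ c : ℂ, (x.1.2 : V →ₗ[ℂ] V) = c • (1 : V →ₗ[ℂ] V) ∧
      c ^ (finrank ℂ V * m) = 1 := by
    intro x hx
    obtain ⟨c, hc⟩ := exists_scalar_of_fst_eq_one ρ hρ x.1 (hΔ x.2) hx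
    refine ⟨c, hc, ?_⟩
    have h1 : Pt x.1 = 1 := x.2.2
    have h2 : (LinearMap.det (x.1.2 : V →ₗ[ℂ] V)) ^ m = 1 := congrArg Units.val h1
    rw [hc, LinearMap.det_smul, map_one, mul_one, ← pow_mul] at h2
    exact h2
  have hext : ∀ x y : Δ, x.1.1 = y.1.1 → (x.1.2 : V →ₗ[ℂ] V) = (y.1.2 : V →ₗ[ℂ] V) → x = y :=
    fun x y h1 h2 => Subtype.ext (Prod.ext h1 (Units.ext h2))
  have hpow : ∀ x : (proj Δ).ker, x ^ (finrank ℂ V * m) = 1 := by
    intro x
    obtain ⟨c, hc, hc1⟩ := hker x.1 x.2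
    apply Subtype.ext
    apply hext
    · have h1 : (x : Δ).1.1 = 1 := x.2
      show (((x ^ (finrank ℂ V * m) : (proj Δ).ker) : Δ) : G × (V →ₗ[ℂ] V)ˣ).1 = 1
      rw [Subgroup.coe_pow, Subgroup.coe_pow, Prod.pow_fst, h1, one_pow]
    · show (((((x ^ (finrank ℂ V * m) : (proj Δ).ker) : Δ) : G × (V →ₗ[ℂ] V)ˣ).2 :
        (V →ₗ[ℂ] V)ˣ) : V →ₗ[ℂ] V) = 1
      rw [Subgroup.coe_pow, Subgroup.coe_pow, Prod.pow_snd, Units.val_pow_eq_pow_val, hc,
        smul_pow, one_pow, hc1, one_smul]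
  have hfin : Finite (proj Δ).ker := by
    have : NeZero (finrank ℂ V * m) := ⟨(Nat.mul_pos finrank_pos hmpos).ne'⟩
    have hroots : Finite (rootsOfUnity (finrank ℂ V * m) ℂ) := inferInstance
    choose c hc hcpow using hker
    refine Finite.of_injective
      (fun x : (proj Δ).ker => (rootsOfUnity.mkOfPowEq (n := finrank ℂ V * m)
        (c x.1 x.2) (hcpow x.1 x.2))) ?_
    intro x y hxy
    have h3 : c x.1 x.2 = c y.1 y.2 := by
      have := congrArg (fun z : rootsOfUnity (finrank ℂ V * m) ℂ => ((z : ℂˣ) : ℂ)) hxy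
      simpa using this
    apply Subtype.ext
    apply hext
    · exact (x.2 : proj Δ x.1 = 1).trans (y.2 : proj Δ y.1 = 1).symm
    · rw [hc x.1 x.2, hc y.1 y.2, h3]
  have hfinΔ : Finite Δ :=
    Finite.of_equiv _ (Subgroup.groupEquivQuotientProdSubgroup (s := (proj Δ).ker)).symm
  have hsec : ∀ n, sec ρ n ∈ Δ := by
    intro n
    refine ⟨sec_mem_intGroup ρ n, ?_⟩
    show (Dt (sec ρ n)) ^ m = 1
    rw [← map_pow, ← map_pow, hm, pow_card_eq_one', map_one, map_one]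
  let s : N →* Δ := (sec ρ).codRestrict Δ hsec
  have hirr : (coverRep Δ).IsIrreducible := by
    apply Blocks.Deflate.isIrreducible_of_comp s (coverRep Δ)
    have h1 : ((coverRep Δ).comp s : Representation ℂ N V) = ρ := by
      ext n : 1
      rfl
    rw [h1]
    exact hρ
  refine ⟨Δ, inferInstance, hfinΔ, proj Δ, s, (coverRep Δ).character, ?_, ?_, ?_, ?_, ?_, ?_, ?_,
    ?_, ?_⟩
  · intro g
    obtain ⟨T, hT, hTd⟩ := exists_mem_intGroup ρ hρ hinv' g 1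
    refine ⟨⟨(g, T), hT, ?_⟩, rfl⟩
    show (Dt (g, T)) ^ m = 1
    have : Dt (g, T) = 1 := Units.ext hTd
    rw [this, one_pow]
  · intro x hx
    obtain ⟨c, hc, -⟩ := hker x hx
    rw [Subgroup.mem_center_iff]
    intro y
    apply hext
    · show y.1.1 * x.1.1 = x.1.1 * y.1.1
      have : x.1.1 = 1 := hx
      rw [this, mul_one, one_mul]
    · show ((y.1.2 * x.1.2 : (V →ₗ[ℂ] V)ˣ) : V →ₗ[ℂ] V) = ((x.1.2 * y.1.2 : (V →ₗ[ℂ] V)ˣ) : _)
      rw [Units.val_mul, Units.val_mul, hc, smul_mul_assoc, mul_smul_comm, one_mul, mul_one]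
  · intro h
    obtain ⟨x, hx⟩ := exists_prime_orderOf_dvd_card' p h
    have h1 : p ∣ finrank ℂ V * m := by
      rw [← hx]
      exact orderOf_dvd_of_pow_eq_one (hpow x)
    rcases hp.dvd_mul.1 h1 with h2 | h2
    · apply hNp
      refine h2.trans ?_
      have h3 : (θ : N → ℂ) 1 = (finrank ℂ V : ℂ) := by
        rw [← hρθ, Representation.char_one]
      exact S4492.degree_dvd_card θ.2 h3
    · exact hNp h2
  · intro n
    rfl
  · refine ⟨?_⟩
    rintro _ ⟨n, rfl⟩ x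
    exact ⟨MulAut.conjNormal x.1.1 n, Subtype.ext (conj_sec ρ x.1 (hΔ x.2) n).symm⟩
  · exact isIrrCharacter_of_rep _ hirr
  · intro n
    rw [← hρθ]
    rfl
  · intro z hz
    obtain ⟨c, hc, hc1⟩ := hker z hz
    have h1 : (coverRep Δ).character z = c * (finrank ℂ V : ℂ) := by
      show LinearMap.trace ℂ V (coverRep Δ z) = _
      rw [coverRep_apply, hc, map_smul, smul_eq_mul, LinearMap.trace_one]
    rw [h1]
    refine mul_ne_zero ?_ (by exact_mod_cast (finrank_pos (R := ℂ) (M := V)).ne')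
    rintro rfl
    rw [zero_pow (Nat.mul_pos finrank_pos hmpos).ne'] at hc1
    exact zero_ne_one hc1
  · intro z hz h
    obtain ⟨c, hc, -⟩ := hker z hz
    have h1 : (coverRep Δ).character z = c * (finrank ℂ V : ℂ) := by
      show LinearMap.trace ℂ V (coverRep Δ z) = _
      rw [coverRep_apply, hc, map_smul, smul_eq_mul, LinearMap.trace_one]
    rw [h1, Representation.char_one] at h
    have h2 : c = 1 := mul_right_cancel₀ (by exact_mod_cast (finrank_pos (R := ℂ) (M := V)).ne')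
      (h.trans (one_mul _).symm)
    refine hext z 1 hz ?_
    rw [hc, h2, one_smul]
    rfl

theorem exists_cover {G : Type u} [Group G] [Finite G] (N : Subgroup G) [hN : N.Normal] (θ : IrrCharacter N)
    (hinv : ∀ (g : G) (n : N), (θ : N → ℂ) ⟨g * n * g⁻¹, hN.conj_mem n n.2 g⟩ = (θ : N → ℂ) n) :
    ∃ (q : ℕ) (E : Type u) (_ : Group E) (_ : Finite E) (C : Cover q N (θ : N → ℂ) E),
      ∀ z ∈ C.π.ker, C.ψ z = C.ψ 1 → z = 1 := by
  obtain ⟨q, h1, hq⟩ := Nat.exists_infinite_primes (Nat.card N + 1)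
  have : Fact q.Prime := ⟨hq⟩
  obtain ⟨E, i1, i2, π, s, ψ, a1, a2, a3, a4, a5, a6, a7, a8, a9⟩ := exists_cover0 q N
    (fun h => absurd (Nat.le_of_dvd Nat.card_pos h) (by omega)) θ hinv
  exact ⟨q, E, i1, i2, ⟨π, s, ψ, a1, a2, a3, a4, a5, a6, a7, a8⟩, a9⟩

end Cfsg.Agent.KM.Mu
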