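import Cfsg.Agent.KM.Mu.Core
import Cfsg.Agent.KM.Mu.Cov
import Cfsg.Agent.Lib.ProductSet
import Cfsg.Agent.S0926
import Cfsg.Agent.S0968
import Cfsg.Agent.S4714

/-!
# S4576, reduction to quasisimple groups: central defect groups, components, central products (helper3)
-/

set_option autoImplicit false
set_option linter.style.haveILetI false
set_option linter.unusedSectionVars false

open Cfsg
open scoped Pointwise

namespace Cfsg.Agent.KM.Mu

open Cfsg.Agent Cfsg.Agent.Characters.Core Cfsg.Agent.Blocks Cfsg.Agent.TID.Red Cfsg.Agent.KM.BK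
open Cfsg.Agent.H591.Reynolds (IsStab)
open Cfsg.Agent.SignalizersComponents.Components
open Cfsg.Agent.H592.Har

universe u v

variable {p : ℕ} [Fact p.Prime] {M : Ideal AlgInt} {G : Type u} [Group G] [Finite G]
  {B : Set (IrrCharacter G)} {D W : Subgroup G}

theorem eq_of_central_defect (hM : IsPModular p M) (hB : IsPBlock M B) (hD : IsDefectGroup p M B D)
    (hc : D ≤ Subgroup.center G) {θ θ' : IrrCharacter G} (h1 : θ ∈ B) (h2 : θ' ∈ B)
    (h : ∀ y ∈ D, (θ : G → ℂ) y = (θ' : G → ℂ) y) : θ = θ' := by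
  have hp : p.Prime := Fact.out
  have hDp := H592.Defect.isPGroup_of_isDefectGroup hD
  have hG : D ⊔ Subgroup.centralizer (D : Set G) = ⊤ := by
    rw [Subgroup.centralizer_eq_top_iff_subset.2 hc, sup_top_eq]
  obtain ⟨χ, ⟨hχ, hχD⟩, -⟩ := (S0968.result p M hM D hDp hG B hB hD).1
  obtain ⟨ζ, a1, a2⟩ := ((S4714.result p M hM D hDp hG B hB hD χ hχ hχD).1 θ).1 h1
  obtain ⟨ζ', b1, b2⟩ := ((S4714.result p M hM D hDp hG B hB hD χ hχ hχD).1 θ').1 h2
  have h3 : ∀ y : D, (ζ : D → ℂ) y = (ζ' : D → ℂ) y := by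
    intro y
    have h4 : ¬ p ∣ orderOf (1 : G) := by rw [orderOf_one]; exact hp.not_dvd_one
    have h5 := a1 y 1 h4 (Commute.one_right _)
    rw [mul_one, h y y.2, ← mul_one (y : G), b1 y 1 h4 (Commute.one_right _)] at h5
    exact (mul_right_cancel₀ (isIrr_apply_one_ne_zero χ.2) h5).symm
  refine Subtype.ext (funext fun g => ?_)
  obtain ⟨a, ha⟩ := PPart.exists_isPPart p g
  by_cases h4 : a ∈ D
  · obtain ⟨y, rfl, h5, -, h6⟩ := ha
    rw [a1 ⟨a, h4⟩ y h6 h5, b1 ⟨a, h4⟩ y h6 h5, h3]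
  · rw [a2 g fun y hy => PPart.isPPart_unique ha hy ▸ h4, b2 g fun y hy => PPart.isPPart_unique ha hy ▸ h4]

/-- **Normal subgroups meeting `D` in a central subgroup.** -/
theorem red (hM : IsPModular p M) (hB : IsPBlock M B) (hD : IsDefectGroup p M B D) {N : Subgroup G} [hN : N.Normal]
    (hc : IsPBlock M (cov B N)) (hst : IsStab (cov B N) ⊤) (hK : PP p M N) (hQ : D ⊓ N ≤ Subgroup.center G)
    (ih : ∀ (H : Type u) [Group H] [Finite H], (Subgroup.center H).index ≤ N.index → RW p M H)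
    {χ : IrrCharacter G} (hχ : χ ∈ B) (hW : Cn W D) (hQW : D ⊓ N ≤ W) (hne : W ≠ D) :
    (Nat.card W).factorization p < df p χ := by
  letI := Fintype.ofFinite N
  have hd := defect_cov hM hB hD hc
  have hcen : (D ⊓ N).subgroupOf N ≤ Subgroup.center N := fun z hz =>
    Subgroup.mem_center_iff.2 fun g => Subtype.ext (Subgroup.mem_center_iff.1 (hQ hz) g)
  obtain ⟨θ, hθ⟩ := exists_ov N.subtype χ.2
  have hθc : θ ∈ cov B N := ⟨χ, hχ, hθ⟩
  have hinv : ∀ (g : G) (n : N), (θ : N → ℂ) ⟨g * n * g⁻¹, hN.conj_mem n n.2 g⟩ = (θ : N → ℂ) n := by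
    intro g n
    have h1 : Covering.conjIrr N g θ = θ := by
      refine eq_of_central_defect hM hc hd hcen ((hst.mem_iff g).1 (Subgroup.mem_top g) θ hθc) hθc fun y hy => ?_
      rw [Covering.conjIrr_apply]
      refine congrArg (θ : N → ℂ) (Subtype.ext ?_)
      have h2 : g * y = y * g := Subgroup.mem_center_iff.1 (hQ hy) g
      rw [MulAut.conjNormal_apply, h2, mul_inv_cancel_right]
    conv_rhs => rw [← h1]
    rfl
  obtain ⟨q, E, i1, i2, C, hf⟩ := exists_cover N θ hinv
  have h0 := df_ab hM hK hc hd (fun x hx y _ => (Subgroup.mem_center_iff.1 (hcen hx) y).symm) hθc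
  have h1 := df_add (p := p) θ
  rw [card_sub inf_le_right] at h0
  refine core C hM θ.2 hf hB hD hQ ?_ hχ ((ov_subtype_iff N _ _).1 hθ)
    (ih _ ((Subgroup.index_antitone C.Z_le_center).trans C.index_Z.le)) hW hQW hne
  change nu p θ + _ = _
  omega

theorem mem_of_central (hM : IsPModular p M) (hB : IsPBlock M B) (hD : IsDefectGroup p M B D) {U : Subgroup G}
    (hU : U ≤ Subgroup.center G) (hp : IsPGroup p U) : U ≤ D :=
  (Lib.Cores.le_pCore ⟨fun a ha g => by rwa [Subgroup.mem_center_iff.1 (hU ha) g, mul_inv_cancel_right]⟩ hp).trans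
    (S0912.result p M hM B hB D hD)

theorem fac_inf_central (hM : IsPModular p M) (hB : IsPBlock M B) (hD : IsDefectGroup p M B D) {U : Subgroup G}
    (hU : U ≤ Subgroup.center G) :
    (Nat.card U).factorization p ≤ (Nat.card (D ⊓ U : Subgroup G)).factorization p := by
  obtain ⟨S⟩ : Nonempty (Sylow p U) := inferInstance
  have h1 : (S : Subgroup U).map U.subtype ≤ D ⊓ U := le_inf
    (mem_of_central hM hB hD ((Subgroup.map_subtype_le _).trans hU) (S.2.map _)) (Subgroup.map_subtype_le _)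
  have h2 := fac_mono (p := p) h1
  rwa [Subgroup.card_map_of_injective U.subtype_injective, S.card_eq_multiplicity,
    (Fact.out : p.Prime).factorization_pow, Finsupp.single_eq_same] at h2

/-- **Central subgroups in the kernel.** -/
theorem quot (hM : IsPModular p M) (hB : IsPBlock M B) (hD : IsDefectGroup p M B D) {U : Subgroup G} [hN : U.Normal]
    (hU : U ≤ Subgroup.center G) (hU1 : U ≠ ⊥) (ih : ∀ (V : Subgroup G) [V.Normal], V ≠ ⊥ → RW p M (G ⧸ V))
    {χ : IrrCharacter G} (hχ : χ ∈ B) (h : ∀ z ∈ U, (χ : G → ℂ) z = (χ : G → ℂ) 1) (hW : Cn W D)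
    (hQW : D ⊓ U ≤ W) (hne : W ≠ D) : (Nat.card W).factorization p < df p χ := by
  letI := Fintype.ofFinite U
  let C : Cover p U (fun _ => 1) G :=
    { π := MonoidHom.id G
      s := U.subtype
      ψ := fun _ => 1
      surj := Function.surjective_id
      ker_le := by rw [MonoidHom.ker_id]; exact bot_le
      ker_p := by rw [MonoidHom.ker_id, Subgroup.card_bot]; exact (Fact.out : p.Prime).not_dvd_one
      sec := fun _ => rfl
      normal := by rwa [Subgroup.range_subtype]
      irr := Basic.isIrrCharacter_one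
      ext := fun _ => rfl
      ne := fun _ _ => one_ne_zero }
  refine core C hM Basic.isIrrCharacter_one (fun z hz _ => hz) hB hD (inf_le_right.trans hU) ?_ hχ ?_
    (@ih _ C.normal (by rwa [show C.s.range = U from U.range_subtype])) hW hQW hne
  · rw [Basic.charDegree_of_eq (n := 1) Nat.cast_one.symm, Nat.factorization_one, Finsupp.zero_apply, zero_add]
    exact le_antisymm (fac_mono inf_le_right) (fac_inf_central hM hB hD hU)
  · have h1 : (fun n : U => (χ : G → ℂ) n) = (χ : G → ℂ) 1 • fun _ : U => (1 : ℂ) := by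
      funext n
      rw [h n n.2, Pi.smul_apply, smul_eq_mul, mul_one]
    rw [h1, classInner_smul_left, classInner_irr_self Basic.isIrrCharacter_one, mul_one]
    exact isIrr_apply_one_ne_zero χ.2

theorem inf_sup_center (hM : IsPModular p M) (hB : IsPBlock M B) (hD : IsDefectGroup p M B D) {N : Subgroup G}
    (h : D ⊓ N ≤ Subgroup.center G) : D ⊓ (N ⊔ Subgroup.center G) ≤ Subgroup.center G := by
  rintro d ⟨hd, hd'⟩
  obtain ⟨n, hn, z, hz, rfl⟩ := Subgroup.mem_sup_of_normal_right.1 hd'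
  obtain ⟨e, he⟩ := PPart.exists_pow_eq (G := G) p
  obtain ⟨k, hk⟩ := IsPGroup.iff_orderOf.1 (H592.Defect.isPGroup_of_isDefectGroup hD) ⟨_, hd⟩
  have h1 : (n * z) ^ e = n * z :=
    he _ _ (PPart.isPPart_of_isPGroup ⟨k, by rw [← hk]; exact Subgroup.orderOf_coe (⟨_, hd⟩ : D)⟩)
  obtain ⟨a, ha⟩ := PPart.exists_isPPart p z
  have h2 := he _ _ ha
  have h3 : a ∈ Subgroup.center G := h2 ▸ pow_mem hz e
  obtain ⟨-, -, -, ⟨l, hl⟩, -⟩ := ha
  have h4 : a ∈ D := mem_of_central hM hB hD (Subgroup.zpowers_le.2 h3)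
    (IsPGroup.of_card (by rw [Nat.card_zpowers, hl])) (Subgroup.mem_zpowers a)
  have h5 : Commute n z := Subgroup.mem_center_iff.1 hz n
  rw [h5.mul_pow, h2] at h1
  rw [← h1] at hd ⊢
  exact mul_mem (h ⟨(D.mul_mem_cancel_right h4).1 hd, pow_mem hn e⟩) h3

/-- the components that meet `D` in a central subgroup -/
def Zd (D : Subgroup G) : Set (Subgroup G) := {K | IsComponent K ∧ D ⊓ K ≤ Subgroup.center G}

omit [Finite G] in
theorem sSup_Zd_le : sSup (Zd D) ≤ layer G := sSup_le fun _ hK => component_le_layer hK.1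

theorem central_of_conj {K : Subgroup G} (hK : K ∈ Zd D) {e d : G} (he : e ∈ layer G) (hd : d ∈ D)
    (h : e * d * e⁻¹ ∈ K) : e * d * e⁻¹ ∈ Subgroup.center G :=
  (inferInstance : (Subgroup.center G).Normal).conj_mem _
    (hK.2 ⟨hd, (Subgroup.mem_normalizer_iff.1 (layer_le_normalizer_component hK.1 he) _).2 h⟩) e

theorem Zd_normal (hM : IsPModular p M) (hB : IsPBlock M B) (hD : IsDefectGroup p M B D)
    (hc : IsPBlock M (cov B (layer G))) : (sSup (Zd D)).Normal := by
  have := layer_normal G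
  have := Local.isPrime_of_isPModular hM
  have key : ∀ (g : G) (K : Subgroup G), K ∈ Zd D → K.map (MulAut.conj g).toMonoidHom ∈ Zd D := by
    intro g K hK
    refine ⟨isComponent_conj g hK.1, ?_⟩
    rintro _ ⟨h1, k, hk, rfl⟩
    have hkE := component_le_layer hK.1 hk
    obtain ⟨e, he⟩ := conj_defect hM hc (defect_cov hM hB hD hc)
      (defect_cov hM hB (Basic.isDefectGroup_conj hD g⁻¹) hc)
    have h2 : (⟨k, hkE⟩ : layer G) ∈ (D.map (MulAut.conj g⁻¹).toMonoidHom ⊓ layer G).subgroupOf (layer G) :=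
      ⟨⟨_, h1, by simp [mul_assoc]⟩, hkE⟩
    rw [← he] at h2
    obtain ⟨d, hd, h3⟩ := h2
    have h4 : (e : G) * d * (e : G)⁻¹ = k := congrArg Subtype.val h3
    exact (inferInstance : (Subgroup.center G).Normal).conj_mem _ (h4 ▸ central_of_conj hK e.2 hd.1 (h4 ▸ hk)) g
  refine ⟨fun n hn g => ?_⟩
  have h1 : sSup (Zd D) ≤ (sSup (Zd D)).comap (MulAut.conj g).toMonoidHom :=
    sSup_le fun K hK => Subgroup.map_le_iff_le_comap.1 (le_sSup (key g K hK))
  exact h1 hn

/-- **The components meeting `D` in a central subgroup generate a subgroup with the same property.** -/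
theorem inf_Zd (hM : IsPModular p M) (hB : IsPBlock M B) (hD : IsDefectGroup p M B D) [(sSup (Zd D)).Normal]
    (hc : IsPBlock M (cov B (sSup (Zd D)))) : D ⊓ sSup (Zd D) ≤ Subgroup.center G := by
  have := Local.isPrime_of_isPModular hM
  set N := sSup (Zd D) with hN
  have hd := defect_cov hM hB hD hc
  obtain ⟨n, hn⟩ := PPart.exists_pow_eq (G := N) p
  have hcen : ∀ K ∈ Zd D, ∀ T ⊆ Zd D, K ∉ T → sSup T ≤ Subgroup.centralizer (K : Set G) :=
    fun K hK T hT hKT => sSup_le fun L hL =>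
      component_le_centralizer_of_ne (hT hL).1 hK.1 fun h => hKT (h ▸ hL)
  have hdec : ∀ K ∈ Zd D, N ≤ K ⊔ Subgroup.centralizer (K : Set G) := fun K hK => sSup_le fun L hL => by
    by_cases h : L = K
    · exact h ▸ le_sup_left
    · exact (component_le_centralizer_of_ne hL.1 hK.1 h).trans le_sup_right
  have h1 : ∀ θ ∈ cov B N, ∀ K ∈ Zd D, ∀ k : N, (k : G) ∈ K → (θ : N → ℂ) k ≠ 0 →
      (k : G) ^ n ∈ Subgroup.center G := by
    intro θ hθ K hK k hk h0
    obtain ⟨x, hx⟩ := PPart.exists_isPPart p k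
    have h6 : (k : G) ^ n = x := congrArg Subtype.val (hn k x hx)
    by_contra h7
    refine h0 (S0924.result p M hM θ k x hx fun D' hD' hxD => h7 ?_)
    rw [← Basic.isPBlock_eq_blockOf hc hθ] at hD'
    obtain ⟨e, he⟩ := conj_defect hM hc hd hD'
    rw [← he] at hxD
    obtain ⟨d, hd', h3⟩ := hxD
    have h4 : (e : G) * d * (e : G)⁻¹ = x := congrArg Subtype.val h3
    rw [h6, ← h4]
    exact central_of_conj hK (sSup_Zd_le e.2) hd'.1 (by rw [h4, ← h6]; exact K.pow_mem hk n)
  have h2 : ∀ θ ∈ cov B N, ∀ T : Set (Subgroup G), T ⊆ Zd D →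
      ∀ a : N, (a : G) ∈ sSup T → (θ : N → ℂ) a ≠ 0 → (a : G) ^ n ∈ Subgroup.center G := by
    intro θ hθ T
    induction T, Set.toFinite T using Set.Finite.induction_on with
    | empty =>
      intro _ a ha _
      rw [sSup_empty, Subgroup.mem_bot] at ha
      rw [ha, one_pow]
      exact one_mem _
    | @insert K T hKT _ ih =>
      intro hT a ha h0
      have hK : K ∈ Zd D := hT (Set.mem_insert _ _)
      have hT' : T ⊆ Zd D := (Set.subset_insert _ _).trans hT
      rw [sSup_insert] at ha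
      obtain ⟨k, hk, c, hc', h3⟩ := exists_mul_of_le_centralizer (hcen K hK T hT' hKT) ha
      have hKN : K ≤ N := le_sSup hK
      have hcN : c ∈ N := sSup_le_sSup hT' hc'
      have hcc := hcen K hK T hT' hKT hc'
      have h4 : Commute k c := Subgroup.mem_centralizer_iff.1 hcc k hk
      have h5 : a = (⟨c, hcN⟩ : N) * ⟨k, hKN hk⟩ := Subtype.ext (h3.symm.trans h4.eq)
      have h6 := mul_apply_comp hKN (hdec K hK) θ (a := ⟨c, hcN⟩) (k := ⟨k, hKN hk⟩) hcc hk
      rw [← h5] at h6
      have h7 := h6 ▸ mul_ne_zero (isIrr_apply_one_ne_zero θ.2) h0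
      rw [← h3, h4.mul_pow]
      exact mul_mem (h1 θ hθ K hK _ hk (right_ne_zero_of_mul h7)) (ih hT' _ hc' (left_ne_zero_of_mul h7))
  intro x hx
  obtain ⟨θ, hθ, h3, h4⟩ := H592.Defect.exists_height_zero p hM hc
  obtain ⟨u, ⟨z, hz, h5⟩, h6⟩ := (S0926.result p M hM _ hc _ hd θ hθ
    (height_zero hM hc hd ((H592.Defect.factorization_card_defect p hM hc hd).trans h4).le) ⟨x, hx.2⟩
    (IsPGroup.iff_orderOf.1 (H592.Defect.isPGroup_of_isDefectGroup hd) ⟨⟨x, hx.2⟩, hx⟩ |>.imp fun k hk => by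
      rw [← hk]
      exact Subgroup.orderOf_coe (⟨⟨x, hx.2⟩, hx⟩ : (D ⊓ N).subgroupOf N))).1 ⟨1, by rw [one_mul, inv_one, mul_one]; exact hx⟩
  have h7 := h2 θ hθ _ le_rfl u u.2 h6
  rw [show (u : G) ^ n = z from congrArg Subtype.val (hn u z hz)] at h7
  obtain ⟨c, hc'⟩ := isConj_iff.1 h5.symm
  have h8 : (c : G) * z * (c : G)⁻¹ = x := congrArg Subtype.val hc'
  exact h8 ▸ (inferInstance : (Subgroup.center G).Normal).conj_mem _ h7 c

/-- the centralizer of a non-central `p`-element of a component normalizes it -/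
theorem norm_comp (hO : pCore p G ≤ Subgroup.center G) {K : Subgroup G} (hK : IsComponent K) {x : G}
    (hx : x ∈ K) (h1 : x ∉ Subgroup.center G) (hp : IsPGroup p (Subgroup.zpowers x)) {g : G} (hg : g * x = x * g) :
    g ∈ Subgroup.normalizer (K : Set G) := by
  have h2 := isComponent_conj g hK
  by_cases h3 : K = K.map (MulAut.conj g).toMonoidHom
  · refine Subgroup.mem_normalizer_fintype fun l hl => ?_
    have h4 : (MulAut.conj g).toMonoidHom l ∈ K.map (MulAut.conj g).toMonoidHom := Subgroup.mem_map_of_mem _ hl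
    rw [← h3] at h4
    exact h4
  · exfalso
    have h4 : x ∈ K.map (MulAut.conj g).toMonoidHom := ⟨x, hx, by
      change g * x * g⁻¹ = x
      rw [hg, mul_inv_cancel_right]⟩
    have h5 : layer G ≤ Subgroup.centralizer (Subgroup.zpowers x : Set G) := by
      rw [layer_le_iff]
      intro L hL
      rw [Subgroup.le_centralizer_iff, Subgroup.zpowers_le]
      by_cases h6 : L = K
      · rw [h6]
        exact component_le_centralizer_of_ne h2 hK (Ne.symm h3) h4
      · exact component_le_centralizer_of_ne hK hL (Ne.symm h6) hx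
    exact h1 (hO (Lib.GenFitting.le_pCore_of_normal_in_normal (layer_normal G)
      (Subgroup.zpowers_le.2 (component_le_layer hK hx)) (h5.trans (Subgroup.centralizer_le_normalizer _)) hp
      (Subgroup.mem_zpowers x)))

end Cfsg.Agent.KM.Mu
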