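import Cfsg.Agent.KM.Mu.Defs
import Cfsg.Agent.KM.BK.Main
import Cfsg.Agent.H614.Spin.DefElt
import Cfsg.Agent.H646.Restrict
import Cfsg.Agent.Lib.CoprimeStab

/-!
# S4576, reduction to quasisimple groups: normal subgroups (helper3)
-/

set_option autoImplicit false
set_option linter.style.haveILetI false
set_option linter.unusedSectionVars false

open Cfsg

namespace Cfsg.Agent.KM.Mu

open Cfsg.Agent Cfsg.Agent.Characters.Core Cfsg.Agent.Blocks Cfsg.Agent.TID.Red Cfsg.Agent.KM.BK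
open Cfsg.Agent.H591.Reynolds (IsStab)

universe u v

/-- `W` lies in the centre of `D` -/
def Cn {G : Type u} [Group G] (W D : Subgroup G) : Prop := W ≤ D ∧ ∀ w ∈ W, ∀ d ∈ D, w * d = d * w

/-- the proper central subgroups of `D` are smaller than `p ^ n` -/
def Sm (p : ℕ) {G : Type u} [Group G] (D : Subgroup G) (n : ℕ) : Prop :=
  ∀ W : Subgroup G, Cn W D → W ≠ D → (Nat.card W).factorization p < n

/-- the defect of a character -/
noncomputable def df (p : ℕ) {G : Type u} [Group G] (χ : IrrCharacter G) : ℕ :=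
  (Nat.card G).factorization p - nu p χ

/-- the statement proved by induction -/
def RW (p : ℕ) (M : Ideal AlgInt) (G : Type u) [Group G] : Prop :=
  ∀ (B : Set (IrrCharacter G)) (D : Subgroup G), IsPBlock M B → IsDefectGroup p M B D →
    ∀ χ ∈ B, Sm p D (df p χ)

theorem Cn.map {G : Type u} {H : Type v} [Group G] [Group H] {W D : Subgroup G} (h : Cn W D) (f : G →* H) :
    Cn (W.map f) (D.map f) := by
  refine ⟨Subgroup.map_mono h.1, ?_⟩
  rintro _ ⟨w, hw, rfl⟩ _ ⟨d, hd, rfl⟩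
  rw [← map_mul, ← map_mul, h.2 w hw d hd]

theorem Cn.comap {G : Type u} {H : Type v} [Group G] [Group H] {W D : Subgroup H} (h : Cn W D) {f : G →* H}
    (hf : Function.Injective f) : Cn (W.comap f) (D.comap f) :=
  ⟨Subgroup.comap_mono h.1, fun w hw d hd => hf (by
    rw [map_mul, map_mul]
    exact h.2 _ hw _ hd)⟩

theorem Sm.of_map {p n : ℕ} {G : Type u} {H : Type v} [Group G] [Group H] {D : Subgroup G} {f : G →* H}
    (hf : Function.Injective f) (h : Sm p (D.map f) n) : Sm p D n := by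
  intro W hW hne
  rw [← Subgroup.card_map_of_injective (K := W) hf]
  exact h _ (hW.map f) fun h1 => hne (Subgroup.map_injective hf h1)

theorem Sm.map {p n : ℕ} {G : Type u} {H : Type v} [Group G] [Group H] {D : Subgroup G} {f : G →* H}
    (hf : Function.Injective f) (h : Sm p D n) : Sm p (D.map f) n := by
  intro W hW hne
  have h1 : (W.comap f).map f = W := Subgroup.map_comap_eq_self (hW.1.trans (Subgroup.map_le_range f D))
  have h2 := hW.comap hf
  rw [Subgroup.comap_map_eq_self_of_injective hf] at h2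
  rw [← h1, Subgroup.card_map_of_injective hf]
  exact h _ h2 fun h3 => hne (by rw [← h1, h3])

variable {p : ℕ} [Fact p.Prime] {M : Ideal AlgInt} {G : Type u} [Group G] [Finite G]
  {B : Set (IrrCharacter G)} {D W : Subgroup G}

theorem df_add (χ : IrrCharacter G) : df p χ + nu p χ = (Nat.card G).factorization p :=
  Nat.sub_add_cancel (nu_le χ)

theorem fac_mul {a b c : ℕ} (h : a * b = c) (hc : c ≠ 0) :
    a.factorization p + b.factorization p = c.factorization p := by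
  subst h
  rw [Nat.factorization_mul (left_ne_zero_of_mul hc) (right_ne_zero_of_mul hc), Finsupp.add_apply]

theorem fac_le {a b : ℕ} (h : a ∣ b) (hb : b ≠ 0) : a.factorization p ≤ b.factorization p :=
  (Nat.factorization_le_iff_dvd (ne_zero_of_dvd_ne_zero hb h) hb).2 h p

theorem fac_mono {A C : Subgroup G} (h : A ≤ C) : (Nat.card A).factorization p ≤ (Nat.card C).factorization p :=
  fac_le (Subgroup.card_dvd_of_le h) Nat.card_pos.ne'

omit [Finite G] in
theorem card_sub {A N : Subgroup G} (h : A ≤ N) : Nat.card (A.subgroupOf N) = Nat.card A :=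
  Nat.card_congr (Subgroup.subgroupOfEquivOfLe h).toEquiv

omit [Finite G] in
theorem card_inf_mul (A N : Subgroup G) : Nat.card (A ⊓ N : Subgroup G) * N.relIndex A = Nat.card A := by
  rw [← Subgroup.relIndex_bot_left A, ← Subgroup.relIndex_bot_left (A ⊓ N), ← Subgroup.inf_relIndex_left A N]
  exact Subgroup.relIndex_mul_relIndex _ _ _ bot_le inf_le_left

theorem df_of_cnt {H : Type v} [Group H] [Finite H] {B' : Set (IrrCharacter H)}
    (h : ∀ d, cnt p B d = cnt p B' d) {χ : IrrCharacter G} (hχ : χ ∈ B) : ∃ ψ ∈ B', df p ψ = df p χ := by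
  have hf := finite_irr (G := G)
  have h2 : cnt p B (df p χ) ≠ 0 := by
    unfold cnt
    exact (Nat.card_pos_iff.2 ⟨⟨⟨χ, hχ, (df_add χ).symm⟩⟩, inferInstance⟩).ne'
  rw [h] at h2
  obtain ⟨⟨ψ, hψ, h3⟩⟩ := (Nat.card_ne_zero.1 h2).1
  refine ⟨ψ, hψ, ?_⟩
  have h4 := df_add (p := p) ψ
  change _ = _ + nu p ψ at h3
  omega

theorem df_le (hM : IsPModular p M) (hB : IsPBlock M B) (hD : IsDefectGroup p M B D) {χ : IrrCharacter G}
    (hχ : χ ∈ B) : df p χ ≤ (Nat.card D).factorization p := by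
  have h1 := H592.Defect.le_degree_add p hM hB hD hχ
  have h2 := df_add (p := p) χ
  change _ ≤ nu p χ + _ at h1
  omega

theorem df_ab (hM : IsPModular p M) (hK : PP p M G) (hB : IsPBlock M B) (hD : IsDefectGroup p M B D) (ha : Ab D)
    {χ : IrrCharacter G} (hχ : χ ∈ B) : df p χ = (Nat.card D).factorization p := by
  refine le_antisymm (df_le hM hB hD hχ) (H592.Defect.card_defect_le p hM hB hD fun ψ hψ => ?_)
  have h1 := hK B D hB hD ha χ hχ ψ hψ
  have h2 := df_add (p := p) χ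
  change _ ≤ nu p ψ + _
  omega

theorem fac_lt (hD : IsPGroup p D) (h : W ≤ D) (hne : W ≠ D) :
    (Nat.card W).factorization p < (Nat.card D).factorization p :=
  not_le.1 fun h1 => hne (H592.Defect.eq_of_le_of_factorization p (hD.to_le h) hD h h1)

theorem sm_ab (hM : IsPModular p M) (hK : PP p M G) (hB : IsPBlock M B) (hD : IsDefectGroup p M B D) (ha : Ab D)
    {χ : IrrCharacter G} (hχ : χ ∈ B) : Sm p D (df p χ) := fun W hW hne => by
  rw [df_ab hM hK hB hD ha hχ]
  exact fac_lt (H592.Defect.isPGroup_of_isDefectGroup hD) hW.1 hne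

theorem le_df (hM : IsPModular p M) (hK : PP p M G) (h : RW p M G) (hB : IsPBlock M B) (hD : IsDefectGroup p M B D)
    {χ : IrrCharacter G} (hχ : χ ∈ B) (hW : Cn W D) : (Nat.card W).factorization p ≤ df p χ := by
  by_cases h1 : W = D
  · subst h1
    exact (df_ab hM hK hB hD hW.2 hχ).ge
  · exact (h B D hB hD χ hχ W hW h1).le

/-- **Fong–Reynolds.** -/
theorem cov_or (hM : IsPModular p M) (hB : IsPBlock M B) (hD : IsDefectGroup p M B D) {χ : IrrCharacter G}
    (hχ : χ ∈ B) (N : Subgroup G) [hN : N.Normal] (ih : ∀ T : Subgroup G, T ≠ ⊤ → RW p M T) :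
    Sm p D (df p χ) ∨ (IsPBlock M (cov B N) ∧ IsStab (cov B N) ⊤) := by
  have := Local.isPrime_of_isPModular hM
  letI := Fintype.ofFinite G
  letI := Fintype.ofFinite N
  obtain ⟨θ, hθ⟩ := exists_ov N.subtype χ.2
  have hβ : IsPBlock M (blockOf M (θ : N → ℂ)) := ⟨θ, rfl⟩
  have hθβ : θ ∈ blockOf M (θ : N → ℂ) := Basic.mem_blockOf_self θ
  obtain ⟨T, hT⟩ := exists_isStab hβ
  by_cases h : T = ⊤
  · right
    subst h
    have h1 : cov B N = blockOf M (θ : N → ℂ) := by
      ext ψ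
      constructor
      · rintro ⟨χ', hχ', h2⟩
        obtain ⟨g, θ', hθ', h3⟩ := S0964.result p M hM N B hB _ hβ χ hχ θ hθβ ((ov_subtype_iff N _ _).1 hθ) χ' hχ' ψ
          ((ov_subtype_iff N _ _).1 h2)
        exact (hT g).1 (Subgroup.mem_top g) θ' hθ' ψ h3
      · intro hψ
        obtain ⟨χ', hχ', h2⟩ := S4432.result p M hM N B hB _ hβ ⟨χ, hχ, θ, hθβ, (ov_subtype_iff N _ _).1 hθ⟩ ψ hψ
        exact ⟨χ', hχ', (ov_subtype_iff N _ _).2 h2⟩
    rw [h1]
    exact ⟨hβ, hT⟩
  · left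
    obtain ⟨B', hB', hcov, hi⟩ := FR_down hM hβ hT (hT.le hβ) hB ⟨χ, hχ, θ, hθβ, hθ⟩
    obtain ⟨D', hD'⟩ := H592.Defect.exists_defectGroup p hM hB'
    obtain ⟨x, rfl⟩ := conj_defect hM hB (FR_defect hM hβ hT (hT.le hβ) hB' hcov hi hD') hD
    obtain ⟨ψ, hψ, h1⟩ := df_of_cnt (FR_cnt hM hβ hT (hT.le hβ) hB' hcov hi) hχ
    rw [← h1]
    exact ((ih T h B' D' hB' hD' ψ hψ).map T.subtype_injective).map (MulAut.conj x).injective

variable {N : Subgroup G} [hN : N.Normal]

theorem df_le_of_ov {χ : IrrCharacter G} {θ : IrrCharacter N} (h : Ov N.subtype (χ : G → ℂ) (θ : N → ℂ)) :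
    df p θ ≤ df p χ := by
  letI := Fintype.ofFinite G
  letI := Fintype.ofFinite N
  obtain ⟨⟨m, hm⟩, h2⟩ := S0887.result N χ χ.2 θ θ.2 ((ov_subtype_iff N _ _).1 h) _ _
    (Basic.irr_one_eq_charDegree χ.2) (Basic.irr_one_eq_charDegree θ.2)
  rw [hm, Nat.mul_div_cancel_left _ (Basic.charDegree_pos θ.2)] at h2
  have h3 := fac_mul (p := p) hm.symm (Basic.charDegree_pos χ.2).ne'
  have h4 := fac_le (p := p) h2 Subgroup.index_ne_zero_of_finite
  have h5 := fac_mul (p := p) N.card_mul_index Nat.card_pos.ne'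
  have h6 := df_add (p := p) χ
  have h7 := df_add (p := p) θ
  change nu p θ + _ = nu p χ at h3
  omega

omit [Finite G] hN in
theorem Cn.sub (hW : Cn W D) (N : Subgroup G) : Cn ((W ⊓ N).subgroupOf N) ((D ⊓ N).subgroupOf N) :=
  Cn.comap ⟨inf_le_inf_right N hW.1, fun w hw d hd => hW.2 w hw.1 d hd.1⟩ N.subtype_injective

omit [Finite G] hN in
theorem le_of_sub_eq (h : (W ⊓ N).subgroupOf N = (D ⊓ N).subgroupOf N) : D ⊓ N ≤ W := fun x hx => by
  have h1 : (⟨x, hx.2⟩ : N) ∈ (D ⊓ N).subgroupOf N := hx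
  rw [← h] at h1
  exact h1.1

/-- **A normal subgroup containing `W`.** -/
theorem gen (hM : IsPModular p M) (hB : IsPBlock M B) (hD : IsDefectGroup p M B D) (hc : IsPBlock M (cov B N))
    (ih : RW p M N) {χ : IrrCharacter G} (hχ : χ ∈ B) (hW : Cn W D) (hWN : W ≤ N) (hne : ¬ D ⊓ N ≤ W) :
    (Nat.card W).factorization p < df p χ := by
  obtain ⟨θ, hθ⟩ := exists_ov N.subtype χ.2
  have h1 := ih _ _ hc (defect_cov hM hB hD hc) θ ⟨χ, hχ, hθ⟩ _ (hW.sub N) fun h => hne (le_of_sub_eq h)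
  rw [inf_eq_left.2 hWN, card_sub hWN] at h1
  exact h1.trans_le (df_le_of_ov hθ)

omit [Finite G] in
theorem exists_zpow (hi : N.index = p) {u : G} (hu : u ∉ N) (y : G) : ∃ k : ℤ, y * (u ^ k)⁻¹ ∈ N := by
  obtain ⟨k, hk⟩ := mem_zpowers_of_prime_card (G := G ⧸ N) hi (g := (u : G ⧸ N))
    (fun h => hu ((QuotientGroup.eq_one_iff u).1 h)) (g' := (y : G ⧸ N))
  refine ⟨k, (QuotientGroup.eq_one_iff _).1 ?_⟩
  rw [QuotientGroup.mk_mul, QuotientGroup.mk_inv, QuotientGroup.mk_zpow, ← hk]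
  exact mul_inv_cancel _

/-- **Index `p`.** -/
theorem idx (hM : IsPModular p M) (hB : IsPBlock M B) (hD : IsDefectGroup p M B D) (hc : IsPBlock M (cov B N))
    (ih : RW p M N) (hi : N.index = p) {χ : IrrCharacter G} (hχ : χ ∈ B) (hW : Cn W D)
    (hmax : ∀ x ∈ D, (∀ d ∈ D, x * d = d * x) → x ∈ W) (hne : W ≠ D) : (Nat.card W).factorization p < df p χ := by
  have hp : p.Prime := Fact.out
  letI := Fintype.ofFinite G
  letI := Fintype.ofFinite N
  by_cases hWN : W ≤ N
  · refine gen hM hB hD hc ih hχ hW hWN fun h => hne (le_antisymm hW.1 fun x hx => ?_)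
    by_cases hxN : x ∈ N
    · exact h ⟨hx, hxN⟩
    refine hmax x hx fun y hy => ?_
    obtain ⟨k, hk⟩ := exists_zpow hi hxN y
    have h1 : Commute (y * (x ^ k)⁻¹) x := hW.2 _ (h ⟨D.mul_mem hy (D.inv_mem (D.zpow_mem hx k)), hk⟩) x hx
    have h2 := h1.mul_left ((Commute.refl x).zpow_left k)
    rw [inv_mul_cancel_right] at h2
    exact h2.symm.eq
  obtain ⟨u, hu, huN⟩ := Set.not_subset.1 hWN
  obtain ⟨g, -, -, hg⟩ := H614.Spin.exists_defect_elt hM hB hD
  obtain ⟨a, haN, ha⟩ : ∃ a, a ∉ N ∧ (χ : G → ℂ) a ≠ 0 := by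
    by_cases h : g ∈ N
    · exact ⟨u * g, fun h1 => huN ((N.mul_mem_cancel_right h).1 h1),
        hg u (hW.1 hu) (fun d hd => (hW.2 u hu d hd).symm) χ hχ⟩
    · exact ⟨1 * g, by rwa [one_mul], hg 1 D.one_mem (fun d _ => by rw [mul_one, one_mul]) χ hχ⟩
  have hcyc : IsCyclic (G ⧸ N) := isCyclic_of_prime_card hi
  have hirr := H646.Restrict.isIrr_restrict (N := N) (fun a b => hcyc.isMulCommutative.is_comm.comm a b) χ.2
    fun μ hμ => by
      have h1 : μ (a : G ⧸ N) = 1 := mul_left_cancel₀ ha ((hμ a).trans (mul_one _).symm)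
      ext y
      obtain ⟨k, hk⟩ := mem_powers_iff_mem_zpowers.2 (mem_zpowers_of_prime_card (G := G ⧸ N) hi (g := (a : G ⧸ N))
        (fun h => haN ((QuotientGroup.eq_one_iff a).1 h)) (g' := (y : G ⧸ N)))
      change μ (y : G ⧸ N) = 1
      rw [← hk, map_pow, h1, one_pow]
  have h1 := ih _ _ hc (defect_cov hM hB hD hc) ⟨_, hirr⟩ ⟨χ, hχ, by
    rw [ov_subtype_iff, classInner_irr_self hirr]
    exact one_ne_zero⟩ _ (hW.sub N) fun h => hne (le_antisymm hW.1 fun y hy => by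
      obtain ⟨k, hk⟩ := exists_zpow hi huN y
      have h2 := W.mul_mem (le_of_sub_eq h ⟨D.mul_mem hy (D.inv_mem (D.zpow_mem (hW.1 hu) k)), hk⟩) (W.zpow_mem hu k)
      rwa [inv_mul_cancel_right] at h2)
  rw [card_sub inf_le_right] at h1
  have h2 := fac_mul (p := p) (card_inf_mul W N) Nat.card_pos.ne'
  have h3 := fac_le (p := p) (Subgroup.relIndex_dvd_index_of_normal N W) Subgroup.index_ne_zero_of_finite
  have h4 := fac_mul (p := p) N.card_mul_index Nat.card_pos.ne'
  have h5 := df_add (p := p) χ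
  have h6 := df_add (p := p) (⟨_, hirr⟩ : IrrCharacter N)
  have h7 : nu p (⟨_, hirr⟩ : IrrCharacter N) = nu p χ := rfl
  omega

end Cfsg.Agent.KM.Mu
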