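import Cfsg.Agent.KM.Mu.Small
import Cfsg.Agent.S4622

/-!
# S4576: trivial intersection defect groups (helper3)
-/

set_option autoImplicit false
set_option linter.style.haveILetI false
set_option linter.unusedSectionVars false

open Cfsg
open scoped ComplexConjugate Pointwise

namespace Cfsg.Agent.KM.Mu

open Cfsg.Agent Cfsg.Agent.Characters.Core Cfsg.Agent.Blocks Cfsg.Agent.TID.Red Cfsg.Agent.KM.BK

universe u v

variable {p : ℕ} [Fact p.Prime] {M : Ideal AlgInt} {G : Type u} [Group G] [Finite G]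
  {B : Set (IrrCharacter G)} {D W : Subgroup G}

/-- **Trivial intersection defect groups.** -/
theorem sm_ti (hO : pCore p G = ⊥) (hM : IsPModular p M) (hB : IsPBlock M B) (hD : IsDefectGroup p M B D)
    (hD1 : D ≠ ⊥) (hTI : ∀ g : G, g ∉ Subgroup.normalizer (D : Set G) → D ⊓ (MulAut.conj g • D) = ⊥)
    (ih : RW p M (Subgroup.normalizer (D : Set G))) {χ : IrrCharacter G} (hχ : χ ∈ B) : Sm p D (df p χ) := by
  have hf := finite_irr (G := G)
  have hDp := H592.Defect.isPGroup_of_isDefectGroup hD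
  have h1 := S4622.result p hO M hM B hB D hD hD1 hTI (df p χ)
  have h2 := (Nat.card_pos_iff.2 ⟨⟨(⟨χ, hχ, (df_add χ).symm⟩ : {χ' : IrrCharacter G // χ' ∈ B ∧
    (Nat.card G).factorization p = df p χ + (charDegree (χ' : G → ℂ)).factorization p})⟩, inferInstance⟩).ne'
  rw [h1] at h2
  obtain ⟨⟨ψ, ⟨b, hψ, hi⟩, h3⟩⟩ := (Nat.card_ne_zero.1 h2).1
  obtain ⟨E, hE⟩ := H592.Defect.exists_defectGroup p hM hi.1
  have h4 : D.subgroupOf (Subgroup.normalizer (D : Set G)) ≤ E :=
    (Lib.Cores.le_pCore Subgroup.normal_in_normalizer hDp.comap_subtype).trans (S0912.result p M hM b hi.1 E hE)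
  obtain ⟨E', hE', h5⟩ := S0917.result p M hM _ b hi.1 B hB hi E hE
  have h6 := fac_mono (p := p) h5
  rw [Subgroup.card_map_of_injective (Subgroup.subtype_injective _), H592.Defect.factorization_card_defect p hM hB hE',
    ← H592.Defect.factorization_card_defect p hM hB hD, ← card_sub (Subgroup.le_normalizer (H := D))] at h6
  have h9 : D.subgroupOf (Subgroup.normalizer (D : Set G)) = E :=
    H592.Defect.eq_of_le_of_factorization p hDp.comap_subtype (H592.Defect.isPGroup_of_isDefectGroup hE) h4 h6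
  rw [← h9] at hE
  have h7 := (ih b _ hi.1 hE ψ hψ).map (Subgroup.subtype_injective _)
  have h8 := df_add (p := p) ψ
  change _ = _ + nu p ψ at h3
  rwa [Subgroup.subgroupOf_map_subtype, inf_eq_left.2 Subgroup.le_normalizer, show df p ψ = df p χ by omega] at h7

end Cfsg.Agent.KM.Mu
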