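import Cfsg.Agent.KM.Mu.LieC
import Cfsg.Agent.KM.Mu.Ti
import Cfsg.Agent.KM.Own
import Cfsg.Agent.TO.DC.Rk
import Cfsg.Agent.H95.StemCover
import Cfsg.Agent.S0243
import Cfsg.Agent.S2086
import Cfsg.Agent.S2089
import Cfsg.Agent.S2113

/-!
# S4576: the row of the defining characteristic (helper3)

* `rrowS_ti`, `rrow_psl2` : the groups of rank one;
* `rowLie : RRowFor CLie`.
-/

set_option autoImplicit false
set_option linter.unusedSectionVars false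

namespace Cfsg.Agent.KM.Mu.Lie

open Cfsg Cfsg.Agent.KM.BK Cfsg.Lie
open scoped Pointwise

variable {p : ℕ} [Fact p.Prime]

/-- the `p`-elements of the kernel are trivial -/
theorem eq_one_of {M : Ideal AlgInt} {K : Type} [Group K] [Finite K] {B : Set (IrrCharacter K)} {D : Subgroup K}
    {χ : IrrCharacter K} {S : Type} [Group S] {σ : K →* S} (H : RHyp p M B D χ σ) {n : ℕ}
    (h : HasCyclicSchurMultiplier S n) (hn : ¬ p ∣ n) {z : K} (hz : σ z = 1) {k : ℕ} (hk : z ^ p ^ k = 1) : z = 1 := by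
  have h1 := (orderOf_dvd_natCard (⟨z, hz⟩ : σ.ker)).trans
    (H95.StemCover.card_ker_dvd_cyclic h H.qs.1.commutator_eq_top σ H.surj H.ker.le)
  rw [← Subgroup.orderOf_coe] at h1
  exact orderOf_eq_one_iff.1 (Nat.eq_one_of_dvd_coprimes
    (((Fact.out : p.Prime).coprime_iff_not_dvd.2 hn).pow_left k) (orderOf_dvd_of_pow_eq_one hk) h1)

theorem pow_one_of {K : Type} [Group K] {D : Subgroup K} (hD : IsPGroup p D) {x : K} (hx : x ∈ D) :
    ∃ k, x ^ p ^ k = 1 := (hD ⟨x, hx⟩).imp fun _ h => congrArg Subtype.val h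

/-- trivial intersection Sylow subgroups -/
theorem rrowS_ti {S : Type} [Group S] [Finite S] [IsSimpleGroup S] (hZ : Subgroup.center S = ⊥) {n : ℕ}
    (h : HasCyclicSchurMultiplier S n) (hn : ¬ p ∣ n) (hT : H794.TI p S) : RRowS p S := by
  intro K _ _ σ M B D χ H hi
  have h1 : ∀ U : Subgroup K, IsPGroup p U → ∀ z ∈ U, σ z = 1 → z = 1 := fun U hU z hz h2 => by
    obtain ⟨k, hk⟩ := pow_one_of hU hz
    exact eq_one_of H h hn h2 hk
  have hO : pCore p K = ⊥ := by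
    have h2 := (Lib.Cores.pCore_isPGroup (G := K) p).map σ
    rcases ((Lib.Cores.pCore_normal p).map σ H.surj).eq_bot_or_eq_top with h3 | h3
    · exact eq_bot_iff.2 fun z hz => h1 _ (Lib.Cores.pCore_isPGroup p) z hz ((Subgroup.map_eq_bot_iff _).1 h3 hz)
    · rw [h3] at h2
      have h4 := (h2.of_equiv Subgroup.topEquiv).center_nontrivial
      rw [hZ] at h4
      exact absurd h4 (not_nontrivial _)
  have hD1 : D ≠ ⊥ := fun e => H.nab fun x hx y _ => by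
    rw [e, Subgroup.mem_bot] at hx
    rw [hx, one_mul, mul_one]
  have hN : Subgroup.normalizer (D : Set K) ≠ ⊤ := fun e =>
    hD1 (eq_bot_iff.2 (hO ▸ Lib.Cores.le_pCore (Subgroup.normalizer_eq_top_iff.1 e) H.pg))
  refine (rob_iff H.nab).2 (sm_ti hO H.hM H.hB H.hD hD1 (fun g hg => eq_bot_iff.2 fun x hx => ?_) (H.sub _ hN) H.mem)
  by_contra h2
  obtain ⟨y, hy, rfl⟩ := (Subgroup.mem_smul_pointwise_iff_exists _ _ _).1 hx.2
  have h3 := hT ((H.pg.map σ).toSylow fun e => hi (e.trans (D.index_map_dvd H.surj))) (σ y) ⟨y, hy, rfl⟩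
    (fun e => h2 (by rw [h1 D H.pg y hy e, smul_one]; exact one_mem _)) (σ g) ⟨_, hx.1, by simp⟩
  refine hg (Subgroup.mem_normalizer_fintype fun d hd => ?_)
  obtain ⟨e, he, h4⟩ := (Subgroup.mem_normalizer_iff.1 h3 (σ d)).1 ⟨d, hd, rfl⟩
  have h5 : σ (e⁻¹ * (g * d * g⁻¹)) = 1 := by rw [map_mul, map_inv, h4, map_mul, map_mul, map_inv, inv_mul_cancel]
  have h6 := Subgroup.mem_center_iff.1 (H.ker.le h5)
  obtain ⟨k, hk⟩ := pow_one_of H.pg hd
  obtain ⟨l, hl⟩ := pow_one_of H.pg he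
  have h7 : (e⁻¹ * (g * d * g⁻¹)) ^ p ^ (k + l) = 1 := by
    have h8 : Commute e (e⁻¹ * (g * d * g⁻¹)) := h6 e
    have h9 := h8.mul_pow (p ^ (k + l))
    rw [mul_inv_cancel_left, conj_pow, pow_add, pow_mul d, hk, mul_comm (p ^ k), pow_mul e, hl] at h9
    simpa [pow_add, mul_comm] using h9.symm
  have h10 := eq_one_of H h hn h5 h7
  rw [inv_mul_eq_one] at h10
  exact h10 ▸ he

theorem rrow_psl2 (hp2 : p ≠ 2) {F : Type} [Field F] [Fintype F] [CharP F p] (h4 : 4 ≤ Fintype.card F) :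
    RRow p (Matrix.ProjectiveSpecialLinearGroup (Fin 2) F) := by
  have : Finite (Matrix.ProjectiveSpecialLinearGroup (Fin 2) F) := Quotient.finite _
  have hp : p.Prime := Fact.out
  obtain ⟨f, -, hf⟩ := FiniteField.card F p
  have h1 : p ∣ Fintype.card F := hf ▸ dvd_pow_self p f.pos.ne'
  by_cases h9 : Fintype.card F = 9
  · refine rrow_of_card fun h => ?_
    have h2 := S0243.result h9 2 le_rfl
    have h3 : Nat.card (Matrix.ProjectiveSpecialLinearGroup (Fin 2) F) = 360 := by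
      norm_num [Fin.prod_univ_two] at h2
      omega
    rw [h9] at h1
    rw [h3, (Nat.prime_dvd_prime_iff_eq hp Nat.prime_three).1 (hp.dvd_of_dvd_pow (n := 2) h1)] at h
    norm_num at h
  have h2 := S2086.result (F := F) rfl 2 le_rfl (fun _ => h4) (by
    simp only [Set.mem_insert_iff, Set.mem_singleton_iff, Prod.mk.injEq, true_and, not_or]
    refine ⟨fun h => hp2 ?_, h9, by omega, by omega, by omega⟩
    rw [h] at h1
    exact (Nat.prime_dvd_prime_iff_eq hp Nat.prime_two).1 (hp.dvd_of_dvd_pow (n := 2) h1))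
  intro K _ _ σ M B D χ H
  refine absurd (fun x hx y hy => ?_) H.nab
  obtain ⟨k, hk⟩ := pow_one_of H.pg (mul_mem (mul_mem hx hy) (inv_mem (mul_mem hy hx)))
  refine mul_inv_eq_one.1 (eq_one_of H h2 (not_dvd_gcd hf Fintype.one_lt_card).1 ?_ hk)
  rw [map_mul, map_inv, map_mul, map_mul, mul_inv_eq_one]
  exact Subgroup.mem_centralizer_iff.1 (TO.DC.psl2_comm (H.pg.map σ) ⟨y, hy, rfl⟩) _ ⟨x, hx, rfl⟩

/-- the blocks of full defect -/
theorem rrowS_lie (hp2 : p ≠ 2) {S : Type} [Group S] [Finite S] [IsSimpleGroup S] (hS : ¬ IsMulCommutative S)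
    (hC : IsLieTypeChar p S) : RRowS p S := by
  have hZ : ∀ {T : Type} [Group T] (e : S ≃* T), IsSimpleGroup T ∧ Subgroup.center T = ⊥ := fun e => by
    have := e.symm.isSimpleGroup
    exact ⟨this, center_bot _ fun h => hS ⟨⟨fun a b => e.injective (by rw [map_mul, map_mul, h.is_comm.comm])⟩⟩⟩
  rcases hC with h | h | h | h | h | h | h | h | h | h | h
  · obtain ⟨F, _, _, _, n, hn, h2, ⟨e⟩⟩ := h
    refine .of_equiv e ?_
    rcases hn.eq_or_lt with rfl | hn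
    · exact fun K _ _ σ M B D χ H _ => rrow_psl2 hp2 (h2 rfl) K σ M B D χ H
    · obtain ⟨k, rfl⟩ : ∃ k, n = k + 2 + 1 := ⟨n - 3, by omega⟩
      have := (hZ e).1
      exact rrowS_psl hp2 k (hZ e).2
  · obtain ⟨F, _, _, _, n, hn, -, ⟨e⟩⟩ := h
    obtain ⟨k, rfl⟩ : ∃ k, n = k + 2 := ⟨n - 2, by omega⟩
    have := (hZ e).1
    exact .of_equiv e (rrowS_psp hp2 k (hZ e).2)
  · obtain ⟨F, _, _, _, n, q, hF, hn, h3, ⟨e⟩⟩ := h
    have := (hZ e).1
    refine .of_equiv e ?_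
    rcases hn.eq_or_lt with rfl | hn
    · have : Finite (PSU 3 F q) := Quotient.finite _
      obtain ⟨h2, f, hf⟩ := exists_pow (p := p) hF
      exact rrowS_ti (hZ e).2 (S2089.result 3 q hF le_rfl h3 (by simp)) (not_dvd_gcd hf h2).2.1 (TO.DC.ti_psu3 hF)
    · obtain ⟨k, rfl⟩ : ∃ k, n = k + 3 + 1 := ⟨n - 4, by omega⟩
      exact rrowS_psu hp2 hF k (hZ e).2
  · obtain ⟨F, _, _, _, n, hn, -, ⟨e⟩⟩ := h
    obtain ⟨k, rfl⟩ : ∃ k, n = k + 1 + 2 := ⟨n - 3, by omega⟩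
    have := (hZ e).1
    exact .of_equiv e (rrowS_odd hp2 k (hZ e).2)
  · obtain ⟨F, _, _, _, n, hn, ⟨e⟩⟩ := h
    obtain ⟨k, rfl⟩ : ∃ k, n = k + 2 + 2 := ⟨n - 4, by omega⟩
    have := (hZ e).1
    exact .of_equiv e (rrowS_plus hp2 k (hZ e).2)
  · obtain ⟨F, _, _, _, n, a, b, hn, hab, ⟨e⟩⟩ := h
    obtain ⟨k, rfl⟩ : ∃ k, n = k + 1 + 2 + 1 := ⟨n - 4, by omega⟩
    change S ≃* POmega F (quadFormMinus (k + 1 + 2) F a b) at e
    have := (hZ e).1
    exact .of_equiv e (rrowS_minus hp2 k a b hab (hZ e).2)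
  · obtain ⟨F, _, _, _, ⟨-, ⟨e⟩⟩ | ⟨⟨e⟩⟩ | ⟨⟨e⟩⟩ | ⟨⟨e⟩⟩ | ⟨⟨e⟩⟩⟩ := h <;> have := (hZ e).1
    exacts [.of_equiv e (rrowS_G2 hp2), .of_equiv e (rrowS_F4 hp2), .of_equiv e (rrowS_E6 hp2),
      .of_equiv e (rrowS_E7 hp2), .of_equiv e (rrowS_E8 hp2)]
  · obtain ⟨F, _, _, _, q, hq, ⟨hF, ⟨e⟩⟩ | ⟨hF, ⟨e⟩⟩⟩ := h
    exacts [.of_equiv e (rrowS_TE6 hp2 hq hF), .of_equiv e (rrowS_D4 hp2 hq hF)]
  · exact absurd h.1 hp2
  · exact absurd h.1 hp2
  · obtain ⟨rfl, h⟩ := h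
    have h1 := H794.DefClosed.ti_ree h
    obtain ⟨F, _, _, m, hm, hF, ⟨e⟩⟩ := h
    have := (hZ e).1
    have := Finite.of_equiv S e.toEquiv
    exact .of_equiv e (rrowS_ti (hZ e).2 (S2113.result hm hF) not_dvd_one (H794.DefClosed.TI.congr e h1))

/-- **The row of the defining characteristic.** -/
theorem rowLie : RRowFor CLie := by
  intro p _ hp2 S _ _ _ hS hC K _ _ σ M B D χ H
  rcases Own.cen_or_syl σ H.surj H.ker.le hC H.hM H.hB H.hD with h | ⟨P, rfl⟩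
  · exact absurd (fun x hx y _ => (Subgroup.mem_center_iff.1 (h hx) y).symm) H.nab
  · exact rrowS_lie hp2 hS hC K σ M B _ χ H P.not_dvd_index

end Cfsg.Agent.KM.Mu.Lie
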