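import Cfsg.Agent.KM.Mu.Small
import Cfsg.Agent.KM.Defs
import Cfsg.Agent.H315.RatB0.SzRee
import Cfsg.Agent.S4578

/-!
# S4576: the rows (helper3)

* `RHyp p M B D χ σ` : `χ` is a faithful member of the block `B` of the cover `σ : K →* S` with the non-abelian defect
  group `D`, `|Z(D)| ≥ p ^ 2 |Z(K)|_p`; the theorem of Kessar and Malle and the induction hypothesis are fields;
* `RRow p S`, `RRowFor C`, `RRows`, `RRows.known`, `RRows.rqi`; `rowAlt`, `rowSz`, `rowRee`, `rrow_of_card`.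
-/

set_option autoImplicit false
set_option linter.unusedSectionVars false

namespace Cfsg.Agent.KM.Mu

open Cfsg Cfsg.Agent.KM.BK
open scoped commutatorElement

/-- the hypothesis of the quasisimple case; `σ` is the quotient by the centre -/
structure RHyp (p : ℕ) (M : Ideal AlgInt) {K : Type} [Group K] (B : Set (IrrCharacter K)) (D : Subgroup K)
    (χ : IrrCharacter K) {S : Type} [Group S] (σ : K →* S) : Prop where
  hM : IsPModular p M
  hB : IsPBlock M B
  hD : IsDefectGroup p M B D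
  na : ¬ IsMulCommutative D
  mem : χ ∈ B
  qs : IsQuasisimple K
  surj : Function.Surjective σ
  ker : σ.ker = Subgroup.center K
  cyc : IsCyclic (Subgroup.center K)
  faith : ∀ z ∈ Subgroup.center K, (χ : K → ℂ) z = (χ : K → ℂ) 1 → z = 1
  big : (Nat.card (Subgroup.center K)).factorization p + 2 ≤ (Nat.card (Subgroup.center D)).factorization p
  km : ∀ (H : Type) [Group H] [Finite H], KMg p M H
  ih : ∀ (H : Type) [Group H] [Finite H], (Subgroup.center H).index < Nat.card S → RW p M H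

/-- the statement for the covers of `S` -/
def RRow (p : ℕ) (S : Type) [Group S] : Prop :=
  ∀ (K : Type) [Group K] [Finite K] (σ : K →* S) (M : Ideal AlgInt) (B : Set (IrrCharacter K)) (D : Subgroup K)
    (χ : IrrCharacter K), RHyp p M B D χ σ → Rob p D χ

/-- the statement for the nonabelian simple groups with the property `C p`, `p` odd -/
def RRowFor (C : ℕ → ∀ (S : Type) [Group S], Prop) : Prop :=
  ∀ (p : ℕ) [Fact p.Prime], p ≠ 2 → ∀ (S : Type) [Group S] [Finite S] [IsSimpleGroup S],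
    ¬ IsMulCommutative S → C p S → RRow p S

section

variable {p : ℕ} {M : Ideal AlgInt} {K : Type} [Group K] {B : Set (IrrCharacter K)} {D : Subgroup K}
  {χ : IrrCharacter K} {S T : Type} [Group S] [Group T] {σ : K →* S}

theorem RHyp.congr (H : RHyp p M B D χ σ) (e : S ≃* T) : RHyp p M B D χ (e.toMonoidHom.comp σ) :=
  { H with
    surj := e.surjective.comp H.surj
    ker := by
      rw [← H.ker]
      ext x
      simp [MonoidHom.mem_ker]
    ih := fun X _ _ h => H.ih X (by rwa [Nat.card_congr e.toEquiv]) }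

/-- the central quotient -/
noncomputable def RHyp.equiv (H : RHyp p M B D χ σ) : K ⧸ Subgroup.center K ≃* S :=
  (QuotientGroup.quotientMulEquivOfEq H.ker.symm).trans (QuotientGroup.quotientKerEquivOfSurjective σ H.surj)

theorem RRow.of_equiv (e : S ≃* T) (h : RRow p T) : RRow p S :=
  fun K _ _ _ M B D χ H => h K _ M B D χ (H.congr e)

variable [Fact p.Prime] [Finite K]

theorem RHyp.pg (H : RHyp p M B D χ σ) : IsPGroup p D := H592.Defect.isPGroup_of_isDefectGroup H.hD

theorem RHyp.nab (H : RHyp p M B D χ σ) : ¬ Ab D := fun h => H.na (ab_iff.1 h)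

theorem RHyp.index (H : RHyp p M B D χ σ) : (Subgroup.center K).index = Nat.card S := Nat.card_congr H.equiv.toEquiv

/-- the induction hypothesis for proper subgroups -/
theorem RHyp.sub (H : RHyp p M B D χ σ) (U : Subgroup K) (hU : U ≠ ⊤) : RW p M U := by
  refine H.ih U ?_
  have h1 : (Subgroup.center K).subgroupOf U ≤ Subgroup.center U := fun x hx =>
    Subgroup.mem_center_iff.2 fun g => Subtype.ext (Subgroup.mem_center_iff.1 hx g)
  refine (Subgroup.index_antitone h1).trans_lt ?_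
  change (Subgroup.center K).relIndex U < _
  rw [← H.index, ← Subgroup.relIndex_sup_right, ← Subgroup.relIndex_mul_index (le_sup_right : _ ≤ U ⊔ Subgroup.center K)]
  refine lt_mul_of_one_lt_right (Nat.pos_of_ne_zero Subgroup.index_ne_zero_of_finite)
    (Subgroup.one_lt_index_of_ne_top fun h => hU ?_)
  rw [eq_top_iff, ← H.qs.1.commutator_eq_top, commutator_def, ← h, Subgroup.commutator_le]
  intro a ha b hb
  obtain ⟨x, hx, y, hy, rfl⟩ := Subgroup.mem_sup_of_normal_right.1 ha
  obtain ⟨z, hz, w, hw, rfl⟩ := Subgroup.mem_sup_of_normal_right.1 hb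
  have h3 : ⁅x * y, z * w⁆ = ⁅x, z⁆ := by
    have h4 := Subgroup.mem_center_iff.1 hy
    have h5 := Subgroup.mem_center_iff.1 hw
    calc ⁅x * y, z * w⁆ = x * (y * z * w) * y⁻¹ * x⁻¹ * w⁻¹ * z⁻¹ := by rw [commutatorElement_def]; group
      _ = x * z * (w * x⁻¹) * w⁻¹ * z⁻¹ := by rw [mul_assoc y, ← h4]; group
      _ = _ := by rw [← h5, commutatorElement_def]; group
  rw [h3]
  exact mul_mem (mul_mem (mul_mem hx hz) (inv_mem hx)) (inv_mem hz)

theorem fac_center (hD : IsPGroup p D) (ha : ¬ IsMulCommutative D) :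
    (Nat.card (Subgroup.center D)).factorization p + 2 ≤ (Nat.card D).factorization p := by
  by_contra h
  have h1 := fac_mul (p := p) (Subgroup.center D).card_mul_index Nat.card_pos.ne'
  obtain ⟨k, hk⟩ := IsPGroup.iff_card.1 (hD.to_quotient (Subgroup.center D))
  change (Subgroup.center D).index = _ at hk
  rw [hk, (Fact.out : p.Prime).factorization_pow, Finsupp.single_eq_same] at h1
  have h2 : IsCyclic (D ⧸ Subgroup.center D) := isCyclic_of_card_dvd_prime (p := p) (by
    change (Subgroup.center D).index ∣ _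
    rw [hk]
    exact (pow_dvd_pow p (by omega)).trans (pow_one p).dvd)
  exact ha ⟨⟨commutative_of_cyclic_center_quotient (QuotientGroup.mk' _) (QuotientGroup.ker_mk' _).le⟩⟩

theorem RHyp.fac_map (H : RHyp p M B D χ σ) (U : Subgroup K) : (Nat.card U).factorization p ≤
    (Nat.card (Subgroup.center K)).factorization p + (Nat.card (U.map σ)).factorization p := by
  have h1 := fac_mul (p := p) (card_ker_mul σ U) Nat.card_pos.ne'
  have h2 := fac_mono (p := p) (inf_le_right : U ⊓ σ.ker ≤ _)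
  rw [H.ker] at h1 h2
  omega

/-- the image of `D` has order at least `p ^ 4` -/
theorem RHyp.four_le (H : RHyp p M B D χ σ) : 4 ≤ (Nat.card (D.map σ)).factorization p := by
  have h1 := H.fac_map D
  have h2 := fac_center H.pg H.na
  have h3 := H.big
  omega

/-- the image of `Z(D)` has order at least `p ^ 2` -/
theorem RHyp.exists_cn (H : RHyp p M B D χ σ) :
    ∃ W : Subgroup S, Cn W (D.map σ) ∧ 2 ≤ (Nat.card W).factorization p := by
  have h2 : Cn ((Subgroup.center D).map D.subtype) D := ⟨Subgroup.map_subtype_le _, by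
    rintro _ ⟨w, hw, rfl⟩ d hd
    exact (congrArg Subtype.val (Subgroup.mem_center_iff.1 hw ⟨d, hd⟩)).symm⟩
  have h1 := H.fac_map ((Subgroup.center D).map D.subtype)
  rw [Subgroup.card_map_of_injective D.subtype_injective] at h1
  have h3 := H.big
  exact ⟨_, h2.map σ, by omega⟩

theorem RHyp.not_cyc (H : RHyp p M B D χ σ) : ¬ IsCyclic (D.map σ) := fun _ =>
  H.na ⟨⟨commutative_of_cyclic_center_quotient (σ.subgroupMap D) fun x hx => Subgroup.mem_center_iff.2 fun g =>
    Subtype.ext (Subgroup.mem_center_iff.1 (H.ker ▸ (congrArg Subtype.val hx : σ x = 1) : (x : K) ∈ _) g)⟩⟩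

end

theorem rrow_of_card {p : ℕ} [Fact p.Prime] {S : Type} [Group S] [Finite S] (h : ¬ p ^ 4 ∣ Nat.card S) : RRow p S :=
  fun _ _ _ σ _ _ D _ H => absurd ((((Fact.out : p.Prime).pow_dvd_iff_le_factorization Nat.card_pos.ne').2
    H.four_le).trans (Subgroup.card_subgroup_dvd_card (D.map σ))) h

/-- the rows; all the rows of Lie type except `lie` are in cross characteristic -/
structure RRows : Prop where
  alt : RRowFor CAlt
  lie : RRowFor CLie
  psl : RRowFor CPsl
  psp : RRowFor CPsp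
  psu : RRowFor CPsu
  oodd : RRowFor COdd
  oplus : RRowFor CPlus
  ominus : RRowFor CMinus
  g2 : RRowFor CG2
  f4 : RRowFor CF4
  e6 : RRowFor CE6
  e7 : RRowFor CE7
  e8 : RRowFor CE8
  te6 : RRowFor CTe6
  td4 : RRowFor CTd4
  sz : RRowFor CSz
  ree : RRowFor CRee
  tf4 : RRowFor CTf4
  tits : RRowFor CTits
  spor : RRowFor CSpor

/-- the assembly over the known simple groups -/
theorem RRows.known (R : RRows) : RRowFor (fun _ S _ => IsKnownSimple' S) := by
  intro p _ hp S _ _ _ hS hC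
  have lie : IsLieTypeChar p S → RRow p S := fun h => R.lie p hp S hS h
  have exc : IsExceptionalChevChar p S → RRow p S := fun h =>
    lie (Or.inr (Or.inr (Or.inr (Or.inr (Or.inr (Or.inr (Or.inl h)))))))
  have tw : IsTwistedE6D4Char p S → RRow p S := fun h =>
    lie (Or.inr (Or.inr (Or.inr (Or.inr (Or.inr (Or.inr (Or.inr (Or.inl h))))))))
  rcases hC with h | h | h | h | h | h | h | h | h | h
  · exfalso
    apply hS
    have : Fact (Nat.card S).Prime := ⟨h⟩
    have := isCyclic_of_prime_card (p := Nat.card S) (α := S) rfl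
    exact ⟨⟨fun a b => (IsCyclic.commGroup (α := S)).mul_comm a b⟩⟩
  · exact R.alt p hp S hS h
  · obtain ⟨F, iF, iN, n, hn, hn2, he⟩ := h
    by_cases hF : (p : F) = 0
    · exact lie (Or.inl ⟨F, iF, iN, charP_of_cast hF, n, hn, hn2, he⟩)
    · exact R.psl p hp S hS ⟨F, iF, iN, n, hF, hn, hn2, he⟩
  · obtain ⟨F, iF, iN, n, hn, hn2, he⟩ := h
    by_cases hF : (p : F) = 0
    · exact lie (Or.inr (Or.inl ⟨F, iF, iN, charP_of_cast hF, n, hn, hn2, he⟩))
    · exact R.psp p hp S hS ⟨F, iF, iN, n, hF, hn, hn2, he⟩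
  · obtain ⟨F, iF, iN, n, q, hq, hn, hn2, he⟩ := h
    by_cases hF : (p : F) = 0
    · exact lie (Or.inr (Or.inr (Or.inl ⟨F, iF, iN, charP_of_cast hF, n, q, hq, hn, hn2, he⟩)))
    · exact R.psu p hp S hS ⟨F, iF, iN, n, q, hF, hq, hn, hn2, he⟩
  · obtain ⟨F, iF, iN, m, hm, hodd, he⟩ := h
    by_cases hF : (p : F) = 0
    · exact lie (Or.inr (Or.inr (Or.inr (Or.inl ⟨F, iF, iN, charP_of_cast hF, m, hm, hodd, he⟩))))
    · exact R.oodd p hp S hS ⟨F, iF, iN, m, hF, hm, hodd, he⟩
  · obtain ⟨F, iF, iN, m, hm, he⟩ := h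
    by_cases hF : (p : F) = 0
    · exact lie (Or.inr (Or.inr (Or.inr (Or.inr (Or.inl ⟨F, iF, iN, charP_of_cast hF, m, hm, he⟩)))))
    · exact R.oplus p hp S hS ⟨F, iF, iN, m, hF, hm, he⟩
  · obtain ⟨F, iF, iN, m, a, b, hm, hab, he⟩ := h
    by_cases hF : (p : F) = 0
    · exact lie (Or.inr (Or.inr (Or.inr (Or.inr (Or.inr (Or.inl
        ⟨F, iF, iN, charP_of_cast hF, m, a, b, hm, hab, he⟩))))))
    · exact R.ominus p hp S hS ⟨F, iF, iN, m, a, b, hF, hm, hab, he⟩
  · rcases h with h | h | h | h | h | h | h | h | h | h | h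
    · obtain ⟨F, iF, iN, h3, he⟩ := h
      by_cases hF : (p : F) = 0
      · exact exc ⟨F, iF, iN, charP_of_cast hF, Or.inl ⟨h3, he⟩⟩
      · exact R.g2 p hp S hS ⟨F, iF, iN, hF, h3, he⟩
    · obtain ⟨F, iF, iN, he⟩ := h
      by_cases hF : (p : F) = 0
      · exact exc ⟨F, iF, iN, charP_of_cast hF, Or.inr (Or.inl he)⟩
      · exact R.f4 p hp S hS ⟨F, iF, iN, hF, he⟩
    · obtain ⟨F, iF, iN, he⟩ := h
      by_cases hF : (p : F) = 0
      · exact exc ⟨F, iF, iN, charP_of_cast hF, Or.inr (Or.inr (Or.inl he))⟩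
      · exact R.e6 p hp S hS ⟨F, iF, iN, hF, he⟩
    · obtain ⟨F, iF, iN, he⟩ := h
      by_cases hF : (p : F) = 0
      · exact exc ⟨F, iF, iN, charP_of_cast hF, Or.inr (Or.inr (Or.inr (Or.inl he)))⟩
      · exact R.e7 p hp S hS ⟨F, iF, iN, hF, he⟩
    · obtain ⟨F, iF, iN, he⟩ := h
      by_cases hF : (p : F) = 0
      · exact exc ⟨F, iF, iN, charP_of_cast hF, Or.inr (Or.inr (Or.inr (Or.inr he)))⟩
      · exact R.e8 p hp S hS ⟨F, iF, iN, hF, he⟩
    · obtain ⟨K, iF, iN, q, hq, hK, he⟩ := h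
      by_cases hF : (p : K) = 0
      · exact tw ⟨K, iF, iN, charP_of_cast hF, q, hq, Or.inl ⟨hK, he⟩⟩
      · exact R.te6 p hp S hS ⟨K, iF, iN, q, hF, hq, hK, he⟩
    · obtain ⟨K, iF, iN, q, hq, hK, he⟩ := h
      by_cases hF : (p : K) = 0
      · exact tw ⟨K, iF, iN, charP_of_cast hF, q, hq, Or.inr ⟨hK, he⟩⟩
      · exact R.td4 p hp S hS ⟨K, iF, iN, q, hF, hq, hK, he⟩
    · by_cases hp2 : p = 2
      · exact lie (Or.inr (Or.inr (Or.inr (Or.inr (Or.inr (Or.inr (Or.inr (Or.inr (Or.inl ⟨hp2, h⟩)))))))))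
      · exact R.sz p hp S hS ⟨hp2, h⟩
    · by_cases hp3 : p = 3
      · exact lie (Or.inr (Or.inr (Or.inr (Or.inr (Or.inr (Or.inr (Or.inr (Or.inr (Or.inr (Or.inr
          ⟨hp3, h⟩))))))))))
      · exact R.ree p hp S hS ⟨hp3, h⟩
    · by_cases hp2 : p = 2
      · exact lie (Or.inr (Or.inr (Or.inr (Or.inr (Or.inr (Or.inr (Or.inr (Or.inr (Or.inr (Or.inl ⟨hp2, h⟩))))))))))
      · exact R.tf4 p hp S hS ⟨hp2, h⟩
    · exact R.tits p hp S hS h
  · exact R.spor p hp S hS h

/-- **the quasisimple case from the rows and the classification** -/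
theorem RRows.rqi (R : RRows) (cfsg : ∀ (S : Type) [Group S] [Finite S] [IsSimpleGroup S], IsKnownSimple' S)
    {p : ℕ} [Fact p.Prime] (hp : p ≠ 2) (km : KMp.{0} p) : RQi.{0} p := by
  intro M hM K _ _ hK hc ih B D hB hD hA χ hχ hf
  have := hK.2
  by_cases h : (Nat.card (Subgroup.center D)).factorization p ≤ (Nat.card (Subgroup.center K)).factorization p + 1
  · exact rob_small hM hB hD hA hχ h
  refine R.known p hp (K ⧸ Subgroup.center K) (fun hab => ?_) (cfsg _) K (QuotientGroup.mk' _) M B D χ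
    ⟨hM, hB, hD, hA, hχ, hK, QuotientGroup.mk'_surjective _, QuotientGroup.ker_mk' _, hc, hf, by omega, km M hM,
      fun H _ _ h1 => rw_of_rcg hM (km M hM H) (ih H h1)⟩
  have h1 : commutator K ≤ Subgroup.center K := by
    rw [← QuotientGroup.ker_mk' (Subgroup.center K), commutator_def, Subgroup.commutator_le]
    intro a _ b _
    rw [MonoidHom.mem_ker, map_commutatorElement, commutatorElement_eq_one_iff_mul_comm]
    exact hab.is_comm.comm _ _
  rw [hK.1.commutator_eq_top] at h1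
  obtain ⟨x, y, hxy⟩ := exists_pair_ne (K ⧸ Subgroup.center K)
  obtain ⟨a, rfl⟩ := QuotientGroup.mk_surjective x
  obtain ⟨b, rfl⟩ := QuotientGroup.mk_surjective y
  exact hxy (QuotientGroup.eq.2 (h1 (Subgroup.mem_top _)))

theorem rowAlt : RRowFor CAlt := by
  rintro p _ - S _ _ _ - ⟨n, hn, ⟨e⟩⟩ K _ _ σ M B D χ H
  obtain ⟨h1, h2⟩ := S4578.result H.qs n hn (H.equiv.trans e) p M H.hM B H.hB D H.hD χ H.mem
  have h3 := lt_of_le_of_ne h1 fun h => H.na (h2.1 h)
  have h4 := df_height H.hM H.hB H.hD H.mem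
  have h5 := fac_mul (p := p) (Subgroup.center D).card_mul_index Nat.card_pos.ne'
  have h6 := df_add (p := p) χ
  change nu p χ + _ < _
  omega

theorem rowSz : RRowFor CSz := fun _ _ _ _ _ _ _ _ h _ _ _ σ _ _ _ _ H =>
  absurd (OddRank.SzTits.isCyclic_of_isPGroup h.2 h.1 _ (H.pg.map σ)) H.not_cyc

theorem rowRee : RRowFor CRee := by
  rintro p hp h2 S _ _ _ - ⟨hp3, h⟩ K _ _ σ M B D χ H
  have := hp.out.two_le
  exact absurd (H315.RatB0.isCyclic_ree h (by omega) _ (H.pg.map σ)) H.not_cyc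

end Cfsg.Agent.KM.Mu
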