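import Cfsg.Agent.KM.Mu.B

/-!
# S4576, reduction to quasisimple groups: normal subgroups carrying a block with central defect group (helper3)
-/

set_option autoImplicit false
set_option linter.style.haveILetI false
set_option linter.unusedSectionVars false

open Cfsg
open scoped commutatorElement ComplexConjugate

namespace Cfsg.Agent.KM.Mu

open Cfsg.Agent Cfsg.Agent.Characters.Core Cfsg.Agent.Blocks Cfsg.Agent.TID.Red Cfsg.Agent.KM.BK
open Cfsg.Agent.H592.Har Cfsg.Agent.H658.KKL.FongTwo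

universe u v

variable {p : ℕ} [Fact p.Prime] {M : Ideal AlgInt} {G : Type u} [Group G] [Finite G]
  {B : Set (IrrCharacter G)} {D W : Subgroup G}
  {q : ℕ} {N : Subgroup G} [hN : N.Normal] {θ : N → ℂ} {E : Type u} [Group E] [Finite E] (C : Cover q N θ E)

theorem map_inf_range {R : Subgroup E} (h : R.map C.π ≤ D) : (R ⊓ C.s.range).map C.π ≤ D ⊓ N := by
  rintro _ ⟨_, ⟨hr, n, rfl⟩, rfl⟩
  refine ⟨h (Subgroup.mem_map_of_mem _ hr), ?_⟩
  rw [C.sec]
  exact n.2

theorem fac_inf_range {R : Subgroup E} (h : R.map C.π ≤ D) :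
    (Nat.card (R ⊓ C.s.range : Subgroup E)).factorization p ≤ (Nat.card (D ⊓ N : Subgroup G)).factorization p := by
  rw [← card_map_of_disjoint C.π (R ⊓ C.s.range) (by
    rintro _ ⟨-, n, rfl⟩ h1
    rw [C.sec] at h1
    rw [show n = 1 from Subtype.ext h1, map_one])]
  exact fac_mono (map_inf_range C h)

theorem fac_bar {R : Subgroup E} (h : R.map C.π ≤ D) : (Nat.card R).factorization p ≤
    (Nat.card (D ⊓ N : Subgroup G)).factorization p +
      (Nat.card (R.map (QuotientGroup.mk' C.s.range))).factorization p := by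
  have h1 := fac_mul (p := p) (card_ker_mul (QuotientGroup.mk' C.s.range) R) Nat.card_pos.ne'
  rw [QuotientGroup.ker_mk'] at h1
  have h2 := fac_inf_range (p := p) C h
  omega

theorem s_central {n : N} (hn : (n : G) ∈ Subgroup.center G) : C.s n ∈ Subgroup.center E := by
  rw [Subgroup.mem_center_iff]
  intro x
  obtain ⟨m, hm⟩ := C.normal.conj_mem _ ⟨n, rfl⟩ x
  have h1 := congrArg C.π hm
  rw [map_mul, map_mul, map_inv, C.sec, C.sec, Subgroup.mem_center_iff.1 hn, mul_inv_cancel_right] at h1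
  rw [Subtype.ext h1] at hm
  exact mul_inv_eq_iff_eq_mul.1 hm.symm

theorem psi_zero (hM : IsPModular p M) (hθ : IsIrrCharacter N θ) {Q : Subgroup E} (hQ : IsPGroup p Q)
    (hQc : Q ≤ Subgroup.center E) (hQS : Q ≤ C.s.range)
    (h0 : (charDegree C.ψ).factorization p + (Nat.card Q).factorization p = (Nat.card C.s.range).factorization p)
    {w a : E} (hw : ¬ p ∣ orderOf (w : E ⧸ C.s.range)) (ha : IsPPart p w a) (haQ : a ∉ Q) : C.ψ w = 0 := by
  set Y := (Subgroup.zpowers (w : E ⧸ C.s.range)).comap (QuotientGroup.mk' C.s.range) with hY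
  have hS : C.s.range ≤ Y := by
    have h1 := (Subgroup.zpowers (w : E ⧸ C.s.range)).ker_le_comap (QuotientGroup.mk' C.s.range)
    rwa [QuotientGroup.ker_mk'] at h1
  have h1 := fac_mul (p := p) (card_comap' (QuotientGroup.mk'_surjective C.s.range)
    (Subgroup.zpowers (w : E ⧸ C.s.range))) Nat.card_pos.ne'
  rw [QuotientGroup.ker_mk', Nat.card_zpowers, Nat.factorization_eq_zero_of_not_dvd hw, ← hY] at h1
  have h2 := fac_mul (p := p) (Q.subgroupOf Y).card_mul_index Nat.card_pos.ne'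
  rw [card_sub (hQS.trans hS)] at h2
  have hwY : w ∈ Y := Subgroup.mem_zpowers _
  obtain ⟨b, hb⟩ := PPart.exists_isPPart p (⟨w, hwY⟩ : Y)
  refine (S0969.result p M hM (Q.subgroupOf Y) hQ.comap_subtype (fun z hz => Subgroup.mem_center_iff.2 fun g =>
    Subtype.ext (Subgroup.mem_center_iff.1 (hQc hz) g)) ⟨_, isIrr_res_of_le C hθ Y hS⟩ ?_).2 ⟨w, hwY⟩ b hb ?_
  · change (charDegree C.ψ).factorization p = _
    omega
  · intro h3
    exact haQ (PPart.isPPart_unique (PPart.isPPart_coe hb) ha ▸ h3)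

theorem exists_reg (hM : IsPModular p M) (hθ : IsIrrCharacter N θ) {Q : Subgroup E} (hQ : IsPGroup p Q)
    (hQc : Q ≤ Subgroup.center E) (hQS : Q ≤ C.s.range)
    (h0 : (charDegree C.ψ).factorization p + (Nat.card Q).factorization p = (Nat.card C.s.range).factorization p)
    {χ : IrrCharacter G} {η : IrrCharacter (E ⧸ C.s.range)}
    (h : ∀ x : E, (χ : G → ℂ) (C.π x) = C.ψ x * (η : E ⧸ C.s.range → ℂ) x) {k : E ⧸ C.s.range}
    (hk : ¬ p ∣ orderOf k) (hu : ¬ MemLocalIdeal M (centralChar (η : E ⧸ C.s.range → ℂ) k)) :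
    ∃ w : E, ¬ p ∣ orderOf w ∧ IsConj k (w : E ⧸ C.s.range) ∧
      ¬ MemLocalIdeal M (centralChar (χ : G → ℂ) (C.π w)) := by
  classical
  have := Local.isPrime_of_isPModular hM
  letI := Fintype.ofFinite E
  letI := Fintype.ofFinite (E ⧸ C.s.range)
  have hψ := isIrr_apply_one_ne_zero C.irr
  have hη := isIrr_apply_one_ne_zero η.2
  have hS : (Nat.card C.s.range : ℂ) ≠ 0 := by exact_mod_cast (Nat.card_pos (α := C.s.range)).ne'
  have hord : ∀ {X : Type u} [Group X] {a b : X}, IsConj a b → orderOf a = orderOf b := by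
    intro X _ a b hab
    obtain ⟨c, hc⟩ := hab
    exact SemiconjBy.orderOf_eq (c : X) hc
  set F0 : E ⧸ C.s.range → ℂ := fun y =>
    if IsConj k y then (η : E ⧸ C.s.range → ℂ) y / (η : E ⧸ C.s.range → ℂ) 1 else 0 with hF0
  have h1 : ∑ y, F0 y = centralChar (η : E ⧸ C.s.range → ℂ) k := by
    rw [← ClassSum.finsum_conj_div (isIrr_isClassFunction η.2) k,
      finsum_mem_eq_finite_toFinset_sum _ (Set.toFinite _), ← Finset.sum_filter]
    refine Finset.sum_congr ?_ fun _ _ => rfl
    ext y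
    simp
  have h2 := sum_reg hQ hQc (fun w : E => F0 w * (C.ψ w * conj (C.ψ w))) (by
    intro z hz w
    obtain ⟨c, hc, h3⟩ := CharDeep.DegreeBound.exists_omega C.irr (hQc hz)
    have h4 : ((z * w : E) : E ⧸ C.s.range) = w := by
      obtain ⟨n, rfl⟩ := hQS hz
      exact C.mk_mul n w
    have h5 : c * conj c = 1 := by rw [Complex.mul_conj, Complex.normSq_eq_norm_sq, hc]; simp
    rw [h4, ← Subgroup.mem_center_iff.1 (hQc hz) w, h3, map_mul]
    linear_combination (F0 w * (C.ψ w * conj (C.ψ w))) * h5) (by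
    intro w a ha haQ
    by_cases h3 : IsConj k (w : E ⧸ C.s.range)
    · rw [psi_zero C hM hθ hQ hQc hQS h0 (hord h3 ▸ hk) ha haQ, zero_mul, mul_zero]
    · rw [show F0 w = 0 from if_neg h3, zero_mul])
  rw [sum_normSq C hθ F0, sum_mk C F0, h1] at h2
  set c0 : ℂ := ((charDegree C.ψ * Nat.card Q : ℕ) : ℂ) / (Nat.card C.s.range : ℂ) with hc0
  have hc0R : MemLocalRing M c0 := DefectCard.memLocalRing_natDiv hM Nat.card_pos.ne'
    (h0.ge.trans (fac_mul rfl (mul_ne_zero (Basic.charDegree_pos C.irr).ne' Nat.card_pos.ne')).le)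
  obtain ⟨t, ht1, ht2⟩ := exists_unit (M := M) (χ := fun x => (χ : G → ℂ) (C.π x))
    (isIrr_isClassFunction (isIrr_comp C.π C.surj χ.2))
    (f := fun w => if ¬ p ∣ orderOf w ∧ IsConj k (w : E ⧸ C.s.range) then c0 * conj (C.ψ w) else 0) (by
      intro g x
      have h3 : IsConj g (x * g * x⁻¹) := isConj_iff.2 ⟨x, rfl⟩
      have h4 : IsConj (g : E ⧸ C.s.range) ((x * g * x⁻¹ : E) : E ⧸ C.s.range) :=
        (QuotientGroup.mk' C.s.range).map_isConj h3
      beta_reduce
      rw [← hord h3, isIrr_isClassFunction C.irr g x]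
      exact if_congr (and_congr Iff.rfl ⟨fun h5 => h5.trans h4.symm, fun h5 => h5.trans h4⟩) rfl rfl) (by
      intro g
      split_ifs
      · exact Local.memLocalRing_mul hc0R (Local.memLocalRing_of_isIntegral
          ((Elementary.isIntegral_char C.irr g).map (Complex.conjAe.toAlgHom.restrictScalars ℤ)))
      · exact Local.memLocalRing_zero) (by
      intro h3
      apply hu
      have h4 : centralChar (η : E ⧸ C.s.range → ℂ) k = (Nat.card C.s.range : ℂ)⁻¹ * ((Nat.card Q : ℂ) *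
          ∑ w : E, if ¬ p ∣ orderOf w then F0 w * (C.ψ w * conj (C.ψ w)) else 0) := by
        rw [← h2, inv_mul_cancel_left₀ hS]
      rw [h4, Finset.mul_sum, Finset.mul_sum]
      convert h3 using 2 with w
      by_cases h5 : ¬ p ∣ orderOf w
      · by_cases h6 : IsConj k (w : E ⧸ C.s.range)
        · rw [if_pos h5, if_pos ⟨h5, h6⟩, show F0 w = _ from if_pos h6, h w, h 1, QuotientGroup.mk_one, hc0,
            Nat.cast_mul, ← Basic.irr_one_eq_charDegree C.irr]
          field_simp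
        · rw [if_pos h5, if_neg fun h7 => h6 h7.2, show F0 w = 0 from if_neg h6]
          simp
      · rw [if_neg h5, if_neg fun h7 => h5 h7.1]
        simp)
  have h3 : ¬ p ∣ orderOf t ∧ IsConj k (t : E ⧸ C.s.range) := by
    by_contra h3
    exact ht1 (if_neg h3)
  refine ⟨t, h3.1, h3.2, fun h4 => ht2 ?_⟩
  have h5 : centralChar (fun x => (χ : G → ℂ) (C.π x)) t =
      ((Subgroup.centralizer ({t} : Set E)).relIndex (A C t) : ℂ) * centralChar (χ : G → ℂ) (C.π t) := by
    unfold centralChar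
    beta_reduce
    rw [← index_mulA C t, index_A, map_one, Nat.cast_mul]
    ring
  rw [h5]
  exact Local.memLocalIdeal_mul_left (Local.memLocalRing_natCast _) h4

/-- the upper bound and the commutators -/
theorem upper (hM : IsPModular p M) (hθ : IsIrrCharacter N θ) (hf : ∀ z ∈ C.π.ker, C.ψ z = C.ψ 1 → z = 1)
    (hB : IsPBlock M B) (hD : IsDefectGroup p M B D)
    (h0 : (charDegree C.ψ).factorization p + (Nat.card (D ⊓ N : Subgroup G)).factorization p =
      (Nat.card C.s.range).factorization p)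
    {χ : IrrCharacter G} (hχ : χ ∈ B) {η : IrrCharacter (E ⧸ C.s.range)}
    (h : ∀ x : E, (χ : G → ℂ) (C.π x) = C.ψ x * (η : E ⧸ C.s.range → ℂ) x) {R : Subgroup E} (hR : IsPGroup p R)
    (hRD : R.map C.π = D)
    (hRc : (Nat.card R).factorization p = (Nat.card C.π.ker).factorization p + (Nat.card D).factorization p) :
    (∀ a ∈ R, ∀ b ∈ R, C.π a * C.π b = C.π b * C.π a → a * b = b * a) ∧
      ∀ D', IsDefectGroup p M (blockOf M (η : E ⧸ C.s.range → ℂ)) D' →
        (Nat.card D').factorization p ≤ (Nat.card (R.map (QuotientGroup.mk' C.s.range))).factorization p := by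
  have := Local.isPrime_of_isPModular hM
  obtain ⟨g, hg, hDg⟩ := Basic.isDefectGroup_iff.1 hD
  obtain ⟨x, rfl, hx⟩ := exists_reg_lift C.surj (H614.Spin.isPRegular_of_isDefectClass hM hB hg)
  have hRx := le_cent_of_reg C.ker_le hR hx (hRD ▸ Basic.le_centralizer_of_isSylowCentralizer hDg)
  have hA := fac_mul (p := p) (card_comap' C.surj (Subgroup.centralizer ({C.π x} : Set G))) Nat.card_pos.ne'
  rw [← fac_sylow hDg, ← hRc] at hA
  have hCA : Subgroup.centralizer ({x} : Set E) ≤ A C x := centralizer_le_comap C.π x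
  have h1 := fac_mono (p := p) hCA
  have h2 := fac_mono (p := p) hRx
  have h3 := fac_mul (p := p) (card_inf_mul (A C x) (Subgroup.centralizer ({x} : Set E))) Nat.card_pos.ne'
  rw [inf_eq_right.2 hCA] at h3
  change _ = (Nat.card (A C x)).factorization p at hA
  have ha : ¬ p ∣ (Subgroup.centralizer ({x} : Set E)).relIndex (A C x) := fun h4 => by
    have h5 := ((Fact.out : p.Prime).dvd_iff_one_le_factorization (relIndexA_ne_zero C x)).1 h4
    omega
  have hu := hg.2.2 χ hχ
  rw [cc_eq C h x] at hu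
  have hηR := Elementary.memLocalRing_centralChar (M := M) η.2 (x : E ⧸ C.s.range)
  have haR := Local.memLocalRing_inv_natCast hM ha
  have hu1 : ¬ MemLocalIdeal M (centralChar (η : E ⧸ C.s.range → ℂ) x) := fun h4 =>
    hu (Local.memLocalIdeal_mul_left (Local.memLocalRing_mul haR (memLocalRing_T C hθ x)) h4)
  set ψT : IrrCharacter (T C x) := ⟨_, isIrr_res_of_le C hθ (T C x) (range_le_T C x)⟩ with hψT
  have hu2 : ¬ MemLocalIdeal M (centralChar (ψT : T C x → ℂ) ⟨x, mem_T_self C x⟩) := fun h4 => by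
    unfold centralChar at h4
    rw [index_centralizer_T] at h4
    exact hu (Local.memLocalIdeal_mul_right (Local.memLocalIdeal_mul_left haR h4) hηR)
  have hCT : Subgroup.centralizer ({x} : Set E) ≤ T C x := centralizer_le_comap (QuotientGroup.mk' C.s.range) x
  have hT := fac_mul (p := p) (card_comap' (QuotientGroup.mk'_surjective C.s.range)
    (Subgroup.centralizer ({(x : E ⧸ C.s.range)} : Set (E ⧸ C.s.range)))) Nat.card_pos.ne'
  rw [QuotientGroup.ker_mk'] at hT
  change _ = (Nat.card (T C x)).factorization p at hT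
  have h4 := fac_bar (p := p) C hRD.le
  have h5 : (Nat.card (R.map (QuotientGroup.mk' C.s.range))).factorization p ≤
      (Nat.card (Subgroup.centralizer ({(x : E ⧸ C.s.range)} : Set (E ⧸ C.s.range)))).factorization p :=
    fac_mono (Subgroup.map_le_iff_le_comap.2 (hRx.trans hCT))
  have h6 := df_add (p := p) ψT
  change _ + (charDegree C.ψ).factorization p = _ at h6
  have hc : Subgroup.centralizer ({(⟨x, mem_T_self C x⟩ : T C x)} : Set (T C x)) =
      (Subgroup.centralizer ({x} : Set E)).subgroupOf (T C x) := by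
    ext t
    rw [Subgroup.mem_subgroupOf, Subgroup.mem_centralizer_singleton_iff, Subgroup.mem_centralizer_singleton_iff]
    exact Subtype.ext_iff
  have hRT := card_sub (hRx.trans hCT)
  have hb : IsPBlock M (blockOf M (ψT : T C x → ℂ)) := ⟨ψT, rfl⟩
  have hd := defect_of_unit hM hb (Basic.mem_blockOf_self ψT) hu2 (R := R.subgroupOf (T C x))
    (sylow_of_fac hR.comap_subtype (hc ▸ Subgroup.comap_mono hRx) (by
      rw [hc, card_sub hCT, hRT]
      omega)) (by
      rw [hRT]
      omega)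
  have h7 := df_le hM hb hd (Basic.mem_blockOf_self ψT)
  rw [hRT] at h7
  refine ⟨fun a ha b hb' hab => ?_, fun D' hD' => ?_⟩
  · have h8 : ⁅a, b⁆ ∈ C.π.ker := by
      rw [MonoidHom.mem_ker, map_commutatorElement, commutatorElement_eq_one_iff_mul_comm]
      exact hab
    refine commutatorElement_eq_one_iff_mul_comm.1 (hf _ h8 ?_)
    exact comm_triv hM hb hd (Basic.mem_blockOf_self ψT) (height_zero hM hb hd (by rw [hRT]; omega))
      (a := ⟨a, hCT (hRx ha)⟩) (b := ⟨b, hCT (hRx hb')⟩) ha hb'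
      (Subgroup.mem_center_iff.2 fun g => Subtype.ext (Subgroup.mem_center_iff.1 (C.ker_le h8) g))
  · have h8 := fac_le_cent hM ⟨η, rfl⟩ hD' (Basic.mem_blockOf_self η) hu1
    omega

/-- **The reduction along a cover.** -/
theorem core (hM : IsPModular p M) [Fintype N] (hθ : IsIrrCharacter N θ)
    (hf : ∀ z ∈ C.π.ker, C.ψ z = C.ψ 1 → z = 1) (hB : IsPBlock M B) (hD : IsDefectGroup p M B D)
    (hQ : D ⊓ N ≤ Subgroup.center G)
    (h0 : (charDegree θ).factorization p + (Nat.card (D ⊓ N : Subgroup G)).factorization p =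
      (Nat.card N).factorization p)
    {χ : IrrCharacter G} (hχ : χ ∈ B) (hov : classInner (fun n : N => (χ : G → ℂ) n) θ ≠ 0)
    (ih : RW p M (E ⧸ C.s.range)) (hW : Cn W D) (hQW : D ⊓ N ≤ W) (hne : W ≠ D) :
    (Nat.card W).factorization p < df p χ := by
  have := Local.isPrime_of_isPModular hM
  have hDp := H592.Defect.isPGroup_of_isDefectGroup hD
  have hdeg : charDegree θ = charDegree C.ψ := by
    unfold charDegree
    rw [theta_one C]
  rw [hdeg, ← card_range C] at h0
  obtain ⟨η, h⟩ := C.exists_star hθ χ hov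
  obtain ⟨R, hR, hRD, hRc⟩ := exists_R C.surj hDp
  obtain ⟨h1, h2⟩ := upper C hM hθ hf hB hD h0 hχ h hR hRD hRc
  have hb : IsPBlock M (blockOf M (η : E ⧸ C.s.range → ℂ)) := ⟨η, rfl⟩
  obtain ⟨k, hk⟩ := S0906.result p M hM _ hb
  obtain ⟨w, hw1, hw2, hw3⟩ := exists_reg C hM hθ (Q := ((D ⊓ N).subgroupOf N).map C.s)
    ((hDp.to_le inf_le_left).comap_subtype.map _) (by
      rintro _ ⟨n, hn, rfl⟩
      exact s_central C (hQ hn)) (Subgroup.map_le_range _ _) (by
      rwa [Subgroup.card_map_of_injective C.s_injective, card_sub inf_le_right]) h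
    (H614.Spin.isPRegular_of_isDefectClass hM hb hk) (hk.2.2 η (Basic.mem_blockOf_self η))
  obtain ⟨y, hy, hDy⟩ := exists_cent hM hB hD hχ hw3
  obtain ⟨c, rfl⟩ := isConj_iff.1 hy
  obtain ⟨c, rfl⟩ := C.surj c
  rw [← map_inv, ← map_mul, ← map_mul] at hDy
  have hRy := le_cent_of_reg C.ker_le hR (x := c * w * c⁻¹) (by
    rwa [← SemiconjBy.orderOf_eq c (x := w) (y := c * w * c⁻¹) (inv_mul_cancel_right _ _).symm]) (hRD ▸ hDy)
  obtain ⟨D', hD', h3⟩ := Basic.exists_isSylowCentralizer (hR.map (QuotientGroup.mk' C.s.range))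
    (Subgroup.map_le_iff_le_comap.2 (hRy.trans (centralizer_le_comap (QuotientGroup.mk' C.s.range) _)))
  have hd : IsDefectGroup p M _ D' := Basic.isDefectGroup_iff.2 ⟨_, Basic.isDefectClass_isConj
    (hw2.trans ((QuotientGroup.mk' C.s.range).map_isConj (isConj_iff.2 ⟨c, rfl⟩))) hk, hD'⟩
  rw [← H592.Defect.eq_of_le_of_factorization p (hR.map _) (Basic.isPGroup_of_isSylowCentralizer hD') h3
    (h2 D' hd)] at hd
  have hWm : (R ⊓ W.comap C.π).map C.π = W := by
    refine le_antisymm (Subgroup.map_le_iff_le_comap.2 inf_le_right) fun a ha => ?_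
    obtain ⟨r, hr, rfl⟩ := hRD.ge (hW.1 ha)
    exact ⟨r, ⟨hr, ha⟩, rfl⟩
  have hc : Cn (R ⊓ W.comap C.π) R := ⟨inf_le_left, fun a ha b hb' =>
    h1 a ha.1 b hb' (hW.2 _ ha.2 _ (hRD ▸ Subgroup.mem_map_of_mem _ hb'))⟩
  have h4 := ih _ _ hb hd η (Basic.mem_blockOf_self η) _ (hc.map _) fun h5 => hne (le_antisymm hW.1 (by
    rw [← hRD]
    rintro _ ⟨r, hr, rfl⟩
    have h6 := Subgroup.mem_map_of_mem (QuotientGroup.mk' C.s.range) hr
    rw [← h5] at h6
    obtain ⟨a, ha, h7⟩ := h6
    have h8 := W.mul_mem ha.2 (hQW (map_inf_range C hRD.le (Subgroup.mem_map_of_mem _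
      ⟨R.mul_mem (R.inv_mem ha.1) hr, QuotientGroup.eq.1 h7⟩)))
    rwa [← map_mul, mul_inv_cancel_left] at h8))
  have h5 := fac_bar (p := p) C (R := R ⊓ W.comap C.π) (hWm.le.trans hW.1)
  have h6 := fac_mul (p := p) (card_ker_mul C.π (R ⊓ W.comap C.π)) Nat.card_pos.ne'
  rw [hWm, inf_assoc, inf_eq_right.2 (W.ker_le_comap C.π)] at h6
  have h7 := fac_mul (p := p) (card_ker_mul C.π R) Nat.card_pos.ne'
  rw [hRD] at h7
  have h8 := fac_mul (p := p) (card_E C).symm Nat.card_pos.ne'
  have h9 := fac_mul (p := p) (card_E' C).symm Nat.card_pos.ne'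
  have h10 := fac_mul (p := p) (charDegree_mul C h).symm (Basic.charDegree_pos χ.2).ne'
  have h11 := df_add (p := p) χ
  have h12 := df_add (p := p) η
  change _ + nu p η = nu p χ at h10
  omega

end Cfsg.Agent.KM.Mu
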