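import Cfsg.Agent.KM.BK.Defs

/-!
# S4576: statements of the reduction to quasisimple groups (helper3)

* `Rob p D χ` : `ν_p χ(1) + ν_p |Z(D)| < ν_p |G|`, that is the defect of `χ` exceeds `ν_p |Z(D)|`;
* `RQp p` : this holds for the blocks of quasisimple groups with cyclic centre and non-abelian defect group and
  the members that are faithful on the centre.
-/

set_option autoImplicit false

open Cfsg

namespace Cfsg.Agent.KM.Mu

universe u

/-- The defect of `χ` exceeds `ν_p |Z(D)|`. -/
def Rob (p : ℕ) {G : Type u} [Group G] (D : Subgroup G) (χ : IrrCharacter G) : Prop :=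
  (charDegree (χ : G → ℂ)).factorization p + (Nat.card (Subgroup.center D)).factorization p <
    (Nat.card G).factorization p

/-- Robinson's inequality for the blocks of `G` with non-abelian defect groups. -/
def RCg (p : ℕ) (M : Ideal AlgInt) (G : Type u) [Group G] : Prop :=
  ∀ (B : Set (IrrCharacter G)) (D : Subgroup G), IsPBlock M B → IsDefectGroup p M B D → ¬ IsMulCommutative D →
    ∀ χ ∈ B, Rob p D χ

/-- Robinson's inequality for all finite groups. -/
def RCp (p : ℕ) : Prop :=
  ∀ (M : Ideal AlgInt), IsPModular p M → ∀ (G : Type u) [Group G] [Finite G], RCg p M G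

/-- The quasisimple case. -/
def RQp (p : ℕ) : Prop :=
  ∀ (M : Ideal AlgInt), IsPModular p M → ∀ (K : Type u) [Group K] [Finite K], IsQuasisimple K →
    IsCyclic (Subgroup.center K) →
    ∀ (B : Set (IrrCharacter K)) (D : Subgroup K), IsPBlock M B → IsDefectGroup p M B D → ¬ IsMulCommutative D →
      ∀ χ ∈ B, (∀ z ∈ Subgroup.center K, (χ : K → ℂ) z = (χ : K → ℂ) 1 → z = 1) → Rob p D χ

/-- The quasisimple case with the induction hypothesis. -/
def RQi (p : ℕ) : Prop :=
  ∀ (M : Ideal AlgInt), IsPModular p M → ∀ (K : Type u) [Group K] [Finite K], IsQuasisimple K →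
    IsCyclic (Subgroup.center K) →
    (∀ (H : Type u) [Group H] [Finite H], (Subgroup.center H).index < (Subgroup.center K).index → RCg p M H) →
    ∀ (B : Set (IrrCharacter K)) (D : Subgroup K), IsPBlock M B → IsDefectGroup p M B D → ¬ IsMulCommutative D →
      ∀ χ ∈ B, (∀ z ∈ Subgroup.center K, (χ : K → ℂ) z = (χ : K → ℂ) 1 → z = 1) → Rob p D χ

theorem RQp.rqi {p : ℕ} (h : RQp.{u} p) : RQi.{u} p := fun M hM K _ _ h1 h2 _ => h M hM K h1 h2

end Cfsg.Agent.KM.Mu
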