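import Cfsg.Agent.KM.Mu.Main
import Cfsg.Agent.H657.BrauerFeit
import Cfsg.Agent.H669.Basic
import Cfsg.Agent.TO.Red

/-!
# S4576: general cases (helper3)

* `rob_central` : `Z(D) ≤ Z(G)`; `rob_small` : `|Z(D)| ≤ p |Z(G)|_p`;
* `rw_quot` : quotients by `p'`-subgroups.
-/

set_option autoImplicit false
set_option linter.style.haveILetI false
set_option linter.unusedSectionVars false

open Cfsg
open scoped ComplexConjugate Pointwise

namespace Cfsg.Agent.KM.Mu

open Cfsg.Agent Cfsg.Agent.Characters.Core Cfsg.Agent.Blocks Cfsg.Agent.TID.Red Cfsg.Agent.KM.BK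

universe u v

variable {p : ℕ} [Fact p.Prime] {M : Ideal AlgInt} {G : Type u} [Group G] [Finite G]
  {B : Set (IrrCharacter G)} {D W : Subgroup G}

theorem df_height (hM : IsPModular p M) (hB : IsPBlock M B) (hD : IsDefectGroup p M B D) {χ : IrrCharacter G}
    (hχ : χ ∈ B) : df p χ + blockHeight p B (χ : G → ℂ) = (Nat.card D).factorization p := by
  have h1 := H592.Defect.factorization_card_defect p hM hB hD
  have h2 := df_add (p := p) χ
  have h4 : sInf ((fun ψ : IrrCharacter G => (charDegree (ψ : G → ℂ)).factorization p) '' B) ≤ nu p χ :=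
    Nat.sInf_le ⟨_, hχ, rfl⟩
  unfold blockDefect at h1
  unfold blockHeight
  change _ + (nu p χ - _) = _
  omega

theorem lt_df (hM : IsPModular p M) (hB : IsPBlock M B) (hD : IsDefectGroup p M B D) (ha : ¬ Ab D)
    {χ : IrrCharacter G} (hχ : χ ∈ B) :
    (Nat.card (D ⊓ Subgroup.center G : Subgroup G)).factorization p < df p χ := by
  have := Local.isPrime_of_isPModular hM
  have hDp := H592.Defect.isPGroup_of_isDefectGroup hD
  by_contra h
  have h1 := fac_le (p := p) ((H669.Basic.charDegree_dvd_index_center χ.2).trans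
    (Subgroup.index_dvd_of_le (inf_le_right : D ⊓ Subgroup.center G ≤ _))) Subgroup.index_ne_zero_of_finite
  have h2 := fac_mul (p := p) (D ⊓ Subgroup.center G).card_mul_index Nat.card_pos.ne'
  have h3 := df_add (p := p) χ
  change nu p χ ≤ _ at h1
  have h4 := (S0969.result p M hM _ (hDp.to_le inf_le_left) inf_le_right χ (by change nu p χ = _; omega)).1
  rw [← Basic.isPBlock_eq_blockOf hB hχ] at h4
  refine ha (ab_of_defect hM hB h4 (fun x hx y _ => (Subgroup.mem_center_iff.1 hx.2 y).symm) hD)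

/-- **The centre of `D` is central in `G`.** -/
theorem sm_central (hM : IsPModular p M) (hB : IsPBlock M B) (hD : IsDefectGroup p M B D) (ha : ¬ Ab D)
    {χ : IrrCharacter G} (hχ : χ ∈ B) (h : ∀ u ∈ D, (∀ d ∈ D, u * d = d * u) → u ∈ Subgroup.center G) :
    Sm p D (df p χ) := fun _ hW _ =>
  (fac_mono (le_inf hW.1 fun u hu => h u (hW.1 hu) (hW.2 u hu))).trans_lt (lt_df hM hB hD ha hχ)

/-- the relative form of the bound of Brauer and Feit -/
theorem add_two_le (hM : IsPModular p M) (hB : IsPBlock M B) (hD : IsDefectGroup p M B D) {χ : IrrCharacter G}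
    (hχ : χ ∈ B) (hpos : 0 < blockHeight p B (χ : G → ℂ)) {u : G} (hu : u ∈ D) (huc : ∀ d ∈ D, u * d = d * u)
    (huZ : u ∉ Subgroup.center G) :
    (Nat.card (D ⊓ Subgroup.center G : Subgroup G)).factorization p + 2 ≤ df p χ := by
  classical
  have hp : p.Prime := Fact.out
  letI := Fintype.ofFinite G
  have hDp := H592.Defect.isPGroup_of_isDefectGroup hD
  set Q := D ⊓ Subgroup.center G with hQ
  have hQp : IsPGroup p Q := hDp.to_le inf_le_left
  obtain ⟨n, hn⟩ := H646.RegInner.exists_int_pow_defect hM hχ χ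
  have h1 := H657.BrauerFeit.diag_dvd hM hB hχ hpos hn
  set R : G → ℝ := fun g => Complex.normSq ((χ : G → ℂ) g) with hR
  have hR0 : ∀ g, 0 ≤ R g := fun g => Complex.normSq_nonneg _
  have hG : (0 : ℝ) < Nat.card G := by exact_mod_cast Nat.card_pos
  have hG' : (Nat.card G : ℂ) ≠ 0 := by exact_mod_cast hG.ne'
  have h2 : ∑ g, R g = Nat.card G := by
    have h3 := classInner_irr_self χ.2
    rw [classInner_def, inv_mul_eq_iff_eq_mul₀ hG', mul_one] at h3
    simp only [Complex.mul_conj] at h3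
    exact_mod_cast h3
  have h3 : (p : ℝ) ^ blockDefect p B * ∑ g, (if ¬ p ∣ orderOf g then R g else 0) = Nat.card G * n := by
    rw [classInner_def, mul_left_comm, inv_mul_eq_iff_eq_mul₀ hG'] at hn
    have h4 : ∀ g, pRegularPart p (χ : G → ℂ) g * conj ((χ : G → ℂ) g) =
        ((if ¬ p ∣ orderOf g then R g else 0 : ℝ) : ℂ) := by
      intro g
      unfold pRegularPart IsPRegular
      split_ifs
      · rw [zero_mul, Complex.ofReal_zero]
      · exact Complex.mul_conj _
    simp only [h4] at hn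
    exact_mod_cast hn
  have h4 := sum_reg hQp inf_le_right (fun g => ((if ∃ a ∈ Q, IsPPart p g a then R g else 0 : ℝ) : ℂ)) (by
    intro z hz w
    obtain ⟨c, hc, h5⟩ := CharDeep.DegreeBound.exists_omega χ.2 hz.2
    have h6 : R (z * w) = R w := by
      simp only [hR]
      rw [← Subgroup.mem_center_iff.1 hz.2 w, h5, map_mul, Complex.normSq_eq_norm_sq c, hc, one_pow, one_mul]
    have h7 : ∀ z ∈ Q, ∀ w, (∃ a ∈ Q, IsPPart p w a) → ∃ a ∈ Q, IsPPart p (z * w) a := by
      rintro z hz _ ⟨a, ha, y, rfl, -, -, hy⟩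
      obtain ⟨k, hk⟩ := IsPGroup.iff_orderOf.1 hQp ⟨_, Q.mul_mem hz ha⟩
      exact ⟨z * a, Q.mul_mem hz ha, y, mul_assoc _ _ _, (Subgroup.mem_center_iff.1 (Q.mul_mem hz ha).2 y).symm,
        ⟨k, by rw [← hk]; exact (Subgroup.orderOf_coe (⟨_, Q.mul_mem hz ha⟩ : Q))⟩, hy⟩
    rw [h6]
    refine congrArg _ (if_congr ⟨fun h8 => ?_, h7 z hz w⟩ rfl rfl)
    have h9 := h7 z⁻¹ (Q.inv_mem hz) _ h8
    rwa [inv_mul_cancel_left] at h9) (by
    intro w a ha haQ
    rw [if_neg, Complex.ofReal_zero]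
    rintro ⟨b, hb, h5⟩
    exact haQ (PPart.isPPart_unique h5 ha ▸ hb))
  have h5 : ∀ g, (if ¬ p ∣ orderOf g then ((if ∃ a ∈ Q, IsPPart p g a then R g else 0 : ℝ) : ℂ) else 0) =
      ((if ¬ p ∣ orderOf g then R g else 0 : ℝ) : ℂ) := by
    intro g
    by_cases h6 : ¬ p ∣ orderOf g
    · rw [if_pos h6, if_pos h6, if_pos ⟨1, Q.one_mem, PPart.isPPart_of_not_dvd h6⟩]
    · rw [if_neg h6, if_neg h6, Complex.ofReal_zero]
  simp only [h5] at h4
  have h6 : ∑ g, (if ∃ a ∈ Q, IsPPart p g a then R g else 0) =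
      Nat.card Q * ∑ g, (if ¬ p ∣ orderOf g then R g else 0) := by exact_mod_cast h4
  obtain ⟨g, hg1, hg2, hg3⟩ := H614.Spin.exists_defect_elt hM hB hD
  have h7 : ∑ g, (if ∃ a ∈ Q, IsPPart p g a then R g else 0) < ∑ g, R g := by
    refine Finset.sum_lt_sum (fun g _ => by split_ifs; exacts [le_rfl, hR0 g]) ⟨u * g, Finset.mem_univ _, ?_⟩
    rw [if_neg]
    · exact Complex.normSq_pos.2 (hg3 u hu (fun d hd => (huc d hd).symm) χ hχ)
    · rintro ⟨a, ha, h8⟩
      obtain ⟨k, hk⟩ := IsPGroup.iff_orderOf.1 hDp ⟨u, hu⟩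
      exact huZ (PPart.isPPart_unique h8 (PPart.isPPart_mul (hg2 u hu)
        ⟨k, by rw [← hk]; exact Subgroup.orderOf_coe (⟨u, hu⟩ : D)⟩ hg1) ▸ ha.2)
  have h8 : 0 < ∑ g, (if ¬ p ∣ orderOf g then R g else 0) := by
    refine Finset.sum_pos' (fun g _ => by split_ifs; exacts [le_rfl, hR0 g]) ⟨1, Finset.mem_univ _, ?_⟩
    rw [if_pos (by rw [orderOf_one]; exact hp.not_dvd_one)]
    exact Complex.normSq_pos.2 (isIrr_apply_one_ne_zero χ.2)
  have hp0 : (0 : ℝ) < (p : ℝ) ^ blockDefect p B := pow_pos (by exact_mod_cast hp.pos) _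
  have h9 : (0 : ℝ) < n := (mul_pos_iff_of_pos_left hG).1 (h3 ▸ mul_pos hp0 h8)
  have h10 : (Nat.card Q : ℝ) * n < (p : ℝ) ^ blockDefect p B := by
    rw [h6, h2] at h7
    refine lt_of_mul_lt_mul_left ?_ hG.le
    rw [mul_left_comm, ← h3, mul_left_comm, mul_comm (Nat.card G : ℝ)]
    exact mul_lt_mul_of_pos_left h7 hp0
  have h11 : ((p : ℝ) ^ (blockHeight p B (χ : G → ℂ) + 1)) ≤ n := by
    exact_mod_cast Int.le_of_dvd (by exact_mod_cast h9) h1
  rw [H592.Defect.card_eq_pow_factorization p hQp, Nat.cast_pow] at h10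
  have h12 := (mul_le_mul_of_nonneg_left h11 (pow_nonneg (Nat.cast_nonneg p) ((Nat.card Q).factorization p))).trans_lt h10
  rw [← pow_add, pow_lt_pow_iff_right₀ (by exact_mod_cast hp.one_lt),
    ← H592.Defect.factorization_card_defect p hM hB hD, ← df_height hM hB hD hχ] at h12
  omega

theorem sm_of_height (hM : IsPModular p M) (hB : IsPBlock M B) (hD : IsDefectGroup p M B D) {χ : IrrCharacter G}
    (hχ : χ ∈ B) (h : blockHeight p B (χ : G → ℂ) = 0) : Sm p D (df p χ) := fun _ hW hne => by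
  have h1 := df_height hM hB hD hχ
  have h2 := fac_lt (H592.Defect.isPGroup_of_isDefectGroup hD) hW.1 hne
  omega

/-- **The centre of `D` is small.** -/
theorem rob_small (hM : IsPModular p M) (hB : IsPBlock M B) (hD : IsDefectGroup p M B D) (ha : ¬ IsMulCommutative D)
    {χ : IrrCharacter G} (hχ : χ ∈ B) (h : (Nat.card (Subgroup.center D)).factorization p ≤
      (Nat.card (Subgroup.center G)).factorization p + 1) : Rob p D χ := by
  have ha' : ¬ Ab D := fun h1 => ha (ab_iff.1 h1)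
  rcases Nat.eq_zero_or_pos (blockHeight p B (χ : G → ℂ)) with h0 | h0
  · exact (rob_iff ha').2 (sm_of_height hM hB hD hχ h0)
  by_cases h1 : ∀ u ∈ D, (∀ d ∈ D, u * d = d * u) → u ∈ Subgroup.center G
  · exact (rob_iff ha').2 (sm_central hM hB hD ha' hχ h1)
  push Not at h1
  obtain ⟨u, hu, h2, h3⟩ := h1
  have h4 := add_two_le hM hB hD hχ h0 hu h2 h3
  have h5 := fac_inf_central hM hB hD (le_refl (Subgroup.center G))
  have h6 := df_add (p := p) χ
  change nu p χ + _ < _
  omega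

theorem Sm.of_disjoint {H : Type v} [Group H] {n : ℕ} {f : G →* H} (hf : ∀ r ∈ D, f r = 1 → r = 1)
    (h : Sm p D n) : Sm p (D.map f) n := by
  have h1 : Function.Injective (f.comp D.subtype) :=
    (injective_iff_map_eq_one _).2 fun a ha => Subtype.ext (hf a a.2 ha)
  have h2 : Sm p (⊤ : Subgroup D) n := Sm.of_map D.subtype_injective (by
    rwa [← MonoidHom.range_eq_map, Subgroup.range_subtype])
  have h3 := h2.map h1
  rwa [← Subgroup.map_map, ← MonoidHom.range_eq_map, Subgroup.range_subtype] at h3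

theorem rw_quot' (hM : IsPModular p M) (U : Subgroup G) [U.Normal] (hU : ¬ p ∣ Nat.card U) (h : RW p M G) :
    RW p M (G ⧸ U) := by
  have := Local.isPrime_of_isPModular hM
  intro b D hb hD θ hθ
  have hB : IsPBlock M (blockOf M (H644.CentralQuot.infl U θ : G → ℂ)) := Basic.isPBlock_blockOf _
  obtain ⟨c, hc, h1, -, h2⟩ := TO.exists_defl hM hB U hU (f := (H644.CentralQuot.infl U θ : G → ℂ))
    ⟨_, Basic.mem_blockOf_self _, rfl⟩ fun n hn =>
      congrArg (θ : G ⧸ U → ℂ) (((QuotientGroup.eq_one_iff n).2 hn).trans rfl)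
  obtain rfl : c = b := Basic.isPBlock_eq_of_mem hc hb
    ((TO.rd_mem_Fn.symm.trans ((h1 θ).trans (TO.rd_mem_Fn (χ := H644.CentralQuot.infl U θ)))).2
      (Basic.mem_blockOf_self _)) hθ
  obtain ⟨E, hE⟩ := H592.Defect.exists_defectGroup p hM hB
  obtain ⟨x, rfl⟩ := conj_defect hM hb (h2 E hE) hD
  have h3 : df p (H644.CentralQuot.infl U θ) = df p θ := by
    have h4 := fac_mul (p := p) U.card_mul_index Nat.card_pos.ne'
    rw [Nat.factorization_eq_zero_of_not_dvd hU, zero_add] at h4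
    unfold df
    rw [nu_infl, ← h4]
    rfl
  refine Sm.map (MulAut.conj x).injective (Sm.of_disjoint (fun r hr h4 => ?_) (h3 ▸ h _ E hB hE _ (Basic.mem_blockOf_self _)))
  obtain ⟨k, hk⟩ := H592.Defect.isPGroup_of_isDefectGroup hE ⟨r, hr⟩
  exact eq_one_of_coprime (congrArg Subtype.val hk)
    (congrArg Subtype.val (pow_card_eq_one' (x := (⟨r, (QuotientGroup.eq_one_iff r).1 h4⟩ : U)))) hU

/-- **Quotients by `p'`-subgroups.** -/
theorem rw_quot (hM : IsPModular p M) {K : Type v} [Group K] [Finite K] (φ : G →* K) (hφ : Function.Surjective φ)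
    (hU : ¬ p ∣ Nat.card φ.ker) (h : RW p M G) : RW p M K :=
  RW.of_equiv hM (QuotientGroup.quotientKerEquivOfSurjective φ hφ) (rw_quot' hM φ.ker hU h)

theorem rw_of_rcg (hM : IsPModular p M) (hK : KMg p M G) (h : RCg p M G) : RW p M G := fun B D hB hD χ hχ => by
  by_cases ha : Ab D
  · exact sm_ab hM (pp_iff.2 hK) hB hD ha hχ
  · exact (rob_iff ha).1 (h B D hB hD (fun h1 => ha (ab_iff.2 h1)) χ hχ)

end Cfsg.Agent.KM.Mu
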