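import Cfsg.Agent.KM.Mu.Rows
import Cfsg.Agent.RC.Blk

/-!
# S4576, defining characteristic: the counting criterion (helper3)

* `RRowS p S` : the statement for the blocks of full defect;
* `GC p P` : `|S| |W| ^ 2 ≤ |P| ^ 2 * #{conjugates of W - 1}` for the central subgroups `W` of the Sylow subgroup `P`;
* `rrowS_of_gc`, `gc_of`.
-/

set_option autoImplicit false
set_option linter.unusedSectionVars false

namespace Cfsg.Agent.KM.Mu.Lie

open Cfsg Cfsg.Agent.KM.BK

/-- the statement for the blocks of full defect of the covers of `S` -/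
def RRowS (p : ℕ) (S : Type) [Group S] : Prop :=
  ∀ (K : Type) [Group K] [Finite K] (σ : K →* S) (M : Ideal AlgInt) (B : Set (IrrCharacter K)) (D : Subgroup K)
    (χ : IrrCharacter K), RHyp p M B D χ σ → ¬ p ∣ D.index → Rob p D χ

theorem RRowS.of_equiv {p : ℕ} {S T : Type} [Group S] [Group T] (e : S ≃* T) (h : RRowS p T) : RRowS p S :=
  fun K _ _ _ M B D χ H => h K _ M B D χ (H.congr e)

/-- the conjugates of the non-trivial elements of `W` -/
def CC {S : Type*} [Group S] (W : Subgroup S) : Set S := {g | ∃ z ∈ W, z ≠ 1 ∧ IsConj z g}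

/-- the counting criterion -/
def GC (p : ℕ) {S : Type*} [Group S] (P : Subgroup S) : Prop :=
  ∀ W : Subgroup S, Cn W P → 2 ≤ (Nat.card W).factorization p →
    Nat.card S * Nat.card W ^ 2 ≤ Nat.card P ^ 2 * Nat.card (CC W)

variable {p : ℕ} [Fact p.Prime]

theorem card_eq_pow {S : Type*} [Group S] [Finite S] {P : Subgroup S} (hP : IsPGroup p P) :
    Nat.card P = p ^ (Nat.card P).factorization p := by
  obtain ⟨k, hk⟩ := IsPGroup.iff_card.1 hP
  rw [hk, (Fact.out : p.Prime).factorization_pow, Finsupp.single_eq_same]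

theorem fac_full {S : Type*} [Group S] [Finite S] {P : Subgroup S} (hi : ¬ p ∣ P.index) :
    (Nat.card P).factorization p = (Nat.card S).factorization p := by
  have h1 := fac_mul (p := p) P.card_mul_index Nat.card_pos.ne'
  rw [Nat.factorization_eq_zero_of_not_dvd hi] at h1
  omega

theorem card_preimage {K S : Type*} [Group K] [Group S] {σ : K →* S} (hσ : Function.Surjective σ) (t : Set S) :
    Nat.card (σ ⁻¹' t) = Nat.card σ.ker * Nat.card t := by
  let e := QuotientGroup.quotientKerEquivOfSurjective σ hσ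
  have h1 : σ ⁻¹' t = QuotientGroup.mk ⁻¹' (e ⁻¹' t) := rfl
  rw [h1, Nat.card_congr (QuotientGroup.preimageMkEquivSubgroupProdSet _ _), Nat.card_prod,
    Nat.card_congr (e.toEquiv.subtypeEquiv (p := fun x => x ∈ e ⁻¹' t) (q := fun x => x ∈ t) fun _ => Iff.rfl)]

theorem rob_of_gc {M : Ideal AlgInt} {K : Type} [Group K] [Finite K] {B : Set (IrrCharacter K)} {D : Subgroup K}
    {χ : IrrCharacter K} {S : Type} [Group S] [Finite S] {σ : K →* S} (H : RHyp p M B D χ σ) (hi : ¬ p ∣ D.index)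
    (h : GC p (D.map σ)) : Rob p D χ := by
  by_contra hc
  unfold Rob at hc
  have hp : p.Prime := Fact.out
  have h1 := fac_full hi
  have h2 := fac_center H.pg H.na
  have h3 := H.fac_map (RC.ZD D)
  have h4 := H.big
  rw [RC.card_ZD] at h3
  have h5 : Cn (RC.ZD D) D := ⟨fun z hz => (RC.mem_ZD.1 hz).1, fun z hz d hd => ((RC.mem_ZD.1 hz).2 d hd).symm⟩
  have h6 := h _ (h5.map σ) (by omega)
  have h7 : Nat.card (Subgroup.center K) * Nat.card S = Nat.card K := by
    rw [← H.index, Subgroup.card_mul_index]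
  have h8 := fac_mul (p := p) h7 Nat.card_pos.ne'
  set a := (charDegree (χ : K → ℂ)).factorization p with ha
  have h9 := RC.boxCT p M H.hM K B D H.hB H.hD h1 χ H.mem a ((Nat.card K).factorization p - a) rfl (by
    have := df_add (p := p) χ
    unfold nu at this
    omega) (by omega)
  have h10 : Nat.card (Subgroup.center K) * Nat.card (CC ((RC.ZD D).map σ)) ≤ Nat.card {g : K // ∃ z ∈ RC.ZD D,
      z ∉ Subgroup.center K ∧ ∃ c ∈ Subgroup.center K, IsConj (z * c) g} := by
    rw [← H.ker, ← card_preimage H.surj]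
    refine Nat.card_le_card_of_injective (fun g => ⟨g.1, ?_⟩) fun g g' e => Subtype.ext (Subtype.mk.inj e)
    obtain ⟨_, ⟨z, hz, rfl⟩, hz1, hc⟩ := g.2
    obtain ⟨s, hs⟩ := isConj_iff.1 hc
    obtain ⟨k, rfl⟩ := H.surj s
    refine ⟨z, hz, hz1, z⁻¹ * (k⁻¹ * g.1 * k), ?_, isConj_iff.2 ⟨k, by group⟩⟩
    rw [MonoidHom.mem_ker, map_mul, map_mul, map_mul, ← hs, map_inv, map_inv]
    group
  have h11 : p ^ (2 * a) * Nat.card (CC ((RC.ZD D).map σ)) < Nat.card S := by
    refine lt_of_mul_lt_mul_left (a := Nat.card (Subgroup.center K) * p ^ ((Nat.card K).factorization p - a)) ?_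
      (Nat.zero_le _)
    have h12 : 0 < p * Nat.card K := Nat.mul_pos hp.pos Nat.card_pos
    have h13 := Nat.mul_le_mul_right (p ^ ((Nat.card K).factorization p - a)) (Nat.mul_le_mul_left (p ^ (2 * a)) h10)
    calc _ = p ^ (2 * a) * (Nat.card (Subgroup.center K) * Nat.card (CC ((RC.ZD D).map σ))) *
          p ^ ((Nat.card K).factorization p - a) := by ring
      _ < p ^ ((Nat.card K).factorization p - a) * Nat.card K := by omega
      _ = _ := by
        conv_lhs => rw [← h7]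
        rw [h7]
        nth_rw 2 [← h7]
        ring
  have h12 : Nat.card (D.map σ) ≤ p ^ a * Nat.card ((RC.ZD D).map σ) := by
    rw [card_eq_pow (H.pg.map σ), card_eq_pow ((H.pg.to_le h5.1).map σ), ← pow_add]
    have := fac_le (p := p) (Subgroup.card_subgroup_dvd_card (D.map σ)) Nat.card_pos.ne'
    exact Nat.pow_le_pow_right hp.pos (by omega)
  have h13 : 0 < Nat.card ((RC.ZD D).map σ) ^ 2 := pow_pos Nat.card_pos 2
  have h14 := Nat.mul_le_mul_right (Nat.card (CC ((RC.ZD D).map σ))) (Nat.pow_le_pow_left h12 2)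
  have h15 := Nat.mul_lt_mul_of_pos_right h11 h13
  refine absurd (h6.trans h14) (not_le.2 (lt_of_eq_of_lt ?_ h15))
  ring

theorem rrowS_of_gc {S : Type} [Group S] [Finite S] {P : Subgroup S} (hP : IsPGroup p P) (hi : ¬ p ∣ P.index)
    (h : GC p P) : RRowS p S := by
  intro K _ _ σ M B D χ H hD
  have h1 : ¬ p ∣ (D.map σ).index := fun h0 => hD (h0.trans (Subgroup.index_map_dvd D H.surj))
  obtain ⟨g, hg⟩ := MulAction.exists_smul_eq S ((H.pg.map σ).toSylow h1) (hP.toSylow hi)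
  refine rob_of_gc (H.congr (MulAut.conj g)) hD ?_
  rw [← Subgroup.map_map]
  have h2 : ((D.map σ).map (MulAut.conj g).toMonoidHom) = P := congrArg (fun Q : Sylow p S => (Q : Subgroup S)) hg
  rwa [h2]

/-- counting the conjugates -/
theorem cc_ge {S : Type*} [Group S] [Finite S] {W : Subgroup S} {m : ℕ}
    (h : ∀ y ∈ W, y ≠ 1 → ∃ H : Subgroup S, m ≤ H.index ∧ ∀ z ∈ W, ∀ g, g * z * g⁻¹ = y → g ∈ H) :
    (Nat.card W - 1) * m ≤ Nat.card (CC W) := by
  classical
  have := Fintype.ofFinite S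
  rcases Nat.eq_zero_or_pos m with rfl | hm
  · simp
  have h1 := Finset.card_le_mul_card_image_of_maps_to (f := fun x : S × S => x.2 * x.1 * x.2⁻¹)
    (s := ((W : Set S).toFinset.erase 1) ×ˢ Finset.univ) (t := (CC W).toFinset) (fun x hx => by
      rw [Finset.mem_product, Finset.mem_erase, Set.mem_toFinset] at hx
      exact Set.mem_toFinset.2 ⟨x.1, hx.1.2, hx.1.1, isConj_iff.2 ⟨x.2, rfl⟩⟩) (Nat.card S / m) (fun b hb => by
      obtain ⟨y, hy, hy1, hc⟩ := Set.mem_toFinset.1 hb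
      obtain ⟨k, rfl⟩ := isConj_iff.1 hc
      obtain ⟨H, h2, h3⟩ := h y hy hy1
      rw [Nat.le_div_iff_mul_le hm, ← H.card_mul_index]
      refine Nat.mul_le_mul ?_ h2
      rw [Nat.card_eq_fintype_card, Fintype.card_subtype]
      refine Finset.card_le_card_of_injOn (fun x => k⁻¹ * x.2) (fun x hx => ?_) fun x hx x' hx' e => ?_
      · rw [Finset.mem_coe, Finset.mem_filter, Finset.mem_product, Finset.mem_erase, Set.mem_toFinset] at hx
        refine Finset.mem_coe.2 (Finset.mem_filter.2 ⟨Finset.mem_univ _, h3 x.1 hx.1.1.2 _ ?_⟩)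
        calc _ = k⁻¹ * (x.2 * x.1 * x.2⁻¹) * k := by group
          _ = y := by rw [hx.2]; group
      · have e1 : x.2 = x'.2 := mul_left_cancel e
        have e2 := (Finset.mem_filter.1 hx).2.trans (Finset.mem_filter.1 hx').2.symm
        rw [e1] at e2
        exact Prod.ext (mul_left_cancel (mul_right_cancel e2)) e1)
  rw [Finset.card_product, Finset.card_erase_of_mem (Set.mem_toFinset.2 W.one_mem), Finset.card_univ,
    Set.toFinset_card, Set.toFinset_card, ← Nat.card_eq_fintype_card, ← Nat.card_eq_fintype_card,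
    ← Nat.card_eq_fintype_card] at h1
  refine le_of_mul_le_mul_left (a := Nat.card S) ?_ Nat.card_pos
  have h2 := Nat.div_mul_le_self (Nat.card S) m
  calc _ = (Nat.card W - 1) * Nat.card S * m := by ring
    _ ≤ Nat.card S / m * Nat.card (CC W) * m := Nat.mul_le_mul_right m h1
    _ = Nat.card S / m * m * Nat.card (CC W) := by ring
    _ ≤ _ := Nat.mul_le_mul_right _ h2

/-- **the criterion from the bound `a` for the centre and the bound `m` for the index of the transporter** -/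
theorem gc_of (hp2 : p ≠ 2) {S : Type*} [Group S] [Finite S] {P : Subgroup S} (hi : ¬ p ∣ P.index) {a m d N f R : ℕ}
    (ha : ∀ W, Cn W P → Nat.card W ≤ a)
    (hm : 9 ≤ a → ∀ y ∈ P, (∀ u ∈ P, y * u = u * y) → y ≠ 1 → ∃ H : Subgroup S, m ≤ H.index ∧
      ∀ z ∈ P, (∀ u ∈ P, z * u = u * z) → ∀ g, g * z * g⁻¹ = y → g ∈ H)
    (hd : ¬ p ∣ d) (hS : d * Nat.card S = (p ^ f) ^ N * R)
    (hn : 9 ≤ a → R * a ^ 2 ≤ (p ^ f) ^ N * ((a - 1) * m)) : GC p P := by
  intro W hW h2
  have hp : p.Prime := Fact.out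
  have h3 : 9 ≤ Nat.card W := by
    have h4 := Nat.le_of_dvd Nat.card_pos ((hp.pow_dvd_iff_le_factorization Nat.card_pos.ne').2 h2)
    have h5 : 3 ≤ p := by have := hp.two_le; omega
    nlinarith
  have h4 := ha W hW
  have h5 := cc_ge (W := W) (m := m) fun y hy hy1 => by
    obtain ⟨H, h6, h7⟩ := hm (h3.trans h4) y (hW.1 hy) (hW.2 y hy) hy1
    exact ⟨H, h6, fun z hz => h7 z (hW.1 hz) (hW.2 z hz)⟩
  have h6 : Nat.card S ≤ (p ^ f) ^ N * R := by
    rw [← hS]
    exact Nat.le_mul_of_pos_left _ (Nat.pos_of_ne_zero fun h => hd (h ▸ dvd_zero p))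
  have h7 : (p ^ f) ^ N ≤ Nat.card P := by
    refine Nat.le_of_dvd Nat.card_pos ?_
    have h8 : (p ^ f) ^ N ∣ d * (Nat.card P * P.index) := by
      rw [P.card_mul_index, hS]
      exact dvd_mul_right _ _
    have h9 : ∀ x, ¬ p ∣ x → ((p ^ f) ^ N).Coprime x := fun x hx =>
      (((Nat.Prime.coprime_iff_not_dvd hp).2 hx).pow_left f).pow_left N
    exact (h9 _ hi).dvd_of_dvd_mul_right ((h9 _ hd).dvd_of_dvd_mul_left h8)
  have h8 := hn (h3.trans h4)
  obtain ⟨w, hw⟩ : ∃ w, Nat.card W = w + 1 := ⟨Nat.card W - 1, by omega⟩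
  obtain ⟨b, rfl⟩ : ∃ b, a = w + b + 1 := ⟨a - w - 1, by omega⟩
  rw [hw] at h3 h5 ⊢
  rw [Nat.add_sub_cancel] at h5 h8
  have h9 : (w + 1) ^ 2 * (w + b) ≤ (w + b + 1) ^ 2 * w := by
    obtain ⟨v, rfl⟩ : ∃ v, w = v + 1 := ⟨w - 1, by omega⟩
    ring_nf
    omega
  refine le_of_mul_le_mul_right (a := w + b) ?_ (by omega)
  set Q := (p ^ f) ^ N
  calc _ = Nat.card S * ((w + 1) ^ 2 * (w + b)) := by ring
    _ ≤ Q * R * ((w + b + 1) ^ 2 * w) := Nat.mul_le_mul h6 h9
    _ = Q * w * (R * (w + b + 1) ^ 2) := by ring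
    _ ≤ Q * w * (Q * ((w + b) * m)) := Nat.mul_le_mul_left _ h8
    _ = Q ^ 2 * (w * m) * (w + b) := by ring
    _ ≤ _ := Nat.mul_le_mul_right _ (Nat.mul_le_mul (Nat.pow_le_pow_left h7 2) h5)

end Cfsg.Agent.KM.Mu.Lie
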