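import Cfsg.Agent.KM.Mu.LieA
import Cfsg.Agent.KFacts.RgdLieCharP
import Cfsg.Agent.KFacts.RgdEx
import Cfsg.Agent.KFacts.RgdSyl
import Cfsg.Agent.H62.PPIdx
import Cfsg.Agent.H934.RowRgd
import Cfsg.Agent.Nodes.CenVVTy
import Cfsg.Agent.Nodes.ClsMap
import Cfsg.Agent.Nodes.RGDTypeA

/-!
# S4576, defining characteristic: root group data (helper3)

* `par` : the transporter of central elements of `U` lies in a proper parabolic subgroup;
* `mem_full` : the centre of `U` lies in the join of the root groups of the roots of full support;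
* `rrowS_rgd`, `rrowS_full`, `rrowS_cls`, `rrowS_cls'` : the row from the numerical data.
-/

set_option autoImplicit false
set_option linter.unusedSectionVars false

namespace Cfsg.Agent.KM.Mu.Lie

open CoxeterSystem Cfsg.Agent.ChevalleyStructure.CoxeterGeom Cfsg.Agent.Tits.Roots Cfsg.Agent.Tits.Core
  Cfsg.Agent.Nodes Cfsg.Agent.Nodes.Reps Cfsg.Agent.Nodes.BNOf Cfsg.Agent.Nodes.Bruhat Cfsg.Agent.Nodes.LeviDec
  Cfsg.Agent.Nodes.StabComb Cfsg.Agent.Nodes.RGDLib Cfsg.Agent.Nodes.Chart Cfsg.Agent.Nodes.Coroot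
  Cfsg.Agent.KFacts Cfsg.Agent.H248.TitsRGD

variable {I W : Type*} {Y : Type} [Fintype I] [DecidableEq I] [Group W] [Group Y] [Finite Y] {M : CoxeterMatrix I}
  {cs : CoxeterSystem M W} {A : I → I → ℤ} {h : IsCartan M A} {p : ℕ} [Fact p.Prime] {T : Subgroup Y} {n : I → Y}
  {X : (I → ℤ) → Subgroup Y}

/-- the roots of full support -/
def Full (cs : CoxeterSystem M W) (h : IsCartan M A) : Set (I → ℤ) := {x | x ∈ RGD.Pos cs h ∧ ∀ i, 0 < x i}

theorem center_bot (S : Type*) [Group S] [IsSimpleGroup S] (hS : ¬ IsMulCommutative S) : Subgroup.center S = ⊥ :=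
  RgdLieCharP.center_eq_bot (by
    by_contra h0
    push Not at h0
    exact hS ⟨⟨h0⟩⟩)

theorem GG_top (hG : G1 cs h X = ⊤) : GG cs h T X = ⊤ := by
  rw [eq_top_iff, ← hG]
  exact le_sup_right

section Rgd

variable [Finite W] (R : RGD cs h p T n X)

include R

theorem not_dvd_U (hG : G1 cs h X = ⊤) : ¬ p ∣ (RGD.Sup X (RGD.Pos cs h)).index := by
  have h1 := RgdSyl.not_dvd_relIndex R
  rwa [GG_top hG, Subgroup.relIndex_top_right] at h1

theorem JU_ne (hG : G1 cs h X = ⊤) (hZ : Subgroup.center Y = ⊥) {y : Y}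
    (hy : ∀ u ∈ RGD.Sup X (RGD.Pos cs h), y * u = u * y) (h1 : y ≠ 1) :
    JU T n (Subgroup.centralizer {y}) ≠ Set.univ := fun h0 => by
  have h2 := Sup_le_of_univ R (P := Subgroup.centralizer {y})
    (fun u hu => Subgroup.mem_centralizer_singleton_iff.2 (hy u hu).symm) h0
  refine h1 (Subgroup.mem_bot.1 (hZ ▸ Subgroup.mem_center_iff.2 fun g => ?_))
  exact Subgroup.mem_centralizer_singleton_iff.1 (h2 (show g ∈ G1 cs h X from hG ▸ Subgroup.mem_top g))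

/-- the transporter lies in the parabolic subgroup over the centraliser -/
theorem par (hG : G1 cs h X = ⊤) {y z g : Y} (hy : ∀ u ∈ RGD.Sup X (RGD.Pos cs h), y * u = u * y)
    (hz : ∀ u ∈ RGD.Sup X (RGD.Pos cs h), z * u = u * z) (e : g * z * g⁻¹ = y) :
    g ∈ PJ cs h T X (JU T n (Subgroup.centralizer {y})) := by
  set U := RGD.Sup X (RGD.Pos cs h) with hU
  set C := Subgroup.centralizer ({y} : Set Y) with hC
  have h1 : U ≤ C := fun u hu => Subgroup.mem_centralizer_singleton_iff.2 (hy u hu).symm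
  have h2 : U.map (MulAut.conj g).toMonoidHom ≤ C := by
    rintro _ ⟨u, hu, rfl⟩
    rw [Subgroup.mem_centralizer_singleton_iff, ← e]
    change g * u * g⁻¹ * _ = _ * (g * u * g⁻¹)
    calc _ = g * (u * z) * g⁻¹ := by group
      _ = _ := by rw [← hz u hu]; group
  have h3 : ∀ V : Subgroup Y, V ≤ C → V.index = U.index → ¬ p ∣ (V.subgroupOf C).index := fun V hV e h0 =>
    not_dvd_U R hG (e ▸ h0.trans (Subgroup.relIndex_dvd_index_of_le hV))
  obtain ⟨c, hc⟩ := MulAction.exists_smul_eq C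
    (((R.isPGroup_Upos.map (MulAut.conj g).toMonoidHom).comap_subtype (K := C)).toSylow
      (h3 _ h2 (Subgroup.index_map_equiv U (MulAut.conj g))))
    ((R.isPGroup_Upos.comap_subtype (K := C)).toSylow (h3 _ h1 rfl))
  have h4 : ((U.map (MulAut.conj g).toMonoidHom).subgroupOf C).map (MulAut.conj c).toMonoidHom = U.subgroupOf C :=
    congrArg (fun Q : Sylow p C => (Q : Subgroup C)) hc
  have h5 : (c : Y) * g ∈ Subgroup.normalizer (U : Set Y) := by
    refine Subgroup.mem_normalizer_fintype fun u hu => ?_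
    have h6 : g * u * g⁻¹ ∈ U.map (MulAut.conj g).toMonoidHom := ⟨u, hu, rfl⟩
    have h7 : c * ⟨_, h2 h6⟩ * c⁻¹ ∈ U.subgroupOf C := h4 ▸ ⟨⟨_, h2 h6⟩, h6, rfl⟩
    have h8 : (c : Y) * (g * u * g⁻¹) * (c : Y)⁻¹ ∈ U := h7
    have h9 : (c : Y) * g * u * ((c : Y) * g)⁻¹ = (c : Y) * (g * u * g⁻¹) * (c : Y)⁻¹ := by group
    exact h9 ▸ h8
  have h6 : (c : Y) * g ∈ RGD.B cs h T X := by
    rw [← RgdEx.normalizer_U R]
    exact ⟨h5, GG_top (T := T) hG ▸ Subgroup.mem_top _⟩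
  have h7 := mul_mem (inv_mem (le_PJ R h1 (GG_top (T := T) hG ▸ le_top) c.2)) (B_le_PJ h6)
  rwa [inv_mul_cancel_left] at h7

/-- **the row from a root group datum** -/
theorem rrowS_rgd (hp2 : p ≠ 2) (hG : G1 cs h X = ⊤) {a m d N f r : ℕ}
    (ha : ∀ V, Cn V (RGD.Sup X (RGD.Pos cs h)) → Nat.card V ≤ a)
    (hm : 9 ≤ a → ∀ y ∈ RGD.Sup X (RGD.Pos cs h), (∀ u ∈ RGD.Sup X (RGD.Pos cs h), y * u = u * y) → y ≠ 1 →
      m ≤ (PJ cs h T X (JU T n (Subgroup.centralizer {y}))).index)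
    (hd : ¬ p ∣ d) (hS : d * Nat.card Y = (p ^ f) ^ N * r)
    (hn : 9 ≤ a → r * a ^ 2 ≤ (p ^ f) ^ N * ((a - 1) * m)) : RRowS p Y :=
  rrowS_of_gc R.isPGroup_Upos (not_dvd_U R hG) (gc_of hp2 (not_dvd_U R hG) ha
    (fun h9 y hy hc h1 => ⟨_, hm h9 y hy hc h1, fun _ _ hz _ e => par R hG hc hz e⟩) hd hS hn)

theorem PJ_ne {J : Set I} (hJ : J ≠ Set.univ) : PJ cs h T X J ≠ ⊤ :=
  H934.RowRgd.PJ_ne_top R ((Set.ne_univ_iff_exists_notMem _).1 hJ).choose_spec

omit R in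
theorem closed_full (s : Finset I) : Unique.Closed cs h {x | x ∈ RGD.Pos cs h ∧ ∀ i ∈ s, 0 < x i} :=
  fun _ hx _ hy _ hz => ⟨⟨hz.1, RGD.nonneg_of_btwn hx.1.2 hy.1.2 hz⟩, fun i hi =>
    btwn_apply_pos hz (hx.2 i hi) (hy.1.2 i)⟩

variable [IsSimpleGroup Y]

theorem mem_VJ (hG : G1 cs h X = ⊤) (hZ : Subgroup.center Y = ⊥) {J : Set I} (hJ : J ≠ Set.univ) {c : Y}
    (hc : ∀ u ∈ RGD.Sup X (RGD.Pos cs h), c * u = u * c) : c ∈ VJ cs h X J :=
  RgdVJ.cent_VJ_le R (RgdLieCharP.noCent_of_center hG hZ) (RgdLieCharP.conn_of_simple R hG hZ) hJ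
    ⟨Subgroup.mem_centralizer_iff.2 fun v hv => (hc v (VJ_le_U J hv)).symm, GG_top (T := T) hG ▸ Subgroup.mem_top _⟩

/-- the centre of `U` -/
theorem mem_full (hG : G1 cs h X = ⊤) (hZ : Subgroup.center Y = ⊥) {c : Y} (hU : c ∈ RGD.Sup X (RGD.Pos cs h))
    (hc : ∀ u ∈ RGD.Sup X (RGD.Pos cs h), c * u = u * c) : c ∈ RGD.Sup X (Full cs h) := by
  have key : ∀ s : Finset I, c ∈ RGD.Sup X {x | x ∈ RGD.Pos cs h ∧ ∀ i ∈ s, 0 < x i} := by
    intro s
    induction s using Finset.induction_on with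
    | empty =>
      refine RGD.Sup_mono (S := RGD.Pos cs h) (fun x hx => ?_) hU
      exact ⟨hx, fun _ hi => absurd hi (Finset.notMem_empty _)⟩
    | insert i s _ ih =>
      have h1 := mem_VJ R hG hZ (J := {i}ᶜ) (fun h0 => (h0 ▸ Set.mem_univ i : i ∈ ({i}ᶜ : Set I)) rfl) hc
      have h2 := Unique.inf_eq R (fun x hx => hx.1) (S' := NotJ cs h {i}ᶜ) (fun x hx => ⟨hx.1, hx.2.1⟩)
        (closed_full s) (H62.PPIdx.closed_NotJ _)
      refine RGD.Sup_mono ?_ (h2.le ⟨ih, h1⟩)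
      rintro x ⟨hx, -, -, k, hk, hk0⟩
      refine ⟨hx.1, fun j hj => ?_⟩
      rcases Finset.mem_insert.1 hj with rfl | hj
      · obtain rfl : k = j := by simpa using hk
        exact hk0
      · exact hx.2 j hj
  refine RGD.Sup_mono (fun x hx => ?_) (key Finset.univ)
  exact ⟨hx.1, fun i => hx.2 i (Finset.mem_univ i)⟩

/-- **the row from the roots of full support and the unipotent radicals** -/
theorem rrowS_full (hp2 : p ≠ 2) (hG : G1 cs h X = ⊤) (hZ : Subgroup.center Y = ⊥) {a m d N f r : ℕ}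
    (ha : Nat.card (RGD.Sup X (Full cs h)) ≤ a) (hm : ∀ i, m ≤ Nat.card (VJ cs h X {i}ᶜ))
    (hd : ¬ p ∣ d) (hS : d * Nat.card Y = (p ^ f) ^ N * r)
    (hn : 9 ≤ a → r * a ^ 2 ≤ (p ^ f) ^ N * ((a - 1) * m)) : RRowS p Y := by
  refine rrowS_rgd R hp2 hG (fun V hV => (Subgroup.card_le_of_le fun c hc => ?_).trans ha) (fun _ y _ hy h1 => ?_) hd hS hn
  · exact mem_full R hG hZ (hV.1 hc) (hV.2 c hc)
  · obtain ⟨i, hi⟩ := (Set.ne_univ_iff_exists_notMem _).1 (JU_ne R hG hZ hy h1)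
    refine (hm i).trans ((Subgroup.card_le_of_le (H62.PPIdx.VJ_anti R ?_)).trans (H62.PPIdx.card_VJ_le_index R le_rfl))
    rintro j hj rfl
    exact hi hj

omit [IsSimpleGroup Y]

/-- one more node -/
theorem index_insert {J : Set I} {i : I} (hi : i ∉ J) :
    Nat.card (X (-sr i)) * (PJ cs h T X (insert i J)).index ≤ (PJ cs h T X J).index := by
  have h1 : PJ cs h T X J ≤ PJ cs h T X (insert i J) :=
    sup_le ((LJ_mono (Set.subset_insert i J)).trans LJ_le_PJ) ((VJ_le_B J).trans B_le_PJ)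
  have h2 : X (-sr i) ≤ PJ cs h T X (insert i J) := by
    refine (X_le_LJ ⟨(isRoot_sr cs h i).neg, fun k hk => ?_⟩).trans LJ_le_PJ
    rw [Pi.neg_apply, sr_ne (fun e : k = i => hk (e ▸ Set.mem_insert _ _)), neg_zero]
  have h3 : X (-sr i) ≤ VNJ cs h X J := by
    refine RGD.le_Sup (S := NotNJ cs h J) ?_
    change - -sr i ∈ NotJ cs h J
    rw [neg_neg]
    exact ⟨isRoot_sr cs h i, sr_nonneg i, i, hi, by rw [sr_self]; norm_num⟩
  rw [← Subgroup.relIndex_mul_index h1]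
  refine Nat.mul_le_mul_right _ (Nat.card_le_card_of_injective
    (fun v : X (-sr i) => (QuotientGroup.mk ⟨v.1, h2 v.2⟩ : _ ⧸ (PJ cs h T X J).subgroupOf _)) fun v w e => ?_)
  have e' : (⟨v.1, h2 v.2⟩ : PJ cs h T X (insert i J))⁻¹ * ⟨w.1, h2 w.2⟩ ∈ (PJ cs h T X J).subgroupOf _ :=
    QuotientGroup.eq.1 e
  exact Subtype.ext (inv_mul_eq_one.1 (eq_one_of_mem_VNJ_of_mem_PJ R (h3 (mul_mem (inv_mem v.2) w.2)) e'))

/-- a node of the parabolic subgroup over the centraliser of a root element fixes the root -/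
theorem fix_of_JU {x : I → ℤ} (hx : IsRoot cs h x) {y : Y} (hy : y ∈ X x) (h1 : y ≠ 1) {i : I}
    (hi : i ∈ JU T n (Subgroup.centralizer {y})) : rep cs h (cs.simple i) x = x := by
  obtain ⟨t, ht, hc⟩ := hi
  have h2 := R.conj_mem ((rp_of_mem (cs := cs) (hN := R.nsys) ht).mul (rp_simple cs R.nsys i)) hx hy
  rw [Subgroup.mem_centralizer_singleton_iff.1 hc, mul_inv_cancel_right, one_mul] at h2
  by_contra h3
  exact h1 (Subgroup.mem_bot.1 ((OppDec.X_inf_X R (hx.act _) hx h3).le ⟨h2, hy⟩))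

end Rgd

section Cls

variable [Fintype W] {R : Set (I → ℤ)} {Z : (I → ℤ) → Subgroup Y} {z : (I → ℤ) → Y}

/-- an element of a root group which commutes with a root group at an obtuse angle is trivial -/
theorem nd (Rd : RGD cs h p T n X) {s y : I → ℤ} (hs : IsRoot cs h s) (hy : IsRoot cs h y) (h0 : form cs h y s < 0)
    {b : Y} (hb : b ∈ X y) (hc : ∀ a ∈ X s, b * a = a * b) : b = 1 := by
  obtain ⟨v, hv, hv1⟩ := (X (-s)).bot_or_exists_ne_one.resolve_left (X_ne_bot Rd hs.neg)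
  obtain ⟨a, ha, a', ha', w, k, hk, hw, e⟩ := CenVV.exists_mu Rd hs.neg hv hv1
  rw [neg_neg] at ha ha'
  have h1 := form_pos cs h hs.ne_zero
  have h2 : 0 < form cs h (rep cs h w y) s := by
    have h3 := two_form_cpr cs h y hs.neg
    rw [form_neg_right, form_neg_left, form_neg_right, neg_neg] at h3
    rw [hw, form_sub_left, form_smul_left, form_neg_left]
    linarith
  have h3 : v * b * v⁻¹ = 1 := by
    refine Slope.sup_inf_sup Rd (CenVV.fh cs h s) ?_ ?_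
    · have h4 : v * b * v⁻¹ = a * (k * b * k⁻¹) * a⁻¹ := by
        calc _ = a * k * (a' * b) * a'⁻¹ * k⁻¹ * a⁻¹ := by rw [e]; group
          _ = _ := by rw [← hc a' ha']; group
      have h5 := RGD.le_Sup (X := X) (S := {x | IsRoot cs h x ∧ 0 < CenVV.fh cs h s x}) ⟨hs, h1⟩ ha
      rw [h4]
      exact mul_mem (mul_mem h5 (RGD.le_Sup (S := {x | IsRoot cs h x ∧ 0 < CenVV.fh cs h s x}) ⟨hy.act w, h2⟩
        (Rd.conj_mem hk hy hb))) (inv_mem h5)
    · have h5 := RGD.le_Sup (X := X) (S := {x | IsRoot cs h x ∧ CenVV.fh cs h s x < 0}) ⟨hs.neg, by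
        rw [CenVV.fh_apply, form_neg_left]
        omega⟩ hv
      exact mul_mem (mul_mem h5 (RGD.le_Sup (S := {x | IsRoot cs h x ∧ CenVV.fh cs h s x < 0}) ⟨hy, h0⟩ hb)) (inv_mem h5)
  exact conj_eq_one_iff.1 h3

/-- **the row from classical root groups of a cover** -/
theorem rrowS_cls (C : Cls cs h p T n X R Z z) (hp2 : p ≠ 2) (hG : G1 cs h X = ⊤) {S : Type} [Group S] [Finite S]
    [IsSimpleGroup S] (hZ : Subgroup.center S = ⊥) (φ : Y →* S) (hφ : Function.Surjective φ)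
    (hk : φ.ker ≤ Subgroup.center Y) {l : I → ℤ} (rel : ∀ i j, A i j * l i = A j i * l j) (hpos : ∀ i, 0 < l i) {i : I}
    (hi : sr i ∈ R) (hle : ∀ j, l j ≤ l i) (hge : ∀ j, l i ≤ 2 * l j)
    (hj : (∀ r ∈ R, X r ≤ Z r) ∨ ∃ j, A i j < 0 ∧ 2 * l j = l i) {a m d N f r : ℕ}
    (ha : ∀ r ∈ R, Nat.card (Z r) ≤ a) (hm : 9 ≤ a → ∀ H : Subgroup S, H ≠ ⊤ → m ≤ H.index)
    (hd : ¬ p ∣ d) (hS : d * Nat.card S = (p ^ f) ^ N * r)
    (hn : 9 ≤ a → r * a ^ 2 ≤ (p ^ f) ^ N * ((a - 1) * m)) : RRowS p S := by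
  have C' := ClsMap.cls_map_of_ker_le_center C φ hk
  have hG' : G1 cs h (fun x => (X x).map φ) = ⊤ := by
    rw [RGDTypeA.G1_map, hG, Subgroup.map_top_of_surjective φ hφ]
  have irr := RgdLieCharP.conn_of_simple C'.rgd hG' hZ
  obtain ⟨w, hw⟩ := ClsNorm.exists_dominant (cs := cs) (h := h) (sr i)
  have hr := C.act _ hi w
  have L := CenVV.lg_of_len (cs := cs) (h := h) irr rel hpos hle hge w
  have h1 : orth cs h (rep cs h w (sr i)) ≠ Set.univ := fun h0 => by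
    have h2 := (ClsNorm.mem_NotJ_orth_iff hw L.root).2 L.pos
    obtain ⟨-, -, k, hk, -⟩ := h2
    exact hk (h0 ▸ Set.mem_univ k)
  refine rrowS_rgd C'.rgd hp2 hG' (fun V hV => ?_)
    (fun h9 y _ hy h1 => hm h9 _ (PJ_ne C'.rgd (JU_ne C'.rgd hG' hZ hy h1))) hd hS hn
  refine (Subgroup.card_le_of_le (K := (Z (rep cs h w (sr i))).map φ) fun c hc => ?_).trans
    ((Nat.le_of_dvd Nat.card_pos (Subgroup.card_map_dvd _ φ)).trans (ha _ hr))
  have h2 := mem_VJ C'.rgd hG' hZ h1 (hV.2 c hc)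
  have h3 := fun v hv => hV.2 c hc v (VJ_le_U (orth cs h (rep cs h w (sr i))) hv)
  rw [← ChartLoc.VV_eq_VJ hw] at h2 h3
  rcases hj with hj | ⟨j, hj, h4⟩
  · exact Subgroup.map_mono (hj _ hr) (CenVV.mem_X C' hp2 L hr h2 h3)
  · refine CenVV.mem_Z_of_short C' hp2 L hr (y := -rep cs h w (sr j)) ((isRoot_sr cs h j).act w).neg ?_ ?_ h2 h3
    · have h5 := OrthRoot.two_form_sr cs h i j
      have h6 := mul_neg_of_neg_of_pos hj (form_pos cs h (sr_ne_zero i))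
      rw [form_neg_left, form_rep]
      omega
    · rw [form_neg_left, form_neg_right, neg_neg, form_rep, form_rep]
      have h5 := CenVV.form_len cs h irr rel i j
      rw [← h4] at h5
      refine mul_right_cancel₀ (hpos j).ne' ?_
      rw [h5]
      ring

/-- the same for the transposed Cartan matrix -/
theorem rrowS_cls' (C : Cls cs h p T n X R Z z) (hp2 : p ≠ 2) (hG : G1 cs h X = ⊤) {S : Type} [Group S] [Finite S]
    [IsSimpleGroup S] (hZ : Subgroup.center S = ⊥) (φ : Y →* S) (hφ : Function.Surjective φ)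
    (hk : φ.ker ≤ Subgroup.center Y) {l : I → ℤ} (rel : ∀ i j, A j i * l i = A i j * l j) (hpos : ∀ i, 0 < l i) {i : I}
    (hi : sr i ∈ R) (hle : ∀ j, l j ≤ l i) (hge : ∀ j, l i ≤ 2 * l j)
    (hj : ∃ j, A j i < 0 ∧ 2 * l j = l i) {a m d N f r : ℕ}
    (ha : ∀ r ∈ R, Nat.card (Z r) ≤ a) (hm : 9 ≤ a → ∀ H : Subgroup S, H ≠ ⊤ → m ≤ H.index)
    (hd : ¬ p ∣ d) (hS : d * Nat.card S = (p ^ f) ^ N * r)
    (hn : 9 ≤ a → r * a ^ 2 ≤ (p ^ f) ^ N * ((a - 1) * m)) : RRowS p S := by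
  have h' := BlockTy.isCartan_transpose h
  have Sc : Relabel.Scal A (fun i j => A j i) l := ⟨hpos, fun i j => by rw [← rel, mul_comm]⟩
  refine rrowS_cls (Relabel.cls_relabel Sc h' C) hp2 ((Relabel.G1_relabel Sc h' X).trans hG) hZ φ hφ hk rel hpos
    ⟨isRoot_sr _ _ i, _, hi, Relabel.ray_sr Sc h' i⟩ hle hge (Or.inr hj) ?_ hm hd hS hn
  rintro r ⟨-, x, hx, hxx⟩
  rw [Relabel.relX_eq hxx]
  exact ha x hx

end Cls

end Cfsg.Agent.KM.Mu.Lie
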