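import Cfsg.Agent.KM.Mu.LieE
import Cfsg.Agent.H132.RowU
import Cfsg.Agent.H132.RowOrth
import Cfsg.Agent.ChevalleyStructure.FixedCard
import Cfsg.Agent.H277.ClsPsl
import Cfsg.Agent.H277.ClsPsu
import Cfsg.Agent.H277.ClsPsp
import Cfsg.Agent.S0292
import Cfsg.Agent.S0293
import Cfsg.Agent.S0294
import Cfsg.Agent.S2140
import Cfsg.Agent.S2141
import Cfsg.Agent.S2143
import Cfsg.Agent.S2145
import Cfsg.Agent.S2147
import Cfsg.Agent.S2150
import Cfsg.Agent.S2151
import Cfsg.Agent.S2152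

/-!
# S4576, defining characteristic: the classical groups of rank at least two (helper3)
-/

set_option autoImplicit false
set_option linter.unusedSectionVars false

namespace Cfsg.Agent.KM.Mu.Lie

open CoxeterSystem Cfsg.Agent.ChevalleyStructure.CoxeterGeom Cfsg.Agent.Tits.Roots Cfsg.Agent.Tits.Core
  Cfsg.Agent.Nodes Cfsg.Agent.Nodes.Reps Cfsg.Agent.Nodes.BNOf Cfsg.Agent.Nodes.Bruhat Cfsg.Agent.Nodes.LeviDec
  Cfsg.Agent.Nodes.StabComb Cfsg.Agent.Nodes.RGDLib Cfsg.Agent.Nodes.Chart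

/-! ### numbers -/

theorem num_of {q x g c m Q : ℕ} (h1 : c * ((q - 1) * m) = g) (h2 : x * q ^ 2 * c ≤ Q) :
    x * g * q ^ 2 ≤ Q * ((q - 1) * m) := by
  rw [← h1]
  calc _ = x * q ^ 2 * c * ((q - 1) * m) := by ring
    _ ≤ _ := Nat.mul_le_mul_right _ h2

theorem tri_succ (k : ℕ) : (k + 1 + 1) * (k + 1) / 2 = (k + 1) * k / 2 + (k + 1) := by
  rw [show (k + 1 + 1) * (k + 1) = (k + 1) * k + 2 * (k + 1) by ring, Nat.add_mul_div_left _ _ two_pos]

theorem prod_A (q k : ℕ) : (∏ i ∈ Finset.range k, (q ^ (i + 2) - 1)) * q ≤ q ^ ((k + 1 + 1) * (k + 1) / 2) := by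
  induction k with
  | zero => simp
  | succ k ih =>
    rw [tri_succ, Finset.prod_range_succ, mul_right_comm]
    exact mul_le_pow ih

theorem prod_U {q : ℕ} (hq : 2 ≤ q) (k : ℕ) :
    (∏ i ∈ Finset.range (k + 1), (if Even i then q ^ (i + 2) - 1 else q ^ (i + 2) + 1)) * q ^ 2 * (q + 1) ≤
      q ^ ((k + 3 + 1) * (k + 3) / 2) := by
  induction k with
  | zero =>
    rw [Finset.prod_range_one, if_pos Even.zero]
    have h1 : (q ^ (0 + 2) - 1) * q ^ 2 ≤ q ^ 4 := (Nat.mul_le_mul_right _ (Nat.sub_le _ _)).trans_eq (by ring)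
    have h2 := mul_le_pow' (b := 1) hq h1
    rwa [pow_one] at h2
  | succ k ih =>
    rw [show k + 1 + 3 = k + 3 + 1 from rfl, tri_succ, Finset.prod_range_succ, mul_right_comm _ _ (q ^ 2),
      mul_right_comm _ _ (q + 1)]
    split_ifs
    · exact (mul_le_pow ih).trans (Nat.pow_le_pow_right (by omega) (by omega))
    · exact mul_le_pow' hq ih

theorem prod_S (q k : ℕ) : ∏ i ∈ Finset.range k, (q ^ (2 * (i + 1)) - 1) ≤ q ^ (k * (k + 1)) := by
  induction k with
  | zero => simp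
  | succ k ih =>
    rw [Finset.prod_range_succ, show (k + 1) * (k + 1 + 1) = k * (k + 1) + 2 * (k + 1) by ring]
    exact mul_le_pow ih

theorem num_S {q k : ℕ} (hq : 2 ≤ q) : (∏ i ∈ Finset.range (k + 2), (q ^ (2 * (i + 1)) - 1)) * q ^ 2 ≤
    q ^ (k + 2) ^ 2 * ((q - 1) * ((q ^ (2 * (k + 2)) - 1) / (q - 1))) := by
  rw [Finset.prod_range_succ]
  refine num_of (c := 1) (by rw [one_mul, Nat.mul_div_cancel' (Nat.sub_one_dvd_pow_sub_one q _)]) ?_
  rw [mul_one]
  refine (Nat.mul_le_mul_right _ (prod_S q _)).trans ?_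
  rw [← pow_add]
  exact Nat.pow_le_pow_right (by omega) (by nlinarith)

theorem sq_sub (x : ℕ) : x ^ 2 - 1 = (x + 1) * (x - 1) := by
  have := Nat.sq_sub_sq x 1
  rwa [one_pow] at this

variable {p : ℕ} [Fact p.Prime]

theorem not_dvd_four (hp2 : p ≠ 2) (x : ℕ) : ¬ p ∣ Nat.gcd 4 x := fun h =>
  hp2 ((Nat.prime_dvd_prime_iff_eq Fact.out Nat.prime_two).1 ((Fact.out : p.Prime).dvd_of_dvd_pow
    (n := 2) (h.trans (Nat.gcd_dvd_left _ _))))

/-! ### linear groups -/

section A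

open Cfsg.Agent.Nodes.RootsA Cfsg.Agent.Nodes.RGDTypeA
open Cfsg.Agent.LieRecognition.BNCox (cA)

theorem rrowS_psl (hp2 : p ≠ 2) {F : Type} [Field F] [Fintype F] [CharP F p] (k : ℕ)
    [IsSimpleGroup (Matrix.ProjectiveSpecialLinearGroup (Fin (k + 2 + 1)) F)]
    (hZ : Subgroup.center (Matrix.ProjectiveSpecialLinearGroup (Fin (k + 2 + 1)) F) = ⊥) :
    RRowS p (Matrix.ProjectiveSpecialLinearGroup (Fin (k + 2 + 1)) F) := by
  let cs := (cA (k + 2)).toCoxeterSystem
  have h := isCartan (k + 2)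
  have : Finite (cA (k + 2)).Group := finite_W cs h
  have : Finite (Matrix.ProjectiveSpecialLinearGroup (Fin (k + 2 + 1)) F) := Quotient.finite _
  have R := rgd_psl (F := F) (p := p) cs h
  have hG := G1_psl_eq_top (F := F) cs h
  obtain ⟨f, -, hf⟩ := FiniteField.card F p
  have h0 : (0 : Fin (k + 2 + 1)) ≠ Fin.last (k + 2) := by simp [Fin.ext_iff]
  have hθ := isRoot_rtA cs h h0
  have hX : ∀ x, IsRoot cs h x → Nat.card ((X F x).map (pr (k + 2) F)) = Fintype.card F := by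
    intro x hx
    rw [CardSup.card_map_X (rgd (F := F) (p := p) cs h) _ ker_pr.le hx]
    obtain ⟨a, b, hab, rfl⟩ := exists_of_isRoot cs h hx
    rw [X_rtA hab, ← Nat.card_eq_fintype_card]
    exact (Nat.card_congr (Equiv.ofInjective (TitsThree.KSideA.tv a b) fun _ _ e => tv_inj hab e)).symm
  have hfull : ∀ c ∈ RGD.Sup (fun x => (X F x).map (pr (k + 2) F)) (RGD.Pos cs h), (∀ u ∈ RGD.Sup (fun x =>
      (X F x).map (pr (k + 2) F)) (RGD.Pos cs h), c * u = u * c) → c ∈ (X F (rtA 0 (Fin.last (k + 2)))).map (pr (k + 2) F) := by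
    intro c h1 h2
    refine RGD.Sup_le (fun x hx => ?_) (mem_full R hG hZ h1 h2)
    obtain ⟨a, b, -, rfl⟩ := exists_of_isRoot cs h hx.1.1
    have h3 := hx.2 0
    have h4 := hx.2 (Fin.last (k + 1))
    have h5 := b.2
    rw [rtA_apply] at h3 h4
    simp only [Fin.val_zero, Fin.val_last] at h3 h4
    obtain rfl : a = 0 := Fin.ext (by rw [Fin.val_zero]; split_ifs at h3 <;> omega)
    obtain rfl : b = Fin.last (k + 2) := Fin.ext (by rw [Fin.val_last]; split_ifs at h4 <;> omega)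
    exact le_rfl
  refine rrowS_rgd R hp2 hG (a := Fintype.card F) (f := f)
    (m := Fintype.card F * ((Fintype.card F ^ (k + 2 + 1) - 1) / (Fintype.card F - 1)))
    (fun V hV => (Subgroup.card_le_of_le fun c hc => hfull c (hV.1 hc) (hV.2 c hc)).trans_eq (hX _ hθ))
    (fun h9 y hy hc h1 => ?_) (not_dvd_gcd hf Fintype.one_lt_card).1 
    (by rw [← hf]; exact H277.ClsPsl.card_psl (n := k + 2 + 1) rfl (by omega))
    fun _ => ?_
  · have h2 := fun i hi => rtA_inj h0 ((fix_of_JU R hθ (hfull y hy hc) h1 (i := i) hi).symm.trans (rep_simple_rtA cs h i _ _))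
    have h3 : (0 : Fin (k + 2)) ∉ H248.TitsRGD.JU _ _ (Subgroup.centralizer {y}) := fun hi => by
      have h4 := congrArg Fin.val (h2 0 hi).1
      rw [swap_val] at h4
      simp at h4
    have h4 : Fin.last (k + 1) ∉ H248.TitsRGD.JU _ _ (Subgroup.centralizer {y}) := fun hi => by
      have h4 := congrArg Fin.val (h2 _ hi).2
      rw [swap_val] at h4
      simp at h4
    refine le_trans ?_ (index_insert R h3)
    rw [hX _ (isRoot_sr cs h _).neg]
    refine Nat.mul_le_mul_left _ ((S2140.result rfl _ (by omega) (by omega)).1 _ (PJ_ne R fun h5 => ?_))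
    rcases Set.mem_insert_iff.1 (h5 ▸ Set.mem_univ (Fin.last (k + 1))) with h6 | h6
    · simp [Fin.ext_iff] at h6
    · exact h4 h6
  · rw [← hf, Nat.add_sub_cancel, Finset.prod_range_succ, mul_left_comm (Fintype.card F - 1),
      Nat.mul_div_cancel' (Nat.sub_one_dvd_pow_sub_one _ _)]
    calc _ = (∏ i ∈ Finset.range (k + 1), (Fintype.card F ^ (i + 2) - 1)) * Fintype.card F *
          (Fintype.card F * (Fintype.card F ^ (k + 2 + 1) - 1)) := by ring
      _ ≤ _ := Nat.mul_le_mul_right _ (prod_A _ _)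

end A

/-! ### symplectic and unitary groups -/

section C

open Cfsg.Agent.Nodes.TypeC Cfsg.Agent.Nodes.WittRoot Cfsg.Agent.Nodes.ClsWitt Cfsg.Agent.TitsThree
  Cfsg.Agent.TitsThree.Siegel Cfsg.Agent.TitsThree.WittFrame Cfsg.Agent.TitsThree.FrameCN

theorem rrowS_witt (hp2 : p ≠ 2) {F V : Type} [Field F] [Fintype F] [CharP F p] [AddCommGroup V] [Module F V] [Finite V]
    {H : HForm F V} {k : ℕ} {Fr : Frame H (Fin (k + 2))} {K : Type} [Group K] [Finite K] [IsSimpleGroup K]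
    (hZ : Subgroup.center K = ⊥) (M : Model Fr K) (hA : Amb Fr M.I) {δ : F} {K0 : Subfield F} (L : H132.LField Fr δ K0)
    {p0 : Fr.Adm} (hp0 : p0.c ≠ 0) (hw0 : p0.w = 0) {a m d N f r : ℕ} (ha : Nat.card K0 = a) (hf : a = p ^ f)
    (hm : 9 ≤ a → ∀ U : Subgroup K, U ≠ ⊤ → m ≤ U.index) (hd : ¬ p ∣ d) (hS : d * Nat.card K = a ^ N * r)
    (hn : r * a ^ 2 ≤ a ^ N * ((a - 1) * m)) : RRowS p K := by
  have : Finite (V ≃ₗ[F] V) := Finite.of_injective (fun g : V ≃ₗ[F] V => (g : V → V)) DFunLike.coe_injective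
  let cs := (CoxeterMatrix.B (k + 2)).toCoxeterSystem
  have : Finite (CoxeterMatrix.B (k + 2)).Group := finite_W cs
  have := Fintype.ofFinite (CoxeterMatrix.B (k + 2)).Group
  refine rrowS_cls (cls_model M hA hp0 hw0 ((Fact.out : p.Prime).odd_of_ne_two hp2) cs) hp2
    (WittModel.G1_eq_top M (by omega) cs) hZ (MonoidHom.id _) Function.surjective_id
    (by rw [MonoidHom.ker_id]; exact bot_le) (l := fun i => if (i : ℕ) + 1 < k + 2 then 1 else 2) (fun i j => ?_)
    (fun i => by split_ifs <;> norm_num) (i := Fin.last (k + 1)) ⟨(Fin.last (k + 1), true), ?_⟩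
    (fun j => by simp only [Fin.val_last]; split_ifs <;> omega) (fun j => by simp only [Fin.val_last]; split_ifs <;> omega)
    (Or.inr ⟨⟨k, by omega⟩, by rw [A_apply]; simp [Fin.ext_iff], by simp⟩) ?_ hm hd (f := f) (by rw [← hf]; exact hS)
    fun _ => by rw [← hf]; exact hn
  · have := i.2
    have := j.2
    simp only [A_apply, Fin.ext_iff]
    split_ifs <;> omega
  · rw [ee_sr, bt, nx, dif_neg (by simp)]
  · rintro r ⟨b, e⟩
    refine (Nat.le_of_dvd Nat.card_pos (Subgroup.card_map_dvd _ M.φ)).trans ?_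
    have key : ∀ g : (ZV Fr r).subgroupOf M.I, ∃ x : K0, ∃ u : Fr.Adm, u.w = 0 ∧ u.c = δ⁻¹ * x ∧ g.1.1 = Fr.Z b u := by
      intro g
      obtain ⟨u, hu, e1⟩ : g.1.1 ∈ ZL Fr b := ZV_eq Fr e ▸ g.2
      obtain ⟨x, hx, e2⟩ := (L.okm u.c).1 (hu ▸ u.ok)
      exact ⟨⟨x, hx⟩, u, hu, e2, e1⟩
    choose φ hφ using key
    rw [← ha]
    refine Nat.card_le_card_of_injective φ fun g g' e1 => Subtype.ext (Subtype.ext ?_)
    obtain ⟨u, h1, h2, h3⟩ := hφ g
    obtain ⟨u', h1', h2', h3'⟩ := hφ g'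
    rw [h3, h3', Frame.Adm.ext (h1.trans h1'.symm) (by rw [h2, h2', e1])]

theorem rrowS_psp (hp2 : p ≠ 2) {F : Type} [Field F] [Fintype F] [CharP F p] (k : ℕ) [IsSimpleGroup (PSp (k + 2) F)]
    (hZ : Subgroup.center (PSp (k + 2) F) = ⊥) : RRowS p (PSp (k + 2) F) := by
  have : Finite (PSp (k + 2) F) := Quotient.finite _
  obtain ⟨f, -, hf⟩ := FiniteField.card F p
  exact rrowS_witt hp2 hZ (KInstSp.model (k + 2) F) WittU.amb_Sp (H132.spField _) (p0 := SpIdent.adm (1 : F)) one_ne_zero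
    rfl (a := Fintype.card F) (by rw [← Nat.card_eq_fintype_card]; exact Nat.card_congr Subfield.topEquiv.toEquiv) hf
    (fun h9 => (S2141.result rfl _ (by omega) (by omega) (by omega)).1) (not_dvd_gcd hf Fintype.one_lt_card).1
    (H277.ClsPsp.card_psp (m := k + 2) rfl (by omega)) (num_S Fintype.one_lt_card)

theorem rrowS_psu (hp2 : p ≠ 2) {F : Type} [Field F] [Fintype F] [CharP F p] {q : ℕ} (hF : Fintype.card F = q ^ 2) (k : ℕ)
    [IsSimpleGroup (PSU (k + 3 + 1) F q)] (hZ : Subgroup.center (PSU (k + 3 + 1) F q) = ⊥) :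
    RRowS p (PSU (k + 3 + 1) F q) := by
  have : Finite (PSU (k + 3 + 1) F q) := Quotient.finite _
  obtain ⟨h2, f, hf⟩ := exists_pow (p := p) hF
  obtain ⟨m, hm⟩ : ∃ m, k + 3 + 1 = 2 * (m + 2) ∨ k + 3 + 1 = 2 * (m + 2) + 1 := ⟨k / 2, by omega⟩
  obtain ⟨W, -⟩ := WittU.exists_wframe hF hm
  obtain ⟨p0, hp0, hw0⟩ := WittU.exists_adm hF W
  obtain ⟨δ, L⟩ := H132.exists_LField hF W
  have key := fun μ h1 h3 => rrowS_witt hp2 hZ (KInstU.model hF (by omega) W) (WittU.amb_U hF W) L hp0 hw0 (a := q)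
    (m := μ) (ChevalleyStructure.FixedCard.card_fixed h2 hF) hf h1 (not_dvd_gcd hf h2).2.1
    (H277.ClsPsu.card_psu (n := k + 3 + 1) hF (by omega)) h3
  rw [Nat.add_sub_cancel, Finset.prod_range_succ, Finset.prod_range_succ, mul_assoc (∏ i ∈ _, _)] at key
  have h4 : ∀ g, q ^ 2 - 1 ∣ g → (q + 1) * ((q - 1) * (g / (q ^ 2 - 1))) = g := fun g hg => by
    rw [← mul_assoc, ← sq_sub, Nat.mul_div_cancel' hg]
  rcases Nat.eq_zero_or_pos k with rfl | hk
  · refine key _ (fun _ => (S2150.result q hF h2).1) ?_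
    rw [Finset.prod_range_one, if_pos Even.zero, if_neg (by decide), if_pos (by decide), mul_comm (q ^ (0 + 1 + 2) + 1),
      mul_left_comm]
    refine num_of (c := 1) (by rw [one_mul, sq_sub]; ring) ?_
    rw [mul_one]
    exact (Nat.mul_le_mul_right _ (Nat.sub_le _ _)).trans_eq (by ring)
  rcases Nat.even_or_odd k with he | ho
  · refine key _ (fun h9 => (S2152.result q hF (by omega) _ (by obtain ⟨j, rfl⟩ := he; omega)
      (by obtain ⟨j, rfl⟩ := he; exact ⟨j + 2, by ring⟩)).1) (num_of ?_ (prod_U h2 k))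
    rw [if_neg (by simpa [parity_simps] using he), if_pos (by simpa [parity_simps] using he), h4, mul_comm]
    · rfl
    · obtain ⟨j, rfl⟩ := he
      rw [show j + j + 3 + 1 = 2 * (j + 2) by ring, pow_mul]
      exact (Nat.sub_one_dvd_pow_sub_one _ _).mul_right _
  · refine key _ (fun h9 => (S2151.result q hF h2 _ (by omega)
      (by obtain ⟨j, rfl⟩ := ho; exact ⟨j + 2, by ring⟩)).1) (num_of ?_ (prod_U h2 k))
    rw [if_pos (by simpa [parity_simps] using ho), if_neg (by simpa [parity_simps] using ho), h4, mul_comm]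
    · rfl
    · obtain ⟨j, rfl⟩ := ho
      rw [show 2 * j + 1 + 3 + 1 - 1 = 2 * (j + 2) by omega, pow_mul]
      exact (Nat.sub_one_dvd_pow_sub_one _ _).mul_left _

end C

/-! ### orthogonal groups -/

section O

open Cfsg.Agent.LieClassical Cfsg.Agent.LieClassical.OrthCore Cfsg.Agent.LieClassical.OrthTrans
open Cfsg.Agent.LieClassical.OrthSimple Cfsg.Agent.LieClassical.OrthFinite Cfsg.Agent.LieClassical.OrthForms
open Cfsg.Agent.TitsThree Cfsg.Agent.TitsThree.Siegel Cfsg.Agent.TitsThree.SiegelGen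
  Cfsg.Agent.TitsThree.WittFrame Cfsg.Agent.TitsThree.WittWeyl Cfsg.Agent.TitsThree.WBridge
  Cfsg.Agent.TitsThree.KSideO
open Cfsg.Agent.Nodes.WittRoot (Amb)
open Cfsg.Agent.Nodes.TypeC Cfsg.Agent.Nodes.RGDOrth Cfsg.Agent.OddHalf.NI

variable {F : Type} [Field F] [Fintype F] [CharP F p]

theorem two_ne (hp2 : p ≠ 2) : (2 : F) ≠ 0 := fun h0 =>
  hp2 ((Nat.prime_dvd_prime_iff_eq Fact.out Nat.prime_two).1 ((CharP.cast_eq_zero_iff F p 2).1 (by exact_mod_cast h0)))

theorem rrowS_EB (hp2 : p ≠ 2) {ι : Type} [Fintype ι] [DecidableEq ι] {Q : QuadraticForm F (ι → F)} {k : ℕ}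
    {W : WFrame (KSideO.PO Q) (k + 2)} (hA : Amb (toFrame W) (E Q)) {p0 : (toFrame W).Adm} (hp0 : p0.c ≠ 0) (hG : Good Q)
    [IsSimpleGroup (POmega F Q)] (hZ : Subgroup.center (POmega F Q) = ⊥) {m d N r : ℕ}
    (hm : 9 ≤ Fintype.card F → ∀ U : Subgroup (POmega F Q), U ≠ ⊤ → m ≤ U.index) (hd : ¬ p ∣ d)
    (hS : d * Nat.card (POmega F Q) = Fintype.card F ^ N * r)
    (hn : r * Fintype.card F ^ 2 ≤ Fintype.card F ^ N * ((Fintype.card F - 1) * m)) : RRowS p (POmega F Q) := by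
  obtain ⟨f, -, hf⟩ := FiniteField.card F p
  have := H132.finite_E Q
  have : Finite (POmega F Q) := Finite.of_surjective _ (toPOmega_surjective hG)
  let cs := (CoxeterMatrix.B (k + 2)).toCoxeterSystem
  have : Finite (CoxeterMatrix.B (k + 2)).Group := finite_W cs
  have := Fintype.ofFinite (CoxeterMatrix.B (k + 2)).Group
  have C := ClsOrth.clsE hA ((Fact.out : p.Prime).odd_of_ne_two hp2) hp0 cs
  refine rrowS_cls' C hp2 (ClsOrth.genE hA hp0 (by omega) cs) hZ (toPOmega hG) (toPOmega_surjective hG)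
    (fun g hg => center_of_toPOmega hG hg) (l := fun i => if (i : ℕ) + 1 < k + 2 then 2 else 1) (fun i j => ?_)
    (fun i => by split_ifs <;> norm_num) (i := ⟨k, by omega⟩) ⟨(⟨k, by omega⟩, true), nx ⟨k, by omega⟩, ?_, ee_sr _⟩
    (fun j => by simp only [Nat.lt_add_one, if_true]; split_ifs <;> omega)
    (fun j => by simp only [Nat.lt_add_one, if_true]; split_ifs <;> omega)
    ⟨Fin.last (k + 1), by rw [A_apply]; simp [Fin.ext_iff], by simp⟩
    (fun r hr => (ChartLoc.card_Z C hp2 hr (ClsOrth.slE hA hr).some).le) hm hd (f := f) (by rw [← hf]; exact hS)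
    fun _ => by rw [← hf]; exact hn
  · have := i.2
    have := j.2
    simp only [A_apply, Fin.ext_iff]
    split_ifs <;> omega
  · simp [nx, Fin.ext_iff]

theorem rrowS_odd (hp2 : p ≠ 2) (k : ℕ) [hs : IsSimpleGroup (POmega F (quadFormOdd (k + 1 + 2) F))]
    (hZ : Subgroup.center (POmega F (quadFormOdd (k + 1 + 2) F)) = ⊥) :
    RRowS p (POmega F (quadFormOdd (k + 1 + 2) F)) := by
  have ho := H132.odd_card_of (K := F) p hp2
  have h1 := fun h9 : 9 ≤ Fintype.card F => (S2143.result rfl ho (by omega) (k + 1 + 2) (by omega)).1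
  have h2 := S0292.result rfl ho (k + 1 + 2) (by omega)
  have hG : Good (oddForm (k + 1 + 2) F) := by
    apply good_of_finite (nondeg_oddForm _ F (two_ne hp2))
    rw [Module.finrank_fintype_fun_eq_card, Fintype.card_sum, Fintype.card_sum, Fintype.card_fin, Fintype.card_unit]
    omega
  revert hs hZ h1 h2
  rw [← coe_oddForm]
  intro hs hZ h1 h2
  refine rrowS_EB hp2 (W := wodd _ F) (amb _ (two_ne hp2)) (p0 := (embOdd _ F).ngt ⟨1, -1 ^ 2, rfl⟩) ?_ hG hZ h1
    (fun h => hp2 ((Nat.prime_dvd_prime_iff_eq Fact.out Nat.prime_two).1 h)) h2 (num_S Fintype.one_lt_card)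
  change (1 : F)⁻¹ * (-1 ^ 2) ≠ 0
  simp

theorem rrowS_minus (hp2 : p ≠ 2) (k : ℕ) (a b : F)
    (hab : ∀ z₁ z₂ : F, z₁ ^ 2 + a * z₁ * z₂ + b * z₂ ^ 2 = 0 → z₁ = 0 ∧ z₂ = 0)
    [hs : IsSimpleGroup (POmega F (quadFormMinus (k + 1 + 2) F a b))]
    (hZ : Subgroup.center (POmega F (quadFormMinus (k + 1 + 2) F a b)) = ⊥) :
    RRowS p (POmega F (quadFormMinus (k + 1 + 2) F a b)) := by
  have h1 : ∀ U : Subgroup (POmega F (quadFormMinus (k + 1 + 2) F a b)), U ≠ ⊤ → _ ≤ U.index :=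
    (S2147.result rfl (k + 1 + 2 + 1) (by omega) a b hab).1
  have h2 : _ * Nat.card (POmega F (quadFormMinus (k + 1 + 2) F a b)) = _ :=
    S0294.result rfl (k + 1 + 2 + 1) (by omega) a b hab
  simp only [Nat.add_sub_cancel] at h1 h2
  have hG : Good (minusForm (k + 1 + 2) F a b) := by
    apply good_of_finite (nondeg_minusForm _ F a b hab)
    rw [Module.finrank_fintype_fun_eq_card, Fintype.card_sum, Fintype.card_sum, Fintype.card_fin, Fintype.card_fin]
    omega
  revert hs hZ h1 h2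
  rw [← coe_minusForm]
  intro hs hZ h1 h2
  rw [mul_assoc] at h2
  refine rrowS_EB hp2 (W := wminus _ F a b hab) (amb _ (two_ne hp2))
    (p0 := (embMinus _ F a b hab).ngt ⟨(1, 0), -StdData.nf a b (1, 0), rfl⟩) ?_ hG hZ (fun _ => h1)
    (not_dvd_four hp2 _) h2 ?_
  · change (1 : F)⁻¹ * (-StdData.nf a b (1, 0)) ≠ 0
    simp [StdData.nf]
  · have hq : 2 ≤ Fintype.card F := Fintype.one_lt_card
    rw [Finset.prod_range_succ, mul_comm 2, pow_mul, sq_sub, ← mul_assoc (∏ i ∈ _, _), mul_left_comm]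
    refine num_of (c := 1) (by
      rw [one_mul, Nat.mul_div_cancel' ((Nat.sub_one_dvd_pow_sub_one _ _).mul_left _)]) ?_
    rw [mul_one]
    refine (Nat.mul_le_mul_right _ (mul_le_pow' hq (prod_S _ _))).trans ?_
    rw [← pow_add]
    exact Nat.pow_le_pow_right (by omega) (by nlinarith)

theorem rrowS_plus (hp2 : p ≠ 2) (k : ℕ) [hs : IsSimpleGroup (POmega F (quadFormPlus (k + 2 + 2) F))]
    (hZ : Subgroup.center (POmega F (quadFormPlus (k + 2 + 2) F)) = ⊥) :
    RRowS p (POmega F (quadFormPlus (k + 2 + 2) F)) := by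
  obtain ⟨f, -, hf⟩ := FiniteField.card F p
  have h1 := fun h9 : 9 ≤ Fintype.card F => (S2145.result (F := F) rfl (by omega) (k + 2 + 2) (by omega)).1
  have h2 := S0293.result (F := F) rfl (k + 2 + 2) (by omega)
  have hG : Good (plusForm (k + 2 + 2) F) := by
    apply good_of_finite (nondeg_plusForm _ F)
    rw [Module.finrank_fintype_fun_eq_card, Fintype.card_sum, Fintype.card_fin]
    omega
  revert hs hZ h1 h2
  rw [← coe_plusForm]
  intro hs hZ h1 h2
  rw [mul_assoc] at h2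
  have := H132.finite_E (plusForm (k + 2 + 2) F)
  have : Finite (POmega F (plusForm (k + 2 + 2) F)) := Finite.of_surjective _ (toPOmega_surjective hG)
  let cs := (TypeD.M (k + 2)).toCoxeterSystem
  have : Finite (TypeD.M (k + 2)).Group := TypeD.finite_W cs
  have := Fintype.ofFinite (TypeD.M (k + 2)).Group
  have C := OmegaPlus.cls (wplus (k + 2 + 2) F) (two_ne hp2) ((Fact.out : p.Prime).odd_of_ne_two hp2) (wplus_adm _ F) cs
  refine rrowS_cls C hp2 (OmegaPlus.G1_eq_top _ cs (wplus_adm _ F)) hZ (toPOmega hG) (toPOmega_surjective hG)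
    (fun g hg => center_of_toPOmega hG hg) (l := fun _ => 1) (fun i j => ?_) (fun _ => one_pos) (i := 0)
    (isRoot_sr cs _ 0) (fun _ => le_rfl) (fun _ => by norm_num) (Or.inl fun _ _ => le_rfl)
    (fun r hr => (ChartLoc.card_Z C hp2 hr (OmegaPlus.sl_root _ cs r hr).some).le) h1 (not_dvd_four hp2 _) (f := f)
    (by rw [← hf]; exact h2) fun _ => ?_
  · simp only [TypeD.A_apply, eq_comm (a := i), or_comm (a := TypeD.Adj i j)]
  · have hq : 2 ≤ Fintype.card F := Fintype.one_lt_card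
    rw [← hf, show k + 2 + 2 - 1 = k + 2 + 1 from rfl, Finset.prod_range_succ, mul_comm 2, pow_mul, sq_sub,
      mul_comm (_ + 1), ← mul_assoc (∏ i ∈ _, _), mul_left_comm]
    refine num_of (c := 1) (by
      rw [one_mul, Nat.mul_div_cancel' ((Nat.sub_one_dvd_pow_sub_one _ _).mul_right _)]) ?_
    rw [mul_one]
    refine (Nat.mul_le_mul_right _ (mul_le_pow (prod_S _ _))).trans ?_
    rw [← pow_add]
    exact Nat.pow_le_pow_right (by omega) (by nlinarith)

end O

end Cfsg.Agent.KM.Mu.Lie
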