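import Cfsg.Agent.KM.Mu.LieG
import Cfsg.Agent.H62.PPTwist
import Cfsg.Agent.H132.RowTw
import Cfsg.Agent.H934.HeisTwE6

/-!
# S4576, defining characteristic: the exceptional groups (helper3)
-/

set_option autoImplicit false
set_option linter.unusedSectionVars false

namespace Cfsg.Agent.KM.Mu.Lie

open CoxeterSystem Cfsg.Agent.ChevalleyStructure.CoxeterGeom Cfsg.Agent.Tits.Roots Cfsg.Agent.Tits.Core
  Cfsg.Agent.Nodes Cfsg.Agent.Nodes.Reps Cfsg.Agent.Nodes.BNOf Cfsg.Agent.Nodes.Bruhat Cfsg.Agent.Nodes.LeviDec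
  Cfsg.Agent.Nodes.StabComb Cfsg.Agent.Nodes.RGDLib Cfsg.Agent.Nodes.Chart
open Cfsg.Lie Cfsg.Agent.ChevalleyStructure Cfsg.Agent.ChevalleyStructure.CoxeterGeomTypes
  Cfsg.Agent.ChevalleyStructure.RootVec Cfsg.Agent.KFacts.RgdChevCoord

theorem num_pow {q r ρ a m N : ℕ} (hq : 2 ≤ q) (hr : r ≤ q ^ ρ) (h : ρ + 2 * (a + 1) ≤ N + a + m) :
    r * (q ^ (a + 1)) ^ 2 ≤ q ^ N * ((q ^ (a + 1) - 1) * q ^ m) := by
  have h1 : q ^ a ≤ q ^ (a + 1) - 1 := by
    have h2 := Nat.one_le_pow a q (by omega)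
    have h3 := Nat.mul_le_mul_left (q ^ a) hq
    rw [pow_succ]
    omega
  calc _ ≤ q ^ ρ * (q ^ (a + 1)) ^ 2 := Nat.mul_le_mul_right _ hr
    _ = q ^ (ρ + 2 * (a + 1)) := by ring
    _ ≤ q ^ (N + a + m) := Nat.pow_le_pow_right (by omega) h
    _ = q ^ N * (q ^ a * q ^ m) := by ring
    _ ≤ _ := Nat.mul_le_mul_left _ (Nat.mul_le_mul_right _ h1)

theorem mul_le_pow {q x a b : ℕ} (h : x ≤ q ^ a) : x * (q ^ b - 1) ≤ q ^ (a + b) := by
  rw [pow_add]
  exact Nat.mul_le_mul h (Nat.sub_le _ _)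

theorem mul_le_pow' {q x a b : ℕ} (hq : 2 ≤ q) (h : x ≤ q ^ a) : x * (q ^ b + 1) ≤ q ^ (a + (b + 1)) := by
  have h2 := Nat.one_le_pow b q (by omega)
  have h3 := Nat.mul_le_mul_left (q ^ b) hq
  rw [pow_add, pow_succ]
  exact Nat.mul_le_mul h (by omega)

variable {p : ℕ} [Fact p.Prime]

theorem not_dvd_one : ¬ p ∣ 1 := (Fact.out : p.Prime).not_dvd_one

theorem not_dvd_gcd {q f n : ℕ} (hq : q = p ^ f) (h2 : 2 ≤ q) : ¬ p ∣ Nat.gcd n (q - 1) ∧ ¬ p ∣ Nat.gcd n (q + 1) ∧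
    ¬ p ∣ q - 1 ∧ ¬ p ∣ q + 1 := by
  have h1 : p ∣ q := hq ▸ dvd_pow_self p (by
    rintro rfl
    rw [pow_zero] at hq
    omega)
  have h3 : ¬ p ∣ q - 1 := fun h => not_dvd_one (p := p) (by
    have := Nat.dvd_sub h1 h
    rwa [Nat.sub_sub_self (by omega)] at this)
  have h4 : ¬ p ∣ q + 1 := fun h => not_dvd_one (p := p) ((Nat.dvd_add_right h1).1 h)
  exact ⟨fun h => h3 (h.trans (Nat.gcd_dvd_right _ _)), fun h => h4 (h.trans (Nat.gcd_dvd_right _ _)), h3, h4⟩

theorem exists_pow {K : Type} [Field K] [Fintype K] [CharP K p] {q k : ℕ} (hK : Fintype.card K = q ^ (k + 1)) :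
    2 ≤ q ∧ ∃ f, q = p ^ f := by
  obtain ⟨f, -, hf⟩ := FiniteField.card K p
  have h1 : q ∣ p ^ (f : ℕ) := by
    rw [← hf, hK]
    exact dvd_pow_self q (by omega)
  obtain ⟨g, -, hg⟩ := (Nat.dvd_prime_pow Fact.out).1 h1
  refine ⟨?_, g, hg⟩
  have h2 := Fintype.one_lt_card (α := K)
  rw [hK] at h2
  exact (Nat.one_lt_pow_iff (by omega)).1 h2

section V

variable {I W : Type*} {Y : Type} [Fintype I] [DecidableEq I] [Group W] [Finite W] [Group Y] [Finite Y]
  {M : CoxeterMatrix I} {cs : CoxeterSystem M W} {A : I → I → ℤ} {h : IsCartan M A} {T : Subgroup Y} {n : I → Y}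
  {X : (I → ℤ) → Subgroup Y}

theorem rrowS_V (R : RGD cs h p T n X) (hp2 : p ≠ 2) (hG : G1 cs h X = ⊤) (hZ : Subgroup.center Y = ⊥) {a m d N f r : ℕ}
    (ha : ∀ V, Cn V (RGD.Sup X (RGD.Pos cs h)) → Nat.card V ≤ a) (hm : ∀ i, m ≤ Nat.card (VJ cs h X {i}ᶜ))
    (hd : ¬ p ∣ d) (hS : d * Nat.card Y = (p ^ f) ^ N * r)
    (hn : r * a ^ 2 ≤ (p ^ f) ^ N * ((a - 1) * m)) : RRowS p Y := by
  refine rrowS_rgd R hp2 hG ha (fun _ y _ hy h1 => ?_) hd hS fun _ => hn
  obtain ⟨i, hi⟩ := (Set.ne_univ_iff_exists_notMem _).1 (JU_ne R hG hZ hy h1)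
  refine (hm i).trans ((Subgroup.card_le_of_le (H62.PPIdx.VJ_anti R ?_)).trans (H62.PPIdx.card_VJ_le_index R le_rfl))
  rintro j hj rfl
  exact hi hj

theorem card_full (R : RGD cs h p T n X) {q : ℕ} (hq : 0 < q) (hX : ∀ x, IsRoot cs h x → Nat.card (X x) = q)
    (t : Finset (I → ℤ)) (ht : ∀ x ∈ Full cs h, x ∈ t) : Nat.card (RGD.Sup X (Full cs h)) ≤ q ^ t.card := by
  classical
  have hfin : (Full cs h).Finite := (RGD.finite_roots (cs := cs) (h := h)).subset fun _ hx => hx.1.1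
  have h1 := CardSup.card_sup R (s := hfin.toFinset) (by rw [hfin.coe_toFinset]; exact fun x hx => hx.1) (by
    rw [hfin.coe_toFinset]
    intro x hx y hy z hz
    exact ⟨⟨hz.1, RGD.nonneg_of_btwn hx.1.2 hy.1.2 hz⟩, fun i => btwn_apply_pos hz (hx.2 i) (hy.1.2 i)⟩)
  rw [hfin.coe_toFinset] at h1
  rw [h1, Finset.prod_congr rfl fun x hx => hX x (hfin.mem_toFinset.1 hx).1.1, Finset.prod_const]
  exact Nat.pow_le_pow_right hq (Finset.card_le_card fun x hx => ht x (hfin.mem_toFinset.1 hx))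

end V

section Chev

open Cfsg.Agent.Nodes.RGDChev

/-- the number of roots of full support -/
def numF (D : ChevalleyDatum) (l : ℕ) : ℕ := ((List.range D.nroots).filter fun r => ∀ i : Fin l, 0 < rt D r i).length

variable {K : Type} [Field K] [Fintype K] [CharP K p]

theorem rrowS_chev {D : ChevalleyDatum} {l : ℕ} {M : CoxeterMatrix (Fin l)} (hp : IsType D l M) (hp2 : p ≠ 2)
    [IsSimpleGroup ↥(D.group K)] (hZ : Subgroup.center ↥(D.group K) = ⊥) {a m d N r ρ : ℕ} (ha : numF D l ≤ a + 1)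
    (hm : ∀ i : Fin l, m ≤ H62.PPChev.num D i) (hd : ¬ p ∣ d)
    (hS : d * Nat.card ↥(D.group K) = Fintype.card K ^ N * r) (hr : r ≤ Fintype.card K ^ ρ)
    (h : ρ + 2 * (a + 1) ≤ N + a + m) : RRowS p ↥(D.group K) := by
  classical
  have hW : Finite M.Group := finite_W hp M.toCoxeterSystem
  have R := rgd (K := K) hp M.toCoxeterSystem p
  obtain ⟨f, -, hf⟩ := FiniteField.card K p
  refine rrowS_full R hp2 (G1_eq_top hp _) hZ (a := Fintype.card K ^ (a + 1)) ((card_full R Fintype.card_pos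
    (fun x hx => H62.PPChev.card_X hp _ hx)
    ((((List.range D.nroots).filter fun r => ∀ i : Fin l, 0 < rt D r i).map (vec D l)).toFinset) fun x hx => ?_).trans
    (Nat.pow_le_pow_right Fintype.card_pos ((List.toFinset_card_le _).trans (by rwa [List.length_map]))))
    (fun i => H62.PPChev.pow_le_card_VJ hp _ p i (hm i)) hd (hf ▸ hS) fun _ => hf ▸ num_pow Fintype.one_lt_card hr h
  obtain ⟨s, hs, rfl⟩ := (isRoot_iff hp _ x).1 hx.1.1
  exact List.mem_toFinset.2 (List.mem_map.2 ⟨s, List.mem_filter.2 ⟨List.mem_range.2 hs, decide_eq_true hx.2⟩, rfl⟩)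

theorem rrowS_F4 (hp2 : p ≠ 2) [IsSimpleGroup ↥(chevF4.group K)] : RRowS p ↥(chevF4.group K) :=
  rrowS_chev KindF.isType hp2 (ChevChart.center_of_mem (by simp)) (a := 9) (m := 15) (N := 24) (by decide +kernel)
    (by decide +kernel) not_dvd_one (by
      rw [one_mul, S1062.result (F := K) rfl]
      simp only [mul_assoc (Fintype.card K ^ 24)]
      rfl) (mul_le_pow (mul_le_pow (mul_le_pow (Nat.sub_le _ _)))) (by norm_num)

theorem rrowS_E6 (hp2 : p ≠ 2) [IsSimpleGroup ↥(chevE6.group K)] : RRowS p ↥(chevE6.group K) := by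
  obtain ⟨f, -, hf⟩ := FiniteField.card K p
  exact rrowS_chev KindE.isType6 hp2 (ChevChart.center_of_mem (by simp)) (a := 6) (m := 16) (N := 36) (by decide +kernel)
    (by decide +kernel) (not_dvd_gcd hf Fintype.one_lt_card).1 (by
      rw [S1063.result (F := K) rfl]
      simp only [mul_assoc (Fintype.card K ^ 36)]
      rfl) (mul_le_pow (mul_le_pow (mul_le_pow (mul_le_pow (mul_le_pow (Nat.sub_le _ _)))))) (by norm_num)

theorem rrowS_E7 (hp2 : p ≠ 2) [IsSimpleGroup ↥(chevE7.group K)] : RRowS p ↥(chevE7.group K) := by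
  obtain ⟨f, -, hf⟩ := FiniteField.card K p
  exact rrowS_chev KindE.isType7 hp2 (ChevChart.center_of_mem (by simp)) (a := 15) (m := 27) (N := 63) (by decide +kernel)
    (by decide +kernel) (not_dvd_gcd hf Fintype.one_lt_card).1 (by
      rw [S1064.result (F := K) rfl]
      simp only [mul_assoc (Fintype.card K ^ 63)]
      rfl) (mul_le_pow (mul_le_pow (mul_le_pow (mul_le_pow (mul_le_pow (mul_le_pow (Nat.sub_le _ _))))))) (by norm_num)

theorem rrowS_E8 (hp2 : p ≠ 2) [IsSimpleGroup ↥(chevE8.group K)] : RRowS p ↥(chevE8.group K) :=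
  rrowS_chev KindE.isType8 hp2 (ChevChart.center_of_mem (by simp)) (a := 43) (m := 57) (N := 120) (by decide +kernel)
    (by decide +kernel) not_dvd_one (by
      rw [one_mul, S1065.result (F := K) rfl]
      simp only [mul_assoc (Fintype.card K ^ 120)]
      rfl) (mul_le_pow (mul_le_pow (mul_le_pow (mul_le_pow (mul_le_pow (mul_le_pow (mul_le_pow (Nat.sub_le _ _))))))))
    (by norm_num)

open Cfsg.Agent.Cit.TypeDet.KindsEF Cfsg.Agent.Nodes.ChevChart in
set_option backward.isDefEq.respectTransparency false in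
theorem rrowS_G2 (hp2 : p ≠ 2) [IsSimpleGroup ↥(chevG2.group K)] : RRowS p ↥(chevG2.group K) := by
  let _ := ChevChart.fintypeW isTypeG
  have hZ := center_G2 (K := K) hp2
  have C := ChevCls.cls (K := K) isTypeG CoxeterMatrix.G₂.toCoxeterSystem p kdG 0 dG' longG hZ
  obtain ⟨f, -, hf⟩ := FiniteField.card K p
  refine rrowS_V C.rgd hp2 (G1_eq_top isTypeG _) hZ (a := Fintype.card K ^ (1 + 1)) (N := 6) (fun V hV => ?_)
    (fun i => H62.PPChev.pow_le_card_VJ isTypeG _ p i (m := 5) (by revert i; decide +kernel)) not_dvd_one (by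
      rw [one_mul, S1059.result (F := K) rfl, hf, mul_assoc]) (by
      rw [← hf]
      exact num_pow Fintype.one_lt_card (mul_le_pow (Nat.sub_le _ _)) (by norm_num))
  refine (card_g2 C hp2 (l := 1) (s := 0) ⟨by decide, by decide, by decide +kernel, by decide +kernel⟩
    ⟨isRoot_sr _ _ _, ?_⟩ (G1_eq_top isTypeG _) hZ hV).trans_eq ?_
  · have h1 := KindChev.qf_root CoxeterMatrix.G₂.toCoxeterSystem isTypeG.isCartan kdG.hd 1 1
    rw [map_one, Module.End.one_apply] at h1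
    exact h1
  · rw [H62.PPChev.card_X isTypeG _ (isRoot_sr CoxeterMatrix.G₂.toCoxeterSystem _ _),
      H62.PPChev.card_X isTypeG _ (isRoot_sr CoxeterMatrix.G₂.toCoxeterSystem _ _), pow_two]

end Chev

section Tw

open Cfsg.Agent.Nodes.RGDTwNode Cfsg.Agent.H62.PPTwist

variable {K : Type} [Field K] [Fintype K] [CharP K p] {q : ℕ}

theorem rrowS_D4 (hp2 : p ≠ 2) (hq : IsPrimePow q) (hK : Fintype.card K = q ^ 3) : RRowS p ↥(twistedD4 K q) := by
  obtain ⟨φ, hφ⟩ := D4Fixed.exists_frob hq hK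
  have hle := D4Fixed.twisted_le_fix hK hφ
  have hs := S1071.result hq hK
  have := hs.1
  have hZ := center_bot _ hs.2
  let cs := CoxeterMatrix.G₂.toCoxeterSystem
  have hW : Finite CoxeterMatrix.G₂.Group := RGDFold.finite_W (hp := RGDTwD4.hp) cs RGDTwD4.isCartan RGDTwD4.foldData
  have := Fintype.ofFinite CoxeterMatrix.G₂.Group
  have C := H132.cls_fold RGDTwD4.hp cs RGDTwD4.isCartan RGDTwD4.foldData (RGDTwD4.foldGrp hφ hle) (D4.nodeOK 0)
    (fun s hs t => by rw [D4.eps_one 0 s hs, Int.cast_one, one_mul]) H132.longNodeD4 p hZ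
  have R := RGDTwD4.rgd cs hK hφ p
  have c0 := ClosedExc.TwD4.card_X0 hφ hle hq.two_le hK
  have c1 := ClosedExc.TwD4.card_X1 (K := K) hφ hle
  rw [hK] at c1
  have hcV := fun i => card_VJ R D4.posRoots (by decide +kernel) (q := q) D4.w (by decide +kernel)
    (by
      intro i
      fin_cases i
      · exact c0.trans (pow_one q).symm
      · exact c1) i
  obtain ⟨h2, f, hf⟩ := exists_pow (p := p) hK
  refine rrowS_V R hp2 (RGDTwD4.G1_eq_top cs hK hφ) hZ (a := q ^ (3 + 1)) (m := q ^ 9) (N := 12) (f := f) (fun V hV => ?_)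
    (fun i => ?_) not_dvd_one (by rw [one_mul, S1067.result hq hK, ← hf, mul_assoc, mul_assoc]) (by
      rw [← hf]
      refine num_pow h2 (ρ := 10 + 6) ?_ (by norm_num)
      rw [mul_left_comm, mul_comm]
      refine mul_le_pow ?_
      obtain ⟨x, hx⟩ : ∃ x, q ^ 2 = x + 1 := ⟨q ^ 2 - 1, by have := Nat.one_le_pow 2 q (by omega); omega⟩
      rw [show q ^ 10 = (q ^ 2) ^ 5 by ring, show q ^ 8 = (q ^ 2) ^ 4 by ring, show q ^ 4 = (q ^ 2) ^ 2 by ring, hx,
        Nat.add_sub_cancel]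
      ring_nf
      omega)
  · refine (card_g2 C hp2 (l := 0) (s := 1) ⟨by decide, by decide, by decide, by decide⟩
      ⟨1, by rw [map_one, Module.End.one_apply]⟩ (RGDTwD4.G1_eq_top cs hK hφ) hZ hV).trans_eq ?_
    exact (congrArg₂ (· * ·) c0 c1).trans (by ring)
  · rw [hcV i]
    exact Nat.pow_le_pow_right (by omega)
      ((by decide +kernel : ∀ i : Fin 2, 9 ≤ ((D4.LG.filter fun v => 0 < v i).map D4.w).sum) i)

theorem rrowS_TE6 (hp2 : p ≠ 2) (hq : IsPrimePow q) (hK : Fintype.card K = q ^ 2) : RRowS p ↥(twistedE6 K q) := by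
  obtain ⟨φ, hφ, hqq⟩ := TwE6Basic.exists_frob hq hK
  have hs := S1070.result hq hK
  have := hs.1
  have hZ := center_bot _ hs.2
  let cs := CoxeterMatrix.F₄.toCoxeterSystem
  have hW : Finite CoxeterMatrix.F₄.Group := RGDFold.finite_W (hp := RGDTwE6.hp) cs RGDTwE6.isCartan RGDTwE6.foldData
  have := Fintype.ofFinite CoxeterMatrix.F₄.Group
  have C := H132.cls_fold RGDTwE6.hp cs RGDTwE6.isCartan RGDTwE6.foldData (RGDTwE6.foldGrp hφ hqq) (E6.nodeOK 0)
    (fun s hs t => by rw [E6.eps_one 0 s hs, Int.cast_one, one_mul]) H132.longNodeE6 p hZ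
  obtain ⟨h2, f, hf⟩ := exists_pow (p := p) hK
  refine rrowS_cls C hp2 (RGDTwE6.G1_eq_top cs hφ hqq) hZ (MonoidHom.id _) Function.surjective_id
    (by rw [MonoidHom.ker_id]; exact bot_le) (l := ![2, 2, 1, 1]) (by decide) (by decide) (i := 0)
    ⟨1, by rw [map_one, Module.End.one_apply]⟩ (by decide) (by decide) (Or.inl fun _ _ => le_rfl) (a := q ^ (0 + 1))
    (m := q ^ 11) (N := 36) (f := f) ?_ (fun _ H hH => ?_) (not_dvd_gcd hf h2).2.1 (by
      rw [S1066.result hq hK, ← hf]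
      simp only [mul_assoc (q ^ 36)]
      rfl) fun _ => by
      rw [← hf]
      exact num_pow h2 (mul_le_pow (mul_le_pow' h2 (mul_le_pow (mul_le_pow (mul_le_pow' h2 (Nat.sub_le _ _))))))
        (by norm_num)
  · rintro r ⟨w, rfl⟩
    rw [CardSup.card_X_rep C.rgd w (isRoot_sr _ _ _)]
    exact (GpExc.TwCard.card_simple hφ hqq hq.one_lt hK 0).le
  · refine (Nat.pow_le_pow_iff_left two_ne_zero).1 ?_
    rw [← pow_mul]
    exact H934.HeisTwE6.bound_2E6 hq hK hs.1 H hH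

end Tw

end Cfsg.Agent.KM.Mu.Lie
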