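import Cfsg.Agent.KM.Mu.LieB
import Cfsg.Agent.UGT.U2.FOne.HexIdx

/-!
# S4576, defining characteristic: the centre of `U` in type `G₂` (helper3)
-/

set_option autoImplicit false
set_option linter.unusedSectionVars false

namespace Cfsg.Agent.KM.Mu.Lie

open CoxeterSystem Cfsg.Agent.ChevalleyStructure.CoxeterGeom Cfsg.Agent.Tits.Roots Cfsg.Agent.Tits.Core
  Cfsg.Agent.Nodes Cfsg.Agent.Nodes.Reps Cfsg.Agent.Nodes.BNOf Cfsg.Agent.Nodes.Bruhat Cfsg.Agent.Nodes.LeviDec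
  Cfsg.Agent.Nodes.StabComb Cfsg.Agent.Nodes.RGDLib Cfsg.Agent.Nodes.Chart Cfsg.Agent.UGT.U2.FOne.Hexa

variable {I W : Type*} {Y : Type} [Fintype I] [DecidableEq I] [Group W] [Fintype W] [Group Y] [Finite Y]
  {M : CoxeterMatrix I} {cs : CoxeterSystem M W} {A : I → I → ℤ} {h : IsCartan M A} {p : ℕ} [Fact p.Prime]
  {T : Subgroup Y} {n : I → Y} {X : (I → ℤ) → Subgroup Y} {R : Set (I → ℤ)} {z : (I → ℤ) → Y} {l s : I}

/-- the form in coordinates -/
def fm (k j : ZMod (2 * 6)) : ℤ :=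
  6 * (tab k).1 * (tab j).1 - 3 * ((tab k).1 * (tab j).2 + (tab k).2 * (tab j).1) + 2 * (tab k).2 * (tab j).2

theorem form_r (H : TyG A l s) (k j : ZMod (2 * 6)) :
    2 * form cs h (r l s k) (r l s j) = fm k j * form cs h (sr s) (sr s) := by
  have h1 := OrthRoot.two_form_sr cs h l s
  have h2 := OrthRoot.two_form_sr cs h s l
  have h3 := form_comm cs h (sr s) (sr l)
  rw [H.als] at h1
  rw [H.asl] at h2
  unfold r rv fm
  simp only [form_add_left, form_add_right, form_smul_left, form_smul_right]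
  linear_combination (2 * (tab k).1 * (tab j).1) * h1 + ((tab k).1 * (tab j).2 + (tab k).2 * (tab j).1 -
    2 * (tab k).1 * (tab j).1) * h2 + (2 * (tab k).2 * (tab j).1 - 4 * (tab k).1 * (tab j).1) * h3

theorem form_neg_of (H : TyG A l s) {k j : ZMod (2 * 6)} (h0 : fm k j < 0) : form cs h (r l s k) (r l s j) < 0 := by
  have h1 := form_r (cs := cs) (h := h) H k j
  have h2 := mul_neg_of_neg_of_pos h0 (form_pos cs h (sr_ne_zero s))
  omega

theorem form_nonneg_of (H : TyG A l s) {k j : ZMod (2 * 6)} (h0 : 0 ≤ fm k j) : 0 ≤ form cs h (r l s k) (r l s j) := by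
  have h1 := form_r (cs := cs) (h := h) H k j
  have h2 := mul_nonneg h0 (form_pos cs h (sr_ne_zero s)).le
  omega

/-- the positive roots above a slope -/
def Sl (cs : CoxeterSystem M W) (h : IsCartan M A) (l s : I) (a b : ℤ) : Set (I → ℤ) :=
  {x | x ∈ RGD.Pos cs h ∧ 0 < x l ∧ b * x l < a * x s}

theorem closed_Sl (a b : ℤ) : Unique.Closed cs h (Sl cs h l s a b) := by
  intro x hx y hy w hw
  refine ⟨⟨hw.1, RGD.nonneg_of_btwn hx.1.2 hy.1.2 hw⟩, btwn_apply_pos hw hx.2.1 hy.2.1.le, ?_⟩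
  obtain ⟨-, m, c, d, hm, hc, hd, e⟩ := hw
  have h1 := congrFun e l
  have h2 := congrFun e s
  simp only [Pi.add_apply, Pi.smul_apply, smul_eq_mul] at h1 h2
  have h3 := mul_pos hc (sub_pos.2 hx.2.2)
  have h4 := mul_pos hd (sub_pos.2 hy.2.2)
  have h5 : m * (a * w s - b * w l) = c * (a * x s - b * x l) + d * (a * y s - b * y l) := by
    linear_combination a * h2 - b * h1
  exact sub_pos.1 ((mul_pos_iff_of_pos_left hm).1 (h5 ▸ add_pos h3 h4))

theorem peel (Rd : RGD cs h p T n X) (H : TyG A l s) {a b a' b' : ℤ} (k : ZMod (2 * 6))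
    (h1 : 0 ≤ (tab k).2 ∧ 0 < (tab k).1 ∧ b * (tab k).1 < a * (tab k).2)
    (h2 : ∀ j, 0 < (tab j).1 → b * (tab j).1 < a * (tab j).2 → j ≠ k → b' * (tab j).1 < a' * (tab j).2) {g : Y}
    (hg : g ∈ RGD.Sup X (Sl cs h l s a b)) :
    ∃ u ∈ X (r l s k), ∃ v ∈ RGD.Sup X (Sl cs h l s a' b'), g = u * v := by
  have el : ∀ j, r l s j l = (tab j).1 := fun j => rv_l H _
  have es : ∀ j, r l s j s = (tab j).2 := fun j => rv_s H _
  have h3 : r l s k ∈ Sl cs h l s a b := by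
    refine ⟨⟨isRoot_r H k, fun i => ?_⟩, by rw [el]; exact h1.2.1, by rw [el, es]; exact h1.2.2⟩
    rcases H.all i with rfl | rfl
    · rw [el]; exact h1.2.1.le
    · rw [es]; exact h1.1
  obtain ⟨u, hu, v, hv, e⟩ := (Unique.mem_peel Rd (fun x hx => hx.1) (closed_Sl a b) h3).1 hg
  refine ⟨u, hu, v, RGD.Sup_mono ?_ hv, e⟩
  rintro x ⟨hx, hne⟩
  obtain ⟨j, rfl⟩ := (isRoot_iff H).1 hx.1.1
  refine ⟨hx.1, hx.2.1, ?_⟩
  have h4 := hx.2.1
  have h5 := hx.2.2
  rw [el] at h4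
  rw [el, es] at h5 ⊢
  exact h2 j h4 h5 fun e => hne (congrArg (r l s) e)

/-- **the centre of `U` in type `G₂`** -/
theorem card_g2 [IsSimpleGroup Y] (C : Cls cs h p T n X R X z) (hp2 : p ≠ 2) (H : TyG A l s) (hl : sr l ∈ R)
    (hG : G1 cs h X = ⊤) (hZ : Subgroup.center Y = ⊥) {V : Subgroup Y} (hV : Cn V (RGD.Sup X (RGD.Pos cs h))) :
    Nat.card V ≤ Nat.card (X (sr l)) * Nat.card (X (sr s)) := by
  have Rd := C.rgd
  set U := RGD.Sup X (RGD.Pos cs h) with hU
  have el : ∀ j, r l s j l = (tab j).1 := fun j => rv_l H _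
  have es : ∀ j, r l s j s = (tab j).2 := fun j => rv_s H _
  have m6 : r l s 6 ∈ R := r_six (l := l) (s := s) ▸ hl
  have m2 : r l s 2 ∈ R := by
    have := C.act _ m6 (cs.simple s)
    rwa [rep_s H] at this
  have m4 : r l s 4 ∈ R := by
    have := C.act _ m2 (cs.simple l)
    rwa [rep_l H] at this
  have m0 : r l s (6 + 6) ∈ R := r_neg (l := l) (s := s) 6 ▸ ClsMap.neg_mem C m6
  have cm : ∀ j k, r l s j ∈ R → 0 ≤ fm k j → ∀ a ∈ X (r l s k), ∀ b ∈ X (r l s j), a * b = b * a :=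
    fun j k hj h0 => C.cent _ hj _ (isRoot_r H k) (form_nonneg_of H h0)
  have hXU : ∀ k, 0 ≤ (tab k).1 → 0 ≤ (tab k).2 → X (r l s k) ≤ U := fun k h1 h2 =>
    RGD.le_Sup (S := RGD.Pos cs h) ⟨isRoot_r H k, fun i => by
      rcases H.all i with rfl | rfl
      · rw [el]; exact h1
      · rw [es]; exact h2⟩
  have ht : ∀ t ∈ X (r l s 4), ∀ u ∈ U, Commute t u := fun t ht u hu => by
    refine (Subgroup.mem_centralizer_singleton_iff.1 ((RGD.Sup_le (K := Subgroup.centralizer {t}) fun x hx a ha => ?_) hu)).symm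
    obtain ⟨j, rfl⟩ := (isRoot_iff H).1 hx.1
    have h1 := hx.2 l
    have h2 := hx.2 s
    rw [el] at h1
    rw [es] at h2
    exact Subgroup.mem_centralizer_singleton_iff.2 (cm 4 j m4
      ((by decide : ∀ j, 0 ≤ (tab j).1 → 0 ≤ (tab j).2 → 0 ≤ fm j 4) j h1 h2) a ha t ht)
  have key : ∀ c ∈ V, ∃ x : X (r l s 4) × X (r l s 3), c = x.1 * x.2 := by
    intro c hc
    have hcU : ∀ u ∈ U, Commute c u := hV.2 c hc
    have h1 : c ∈ RGD.Sup X (Sl cs h l s 1 0) := by
      refine RGD.Sup_mono (fun x hx => ?_) (mem_full Rd hG hZ (hV.1 hc) (hV.2 c hc))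
      exact ⟨hx.1, hx.2 l, by rw [zero_mul, one_mul]; exact hx.2 s⟩
    obtain ⟨b, hb, c1, h2, e1⟩ := peel Rd H (a' := 1) (b' := 1) 5 (by decide) (by decide) h1
    obtain ⟨t, ht', c2, h3, e2⟩ := peel Rd H (a' := 2) (b' := 3) 4 (by decide) (by decide) h2
    obtain ⟨d, hd, c3, h4, e3⟩ := peel Rd H (a' := 1) (b' := 2) 3 (by decide) (by decide) h3
    have h5 : c3 ∈ X (r l s 2) := by
      refine RGD.Sup_le (fun x hx => ?_) h4
      obtain ⟨j, rfl⟩ := (isRoot_iff H).1 hx.1.1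
      have h6 := hx.2.1
      have h7 := hx.2.2
      rw [el] at h6
      rw [el, es] at h7
      rw [(by decide : ∀ j, 0 < (tab j).1 → 2 * (tab j).1 < 1 * (tab j).2 → j = 2) j h6 h7]
    have h6 : c3 = 1 := by
      refine nd Rd (isRoot_r H 6) (isRoot_r H 2) (form_neg_of H (by decide)) h5 fun a ha => ?_
      have e : c3 = d⁻¹ * t⁻¹ * b⁻¹ * c := by rw [e1, e2, e3]; group
      have q1 : Commute d a := cm 6 3 m6 (by decide) d hd a ha
      have q2 : Commute t a := cm 6 4 m6 (by decide) t ht' a ha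
      have q3 : Commute b a := cm 6 5 m6 (by decide) b hb a ha
      rw [e]
      exact ((q1.inv_left.mul_left q2.inv_left).mul_left q3.inv_left).mul_left (hcU a (hXU 6 (by decide) (by decide) ha))
    have hbU := hXU 5 (by decide) (by decide) hb
    have h7 : ∀ u ∈ U, Commute (b * d) u := fun u hu => by
      have e : b * d = t⁻¹ * c := by
        rw [e1, e2, e3, h6, mul_one, ← mul_assoc b, ← (ht t ht' b hbU).eq]
        group
      rw [e]
      exact (ht t ht' u hu).inv_left.mul_left (hcU u hu)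
    have hz2 := C.z_sq _ m6
    have hzi : (z (r l s 6))⁻¹ = z (r l s 6) := inv_eq_of_mul_eq_one_left hz2
    have h8 : z (r l s 6) * b * z (r l s 6) = b⁻¹ := by
      refine C.z_inv _ m6 _ (isRoot_r H 5) (fun e => absurd (r_inj H e) (by decide))
        (fun e => absurd (r_inj H (e.trans (r_neg 6).symm)) (by decide)) (fun e => ?_) b hb
      have h9 := form_r (cs := cs) (h := h) H 5 6
      rw [e, show fm 5 6 = 3 by decide] at h9
      have := form_pos cs h (sr_ne_zero s)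
      omega
    have h9 : Commute (z (r l s 6)) d := by
      refine Subgroup.mem_centralizer_singleton_iff.1 ((sup_le (fun a ha => ?_) fun a ha => ?_ :
        _ ≤ Subgroup.centralizer {d}) (C.z_mem _ m6)) <;> rw [Subgroup.mem_centralizer_singleton_iff]
      · exact (cm 6 3 m6 (by decide) d hd a ha).symm
      · exact (cm (6 + 6) 3 m0 (by decide) d hd a (r_neg (l := l) (s := s) 6 ▸ ha)).symm
    have h10 : ∀ u ∈ U, Commute (b⁻¹ * d) u := fun u hu => by
      have hu' : z (r l s 6) * u * (z (r l s 6))⁻¹ ∈ U :=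
        (Subgroup.mem_normalizer_iff.1 (Rd.T_le_normalizer_U (C.z_torus _ m6)) u).1 hu
      have q := (h7 _ hu').conj (z (r l s 6))⁻¹
      have e4 : (z (r l s 6))⁻¹ * (b * d) * (z (r l s 6))⁻¹⁻¹ = b⁻¹ * d := by
        rw [inv_inv, ← h8, mul_assoc, mul_assoc, ← h9.eq, hzi]
        simp only [mul_assoc]
      have e5 : (z (r l s 6))⁻¹ * (z (r l s 6) * u * (z (r l s 6))⁻¹) * (z (r l s 6))⁻¹⁻¹ = u := by group
      rwa [e4, e5] at q
    have h11 : b * b = 1 := by
      refine nd Rd (isRoot_r H 1) (isRoot_r H 5) (form_neg_of H (by decide)) (mul_mem hb hb) fun a ha => ?_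
      have hu := hXU 1 (by decide) (by decide) ha
      have e : b * b = (b * d) * (b⁻¹ * d)⁻¹ := by group
      rw [e]
      exact (h7 a hu).mul_left (h10 a hu).inv_left
    have h12 : b = 1 := Subgroup.mem_bot.1 (ChartLoc.mem_of_odd_sq C hp2
      (ChartLoc.odd_of_mem_X C hp2 (isRoot_r H 5) hb) (Subgroup.mem_bot.2 h11))
    exact ⟨(⟨t, ht'⟩, ⟨d, hd⟩), by rw [e1, e2, e3, h6, h12, mul_one, one_mul]⟩
  choose f hf using key
  have c4 : Nat.card (X (r l s 4)) = Nat.card (X (sr l)) := by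
    rw [← r_six (l := l) (s := s), ← CardSup.card_X_rep Rd (cs.simple s) (isRoot_r H 6), rep_s H,
      ← CardSup.card_X_rep Rd (cs.simple l) (isRoot_r H (8 - 6)), rep_l H]
    rfl
  have c3 : Nat.card (X (r l s 3)) = Nat.card (X (sr s)) := by
    rw [← r_one (l := l) (s := s), ← CardSup.card_X_rep Rd (cs.simple l) (isRoot_r H 1), rep_l H,
      ← CardSup.card_X_rep Rd (cs.simple s) (isRoot_r H (6 - 1)), rep_s H]
    rfl
  rw [← c4, ← c3, ← Nat.card_prod]
  refine Nat.card_le_card_of_injective (fun c : V => f c c.2) fun c c' e => Subtype.ext ?_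
  rw [hf c c.2, hf c' c'.2]
  exact congrArg (fun x : X (r l s 4) × X (r l s 3) => (x.1 : Y) * x.2) e

end Cfsg.Agent.KM.Mu.Lie
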