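import Cfsg.Agent.KM.Mu.C

/-!
# S4576, reduction to quasisimple groups (Murai) (helper3)

* `rcp_of : KMp p → RQp p → RCp p` (any universes);
* `s4576_of` : the statement S4576 from `KMp p` and `RQp p`.
-/

set_option autoImplicit false
set_option linter.style.haveILetI false
set_option linter.unusedSectionVars false

open Cfsg
open scoped Pointwise

namespace Cfsg.Agent.KM.Mu

open Cfsg.Agent Cfsg.Agent.Characters.Core Cfsg.Agent.Blocks Cfsg.Agent.TID.Red Cfsg.Agent.KM.BK
open Cfsg.Agent.H591.Reynolds (IsStab)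
open Cfsg.Agent.SignalizersComponents.Components

universe u v w

variable {p : ℕ} [Fact p.Prime] {M : Ideal AlgInt} {G : Type u} [Group G] [Finite G]
  {B : Set (IrrCharacter G)} {D W : Subgroup G}

theorem fac_sup {K C : Subgroup G} (h : C ≤ Subgroup.centralizer (K : Set G)) :
    (Nat.card (K ⊔ C : Subgroup G)).factorization p + (Nat.card (K ⊓ C : Subgroup G)).factorization p =
      (Nat.card K).factorization p + (Nat.card C).factorization p := by
  have h1 := Lib.ProductSet.card_mul_card_inf K C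
  rw [← Subgroup.coe_mul_of_right_le_normalizer_left K C (h.trans (Subgroup.centralizer_le_normalizer _))] at h1
  have h2 : Nat.card K * Nat.card C ≠ 0 := mul_ne_zero Nat.card_pos.ne' Nat.card_pos.ne'
  exact (fac_mul h1 h2).trans (fac_mul rfl h2).symm

theorem split {K C : Subgroup G} (hC : C ≤ Subgroup.centralizer (K : Set G)) (h : K ⊔ C = ⊤) {χ : IrrCharacter G}
    (hχ : χ ∈ B) : ∃ φ ∈ cov B K, ∃ ψ ∈ cov B C,
      df p χ + (Nat.card (K ⊓ C : Subgroup G)).factorization p = df p φ + df p ψ := by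
  letI := Fintype.ofFinite K
  letI := Fintype.ofFinite C
  let m : K × C →* G := K.subtype.noncommCoprod C.subtype fun k c =>
    Subgroup.mem_centralizer_iff.1 (hC c.2) k k.2
  have hm : Function.Surjective m := by
    intro g
    obtain ⟨k, hk, c, hc, rfl⟩ := exists_mul_of_le_centralizer hC (h ▸ Subgroup.mem_top g)
    exact ⟨(⟨k, hk⟩, ⟨c, hc⟩), rfl⟩
  obtain ⟨φ, ψ, hφ, hψ, h1⟩ := (S0188.result _).1 (isIrr_comp m hm χ.2)
  have h2 : ∀ (k : K) (c : C), (χ : G → ℂ) (k * c) = φ k * ψ c := fun k c => congrFun h1 (k, c)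
  refine ⟨⟨φ, hφ⟩, ⟨χ, hχ, ?_⟩, ⟨ψ, hψ⟩, ⟨χ, hχ, ?_⟩, ?_⟩
  · rw [ov_subtype_iff]
    have h3 : (fun n : K => (χ : G → ℂ) n) = ψ 1 • φ := by
      funext k
      have h4 := h2 k 1
      rw [Subgroup.coe_one, mul_one] at h4
      rw [h4, Pi.smul_apply, smul_eq_mul, mul_comm]
    rw [h3, classInner_smul_left, classInner_irr_self hφ, mul_one]
    exact isIrr_apply_one_ne_zero hψ
  · rw [ov_subtype_iff]
    have h3 : (fun n : C => (χ : G → ℂ) n) = φ 1 • ψ := by
      funext c
      have h4 := h2 1 c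
      rw [Subgroup.coe_one, one_mul] at h4
      rw [h4, Pi.smul_apply, smul_eq_mul]
    rw [h3, classInner_smul_left, classInner_irr_self hψ, mul_one]
    exact isIrr_apply_one_ne_zero hφ
  · have h3 := h2 1 1
    rw [Subgroup.coe_one, Subgroup.coe_one, mul_one, Basic.irr_one_eq_charDegree χ.2,
      Basic.irr_one_eq_charDegree hφ, Basic.irr_one_eq_charDegree hψ] at h3
    have h4 : charDegree φ * charDegree ψ = charDegree (χ : G → ℂ) := by exact_mod_cast h3.symm
    have h5 := fac_mul (p := p) h4 (Basic.charDegree_pos χ.2).ne'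
    have h6 := fac_sup (p := p) hC
    rw [h, Subgroup.card_top] at h6
    have h7 := df_add (p := p) χ
    have h8 := df_add (p := p) (⟨φ, hφ⟩ : IrrCharacter K)
    have h9 := df_add (p := p) (⟨ψ, hψ⟩ : IrrCharacter C)
    change nu p (⟨φ, hφ⟩ : IrrCharacter K) + nu p (⟨ψ, hψ⟩ : IrrCharacter C) = nu p χ at h5
    omega

/-- **Central products.** -/
theorem prod (hM : IsPModular p M) (hB : IsPBlock M B) (hD : IsDefectGroup p M B D) {K C : Subgroup G} [K.Normal]
    [C.Normal] (hC : C ≤ Subgroup.centralizer (K : Set G)) (h : K ⊔ C = ⊤) (cK : IsPBlock M (cov B K))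
    (cC : IsPBlock M (cov B C)) (kK : PP p M K) (kC : PP p M C) (iK : RW p M K) (iC : RW p M C)
    {χ : IrrCharacter G} (hχ : χ ∈ B) (hW : Cn W D) (hmax : ∀ x ∈ D, (∀ d ∈ D, x * d = d * x) → x ∈ W)
    (hne : W ≠ D) : (Nat.card W).factorization p < df p χ := by
  have hDp := H592.Defect.isPGroup_of_isDefectGroup hD
  have dK := defect_cov hM hB hD cK
  have dC := defect_cov hM hB hD cC
  have hcc : ∀ k ∈ K, ∀ c ∈ C, k * c = c * k := fun k hk c hc => Subgroup.mem_centralizer_iff.1 (hC hc) k hk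
  have hA : ∀ A : Subgroup G, A ⊓ C ≤ Subgroup.centralizer ((A ⊓ K : Subgroup G) : Set G) := fun A c hc =>
    Subgroup.mem_centralizer_iff.2 fun k hk => hcc k hk.2 c hc.2
  have h1 : D ⊓ K ⊔ D ⊓ C = D := by
    refine H592.Defect.eq_of_le_of_factorization p (hDp.to_le (sup_le inf_le_left inf_le_left)) hDp
      (sup_le inf_le_left inf_le_left) ?_
    obtain ⟨χ₀, h₀, -, h2⟩ := H592.Defect.exists_height_zero p hM hB
    rw [← H592.Defect.factorization_card_defect p hM hB hD] at h2
    change _ = df p χ₀ at h2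
    obtain ⟨φ, hφ, ψ, hψ, h3⟩ := split (p := p) hC h h₀
    have h4 := df_le hM cK dK hφ
    have h5 := df_le hM cC dC hψ
    rw [card_sub inf_le_right] at h4 h5
    have h6 := fac_sup (p := p) (hA D)
    have h7 := fac_mono (p := p) (inf_le_inf inf_le_right inf_le_right : D ⊓ K ⊓ (D ⊓ C) ≤ K ⊓ C)
    omega
  have h2 : W ⊓ K ⊔ W ⊓ C = W := by
    refine le_antisymm (sup_le inf_le_left inf_le_left) fun z hz => ?_
    obtain ⟨k, hk, c, hc, rfl⟩ := exists_mul_of_le_centralizer (hA D) (h1.ge (hW.1 hz))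
    have h3 : k ∈ W := hmax k hk.1 fun d hd => by
      obtain ⟨k', hk', c', hc', rfl⟩ := exists_mul_of_le_centralizer (hA D) (h1.ge hd)
      have h4 := hW.2 _ hz k' hk'.1
      rw [mul_assoc, ← hcc k' hk'.2 c hc.2, ← mul_assoc, ← mul_assoc, mul_left_inj] at h4
      rw [← mul_assoc, h4, mul_assoc, hcc k hk.2 c' hc'.2, mul_assoc]
    exact Subgroup.mul_mem_sup ⟨h3, hk.2⟩ ⟨(W.mul_mem_cancel_left h3).1 hz, hc.2⟩
  have h3 : K ⊓ C ≤ Subgroup.center G := fun z hz => Subgroup.mem_center_iff.2 fun g => by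
    obtain ⟨k, hk, c, hc, rfl⟩ := exists_mul_of_le_centralizer hC (h ▸ Subgroup.mem_top g)
    rw [mul_assoc, ← hcc z hz.1 c hc, ← mul_assoc, hcc k hk z hz.2, mul_assoc]
  have h4 := fac_inf_central hM hB hD h3
  have h5 : D ⊓ (K ⊓ C) ≤ W ⊓ K ⊓ (W ⊓ C) := fun z hz => by
    have h6 := hmax z hz.1 fun d _ => (Subgroup.mem_center_iff.1 (h3 hz.2) d).symm
    exact ⟨⟨h6, hz.2.1⟩, h6, hz.2.2⟩
  have h6 := fac_mono (p := p) h5
  have h7 := fac_sup (p := p) (hA W)
  rw [h2] at h7
  obtain ⟨φ, hφ, ψ, hψ, h8⟩ := split (p := p) hC h hχ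
  have h9 := le_df hM kK iK cK dK hφ (hW.sub K)
  have h10 := le_df hM kC iC cC dC hψ (hW.sub C)
  by_cases h11 : D ⊓ K ≤ W
  · have h12 := iC _ _ cC dC ψ hψ _ (hW.sub C) fun h12 =>
      hne (le_antisymm hW.1 (h1.ge.trans (sup_le h11 (le_of_sub_eq h12))))
    rw [card_sub inf_le_right] at h9 h12
    omega
  · have h12 := iK _ _ cK dK φ hφ _ (hW.sub K) fun h12 => h11 (le_of_sub_eq h12)
    rw [card_sub inf_le_right] at h10 h12
    omega

theorem rob_iff {χ : IrrCharacter G} (ha : ¬ Ab D) : Rob p D χ ↔ Sm p D (df p χ) := by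
  have h1 := df_add (p := p) χ
  constructor
  · intro h W hW _
    have h2 : W.subgroupOf D ≤ Subgroup.center D := fun w hw =>
      Subgroup.mem_center_iff.2 fun d => Subtype.ext (hW.2 _ hw d d.2).symm
    have h3 := fac_mono (p := p) h2
    rw [card_sub hW.1] at h3
    change nu p χ + _ < _ at h
    omega
  · intro h
    have h2 : Cn ((Subgroup.center D).map D.subtype) D := ⟨Subgroup.map_subtype_le _, by
      rintro _ ⟨w, hw, rfl⟩ d hd
      exact (congrArg Subtype.val (Subgroup.mem_center_iff.1 hw ⟨d, hd⟩)).symm⟩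
    have h3 := h _ h2 fun h3 => ha fun x hx y hy => h2.2 x (h3.ge hx) y hy
    rw [Subgroup.card_map_of_injective D.subtype_injective] at h3
    change nu p χ + _ < _
    omega

theorem RW.rcg (h : RW p M G) : RCg p M G := fun B D hB hD ha χ hχ =>
  (rob_iff fun h1 => ha (ab_iff.1 h1)).2 (h B D hB hD χ hχ)

theorem step (hK : ∀ (H : Type u) [Group H] [Finite H], PP p M H) (hQ : RQi.{u} p) (hM : IsPModular p M)
    (ih : ∀ (H : Type u) [Group H] [Finite H], Lt H G → RW p M H) : RW p M G := by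
  intro B D hB hD χ hχ
  have := Local.isPrime_of_isPModular hM
  have hp : p.Prime := Fact.out
  have hDp := H592.Defect.isPGroup_of_isDefectGroup hD
  by_contra hne
  have ha : ¬ Ab D := fun h => hne (sm_ab hM (hK G) hB hD h hχ)
  set W := D ⊓ Subgroup.centralizer (D : Set G) with hWd
  have hW : Cn W D := ⟨inf_le_left, fun w hw d hd => (Subgroup.mem_centralizer_iff.1 hw.2 d hd).symm⟩
  have hmax : ∀ x ∈ D, (∀ d ∈ D, x * d = d * x) → x ∈ W := fun x hx h =>
    ⟨hx, Subgroup.mem_centralizer_iff.2 fun d hd => (h d hd).symm⟩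
  have hWD : W ≠ D := fun h => ha fun x hx y hy => hW.2 x (h.ge hx) y hy
  have hbad : ¬ (Nat.card W).factorization p < df p χ := fun h => hne fun V hV _ =>
    (fac_mono fun x hx => hmax x (hV.1 hx) (hV.2 x hx)).trans_lt h
  have hZW : D ⊓ Subgroup.center G ≤ W := fun x hx =>
    hmax x hx.1 fun d _ => (Subgroup.mem_center_iff.1 hx.2 d).symm
  have ihs : ∀ T : Subgroup G, T ≠ ⊤ → RW p M T := fun T hT => ih T (lt_sub T hT)
  have st : ∀ (N : Subgroup G) [N.Normal], IsPBlock M (cov B N) ∧ IsStab (cov B N) ⊤ :=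
    fun N _ => (cov_or hM hB hD hχ N ihs).resolve_left hne
  have hgen : ∀ (N : Subgroup G) [N.Normal], W ≤ N → N ≠ ⊤ → D ⊓ N ≤ W := fun N _ h1 h2 => by
    by_contra h3
    exact hbad (gen hM hB hD (st N).1 (ihs N h2) hχ hW h1 h3)
  have hreg : ∀ (N : Subgroup G) [N.Normal], D ≤ N → N = ⊤ := fun N _ h1 => by
    by_contra h2
    exact hWD (le_antisymm hW.1 ((le_inf le_rfl h1).trans (hgen N (hW.1.trans h1) h2)))
  have h1 : ∀ (N : Subgroup G) [N.Normal], ¬ p ∣ N.index → N = ⊤ := fun N _ h => hreg N fun d hd => by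
    obtain ⟨k, hk⟩ := hDp ⟨d, hd⟩
    refine (QuotientGroup.eq_one_iff d).1 (eq_one_of_coprime (p := p) (k := k) ?_ pow_card_eq_one' h)
    rw [← QuotientGroup.mk_pow, show d ^ p ^ k = 1 from congrArg Subtype.val hk, QuotientGroup.mk_one]
  have h2' : ∀ (N : Subgroup G) [N.Normal], IsPGroup p (G ⧸ N) → N = ⊤ := fun N _ h => by
    by_contra h3
    have : Nontrivial (G ⧸ N) := QuotientGroup.nontrivial_iff.2 h3
    obtain ⟨L, hL, hLi, -⟩ := Lib.CoprimeStab.exists_normal_index_prime (G ⧸ N) h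
    have h4 : (L.comap (QuotientGroup.mk' N)).index = p := by
      rw [Subgroup.index_comap_of_surjective _ (QuotientGroup.mk'_surjective N), hLi]
    refine hbad (idx hM hB hD (st _).1 (ihs _ fun h5 => ?_) h4 hχ hW hmax hWD)
    rw [h5, Subgroup.index_top] at h4
    exact hp.ne_one h4.symm
  have hperf := perfect_of h1 fun N _ ⟨k, hk⟩ => h2' N (IsPGroup.of_card hk)
  have hO : pCore p G ≤ Subgroup.center G := by
    have := Lib.Cores.pCore_normal (G := G) p
    have hOD := S0912.result p M hM B hB D hD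
    have h3 : pCore p G ⊔ Subgroup.centralizer (pCore p G : Set G) = ⊤ := by
      by_contra h3
      have h4 := hgen _ (inf_le_right.trans ((Subgroup.centralizer_le hOD).trans le_sup_right)) h3
      refine h3 (hreg _ (le_trans (fun d hd => Subgroup.mem_centralizer_iff.2 fun x hx => ?_) le_sup_right))
      exact hW.2 x (h4 ⟨hOD hx, Subgroup.mem_sup_left hx⟩) d hd
    refine Subgroup.centralizer_eq_top_iff_subset.1 (h2' _ ((Lib.Cores.pCore_isPGroup (G := G) p).of_surjective
      ((QuotientGroup.mk' _).comp (pCore p G).subtype) fun y => ?_))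
    obtain ⟨g, rfl⟩ := QuotientGroup.mk_surjective y
    obtain ⟨k, hk, c, hc, rfl⟩ := exists_mul_of_le_centralizer le_rfl (h3 ▸ Subgroup.mem_top g)
    exact ⟨⟨k, hk⟩, (QuotientGroup.mk_mul_of_mem k hc).symm⟩
  have hF : ∀ (N : Subgroup G) [N.Normal], D ⊓ N ≤ Subgroup.center G → N ≤ Subgroup.center G := by
    intro N _ h
    by_contra h'
    have h3 := inf_sup_center hM hB hD h
    have h4 : Subgroup.center G < N ⊔ Subgroup.center G :=
      lt_of_le_of_ne le_sup_right fun h5 => h' (h5 ▸ le_sup_left)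
    exact hbad (red hM hB hD (st _).1 (st _).2 (hK _) h3 (fun H _ _ h5 =>
      ih H (Or.inl (h5.trans_lt (Subgroup.index_strictAnti h4)))) hχ hW ((le_inf inf_le_left h3).trans hZW) hWD)
  by_cases hE : layer G = ⊥
  · have := Lib.Cores.fittingSubgroup_normal (G := G)
    have h3 : fittingSubgroup G ≤ Subgroup.center G := by
      refine hF _ fun x hx => ?_
      obtain ⟨k, hk⟩ := hDp ⟨x, hx.1⟩
      exact hO (Lib.GenFitting.mem_pCore_of_mem_fitting hx.2 (congrArg Subtype.val hk))
    have h4 : generalizedFittingSubgroup G ≤ Subgroup.center G := sup_le (hE ▸ bot_le) h3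
    have h5 : Subgroup.center G = ⊤ := by
      rw [eq_top_iff, ← Subgroup.centralizer_eq_top_iff_subset.2 h4]
      exact Lib.GenFitting.centralizer_genFitting_le.trans h4
    exact ha fun x _ y _ => Subgroup.mem_center_iff.1 (h5 ▸ Subgroup.mem_top y) x
  obtain ⟨K, hKc⟩ : ∃ K : Subgroup G, IsComponent K := by
    by_contra h3
    exact hE (le_bot_iff.1 (layer_le_iff.2 fun K hK => absurd ⟨K, hK⟩ h3))
  have hnc : ∀ L : Subgroup G, IsComponent L → ¬ L ≤ Subgroup.centralizer (L : Set G) := fun L hL h =>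
    quasisimple_not_isMulCommutative hL.2 ⟨⟨fun a b => Subtype.ext (Subgroup.mem_centralizer_iff.1 (h b.2) a a.2)⟩⟩
  have hG0 : G0 G = ⊤ := by
    have := layer_normal G
    have := Zd_normal hM hB hD (st _).1
    have h3 := hF _ (inf_Zd hM hB hD (st _).1)
    have := G0_normal (G := G)
    have h4 : ∀ L, IsComponent L → ∃ x ∈ D ⊓ L, ∀ g, g * x = x * g → g ∈ Subgroup.normalizer (L : Set G) := by
      intro L hL
      obtain ⟨x, hx, hx1⟩ := Set.not_subset.1 fun h5 : D ⊓ L ≤ Subgroup.center G =>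
        hnc L hL (((le_sSup (show L ∈ Zd D from ⟨hL, h5⟩)).trans h3).trans (Subgroup.center_le_centralizer _))
      exact ⟨x, hx, fun g hg => norm_comp hO hL hx.2 hx1 (hDp.to_le (Subgroup.zpowers_le.2 hx.1)) hg⟩
    by_contra h5
    have h6 := hgen (G0 G) (fun g hg => mem_G0.2 fun L hL => by
      obtain ⟨x, hx, h7⟩ := h4 L hL
      exact h7 g (hW.2 g hg x hx.1)) h5
    refine h5 (hreg _ fun g hg => mem_G0.2 fun L hL => ?_)
    obtain ⟨x, hx, h7⟩ := h4 L hL
    exact h7 g (hW.2 x (h6 ⟨hx.1, mem_G0.2 fun L' hL' =>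
      layer_le_normalizer_component hL' (component_le_layer hL hx.2)⟩) g hg).symm
  have hKn : K.Normal := by
    rw [← Subgroup.normalizer_eq_top_iff, eq_top_iff]
    exact fun g _ => mem_G0.1 (hG0 ▸ Subgroup.mem_top g) K hKc
  by_cases hKt : K = ⊤
  · have hq : IsQuasisimple G := isQuasisimple_of_mulEquiv ((MulEquiv.subgroupCongr hKt).trans Subgroup.topEquiv) hKc.2
    have hf : ∀ z ∈ Subgroup.center G, (χ : G → ℂ) z = (χ : G → ℂ) 1 → z = 1 := by
      intro z hz h
      by_contra h'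
      have := zpowers_normal hz
      exact hbad (quot hM hB hD (Subgroup.zpowers_le.2 hz) (fun h3 => h' (Subgroup.zpowers_eq_bot.1 h3))
        (fun V _ hV => ih _ (lt_quot V hV)) hχ (triv_zpowers χ hz h) hW
        ((inf_le_inf_left D (Subgroup.zpowers_le.2 hz)).trans hZW) hWD)
    exact hne ((rob_iff ha).1 (hQ M hM G hq (cyclic_center χ hf) (fun H _ _ h => (ih H (Or.inl h)).rcg) B D hB hD
      (fun h => ha (ab_iff.2 h)) χ hχ hf))
  · exact hbad (prod hM hB hD le_rfl (sup_centralizer_eq_top hperf hKc) (st _).1 (st _).1 (hK _) (hK _)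
      (ihs K hKt) (ihs _ fun h => hnc K hKc (h ▸ le_top)) hχ hW hmax hWD)

theorem rw_of (hK : ∀ (H : Type u) [Group H] [Finite H], PP p M H) (hQ : RQi.{u} p) (hM : IsPModular p M) (m : ℕ) :
    ∀ (n : ℕ) (G : Type u) [Group G] [Finite G], (Subgroup.center G).index ≤ m → Nat.card G ≤ n → RW p M G := by
  induction m using Nat.strong_induction_on with
  | _ m ihm =>
    intro n
    induction n using Nat.strong_induction_on with
    | _ n ihn =>
      intro G _ _ h1 h2
      refine step hK hQ hM fun H _ _ h => ?_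
      rcases h with h | ⟨h, h'⟩
      · exact ihm _ (h.trans_le h1) _ H le_rfl le_rfl
      · exact ihn _ (h'.trans_le h2) H (h.trans h1) le_rfl

theorem RW.of_equiv (hM : IsPModular p M) {H : Type v} [Group H] [Finite H] (e : H ≃* G) (h : RW p M H) :
    RW p M G := by
  have := Local.isPrime_of_isPModular hM
  intro B D hB hD χ hχ
  obtain ⟨ψ, hψ, h1⟩ := df_of_cnt (fun d => (cnt_trSet p e B d).symm) hχ
  have h2 := (h _ _ (H592.Transport.isPBlock_trSet e hB) (H592.Transport.isDefectGroup_trSet e hD) ψ hψ).map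
    (f := e.toMonoidHom) e.injective
  rwa [Subgroup.map_comap_eq_self_of_surjective e.surjective, h1] at h2

theorem kmp_univ (h : KMp.{v} p) : KMp.{u} p := by
  intro M hM G _ _
  have : Small.{v} G := Countable.toSmall G
  have : Finite (Shrink.{v} G) := Finite.of_equiv G (equivShrink.{v} G)
  exact pp_iff.1 (PP.of_equiv hM Shrink.mulEquiv (pp_iff.2 (h M hM (Shrink.{v} G))))

/-- **The reduction to quasisimple groups.** -/
theorem rcp_of' (hK : KMp.{w} p) (hQ : RQi.{v} p) : RCp.{u} p := by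
  intro M hM G _ _
  have : Small.{v} G := Countable.toSmall G
  have : Finite (Shrink.{v} G) := Finite.of_equiv G (equivShrink.{v} G)
  exact (RW.of_equiv hM Shrink.mulEquiv
    (rw_of (fun H _ _ => pp_iff.2 (kmp_univ hK M hM H)) hQ hM _ _ (Shrink.{v} G) le_rfl le_rfl)).rcg

theorem rcp_of (hK : KMp.{w} p) (hQ : RQp.{v} p) : RCp.{u} p := rcp_of' hK hQ.rqi

/-- **S4576 from the theorem of Kessar and Malle and the quasisimple case.** -/
theorem s4576_of' (hK : KMp.{w} p) (hQ : RQi.{v} p) (M : Ideal AlgInt) (hM : IsPModular p M)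
    (B : Set (IrrCharacter G)) (hB : IsPBlock M B) (D : Subgroup G) (hD : IsDefectGroup p M B D)
    (χ : IrrCharacter G) (hχ : χ ∈ B) :
    blockHeight p B (χ : G → ℂ) ≤ ((Subgroup.center D).index).factorization p ∧
      (blockHeight p B (χ : G → ℂ) = ((Subgroup.center D).index).factorization p ↔ IsMulCommutative D) := by
  by_cases ha : IsMulCommutative D
  · have h1 : Subgroup.center D = ⊤ := eq_top_iff.2 fun x _ =>
      Subgroup.mem_center_iff.2 fun y => ha.is_comm.comm y x
    rw [kmp_univ hK M hM G B D hB hD ha χ hχ, h1, Subgroup.index_top, Nat.factorization_one]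
    exact ⟨le_rfl, fun _ => ha, fun _ => rfl⟩
  · have h1 := rcp_of' hK hQ M hM G B D hB hD ha χ hχ
    have h2 := fac_mul (p := p) (Subgroup.center D).card_mul_index Nat.card_pos.ne'
    have h3 := H592.Defect.factorization_card_defect p hM hB hD
    have h4 : sInf ((fun ψ : IrrCharacter G => (charDegree (ψ : G → ℂ)).factorization p) '' B) ≤
        (charDegree (χ : G → ℂ)).factorization p := Nat.sInf_le ⟨_, hχ, rfl⟩
    unfold Rob at h1
    unfold blockDefect at h3
    unfold blockHeight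
    exact ⟨by omega, fun h => by omega, fun h => absurd h ha⟩

theorem s4576_of (hK : KMp.{w} p) (hQ : RQp.{v} p) (M : Ideal AlgInt) (hM : IsPModular p M)
    (B : Set (IrrCharacter G)) (hB : IsPBlock M B) (D : Subgroup G) (hD : IsDefectGroup p M B D)
    (χ : IrrCharacter G) (hχ : χ ∈ B) :
    blockHeight p B (χ : G → ℂ) ≤ ((Subgroup.center D).index).factorization p ∧
      (blockHeight p B (χ : G → ℂ) = ((Subgroup.center D).index).factorization p ↔ IsMulCommutative D) :=
  s4576_of' hK hQ.rqi M hM B hB D hD χ hχ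

end Cfsg.Agent.KM.Mu
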